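import Cfsg.Agent.Lib.Blocks.SubpairLocal
import Cfsg.Agent.Lib.Fusion.Saturation
import Cfsg.Agent.Lib.Fusion.Alperin
import Cfsg.Prelude.Def_BlockFusion

/-!
# The fusion system of a block is saturated
-/

namespace Cfsg.Lib.Blocks

open Cfsg.Lib.Characters Finset
open Cfsg.FusionSystem (normalizerIn centralizerIn)
open Cfsg.Lib.Fusion (Mor autFun img extN)
open scoped ComplexConjugate Classical Pointwise

set_option linter.unusedSectionVars false
set_option linter.style.haveILetI false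
set_option linter.style.longLine false

universe u

variable {G : Type u} [Group G] [Fintype G] {M : Ideal Cfsg.AlgInt} [M.IsPrime]
variable {p : ℕ} [Fact p.Prime]

local notation "𝐂" Q:max => Subgroup.centralizer ((Q : Subgroup G) : Set G)

/-! ### Pairs as elements of the index type -/

theorem pairIdx_ext {Q Q' : Subgroup G} {f : Set (IrrCharacter (𝐂 Q))} {f' : Set (IrrCharacter (𝐂 Q'))}
    (hQ : Q = Q') (hf : IsPBlock M f) (hf' : IsPBlock M f') (h : subE M Q f = subE M Q' f') :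
    (⟨Q, f⟩ : BrauerPairIdx G) = ⟨Q', f'⟩ := by
  subst hQ
  rw [subE_inj hf hf' h]

theorem subpairLE_congr_left {Q Q' P : Subgroup G} {f : Set (IrrCharacter (𝐂 Q))}
    {f' : Set (IrrCharacter (𝐂 Q'))} {e : Set (IrrCharacter (𝐂 P))}
    (heq : (⟨Q, f⟩ : BrauerPairIdx G) = ⟨Q', f'⟩) (h : SubpairLE p M Q f P e) :
    SubpairLE p M Q' f' P e := by
  show Relation.ReflTransGen _ _ _
  rw [← heq]
  exact h

theorem subpairLE_congr_right {Q P P' : Subgroup G} {f : Set (IrrCharacter (𝐂 Q))}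
    {e : Set (IrrCharacter (𝐂 P))} {e' : Set (IrrCharacter (𝐂 P'))}
    (heq : (⟨P, e⟩ : BrauerPairIdx G) = ⟨P', e'⟩) (h : SubpairLE p M Q f P e) :
    SubpairLE p M Q f P' e' := by
  show Relation.ReflTransGen _ _ _
  rw [← heq]
  exact h

theorem pairIdx_unique (hM : IsPModular p M) {P : Subgroup G} {e : Set (IrrCharacter (𝐂 P))}
    (he : IsBrauerPair p M P e) {Q Q' : Subgroup G} {f : Set (IrrCharacter (𝐂 Q))}
    {f' : Set (IrrCharacter (𝐂 Q'))} (hQ : Q = Q') (h : SubpairLE p M Q f P e)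
    (h' : SubpairLE p M Q' f' P e) : (⟨Q, f⟩ : BrauerPairIdx G) = ⟨Q', f'⟩ := by
  subst hQ
  rw [subpair_unique hM he h h']

theorem subE_eq_of_idx {Q Q' : Subgroup G} {f : Set (IrrCharacter (𝐂 Q))}
    {f' : Set (IrrCharacter (𝐂 Q'))} (h : (⟨Q, f⟩ : BrauerPairIdx G) = ⟨Q', f'⟩) :
    subE M Q f = subE M Q' f' := by
  obtain ⟨rfl, h2⟩ := Sigma.mk.inj_iff.mp h
  rw [eq_of_heq h2]

theorem conjBlock_conjBlock {Q : Subgroup G} {f : Set (IrrCharacter (𝐂 Q))} (hf : IsPBlock M f) (x y : G) :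
    (⟨(Q.map (MulAut.conj x).toMonoidHom).map (MulAut.conj y).toMonoidHom,
        conjBlock (Q.map (MulAut.conj x).toMonoidHom) y (conjBlock Q x f)⟩ : BrauerPairIdx G)
      = ⟨Q.map (MulAut.conj (y * x)).toMonoidHom, conjBlock Q (y * x) f⟩ :=
  pairIdx_ext (M := M) (conjSub_conjSub y x Q) (isPBlock_conjBlock (isPBlock_conjBlock hf x) y)
    (isPBlock_conjBlock hf _)
    (by rw [subE_conjBlock (isPBlock_conjBlock hf x), subE_conjBlock hf, subE_conjBlock hf, cjE_cjE])

theorem conjBlock_eq_self {Q : Subgroup G} {f : Set (IrrCharacter (𝐂 Q))} (hf : IsPBlock M f) {x : G}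
    (hx : x ∈ pairStab M ⊤ Q f) :
    (⟨Q.map (MulAut.conj x).toMonoidHom, conjBlock Q x f⟩ : BrauerPairIdx G) = ⟨Q, f⟩ :=
  pairIdx_ext (M := M) (by
      ext a
      rw [mem_map_conj, Subgroup.mem_normalizer_iff.mp hx.2.1 (x⁻¹ * a * x)]
      simp [mul_assoc])
    (isPBlock_conjBlock hf x) hf (by rw [subE_conjBlock hf]; exact hx.2.2)

theorem conj_subpair_of_mem (hM : IsPModular p M) {P Q : Subgroup G} {e : Set (IrrCharacter (𝐂 P))}
    {f : Set (IrrCharacter (𝐂 Q))} (he : IsBrauerPair p M P e) (h : SubpairLE p M Q f P e) {a : G}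
    (ha : a ∈ P) : SubpairLE p M (Q.map (MulAut.conj a).toMonoidHom) (conjBlock Q a f) P e :=
  subpairLE_congr_right (conjBlock_eq_self he.2 (le_pairStab_self le_top e ha)) (subpairLE_conj hM h a)

/-! ### The system -/

variable (M) in
/-- The maps of the fusion system of a maximal pair. -/
def blockHom (p : ℕ) (P : Subgroup G) (e : Set (IrrCharacter (𝐂 P))) (Q : Subgroup G) :
    Set (Q →* G) :=
  {φ | Q ≤ P ∧ ∃ g : G, (∀ u : Q, φ u = g * (u : G) * g⁻¹) ∧
    Q.map (MulAut.conj g).toMonoidHom ≤ P ∧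
    ∃ f : Set (IrrCharacter (𝐂 Q)), SubpairLE p M Q f P e ∧
      SubpairLE p M (Q.map (MulAut.conj g).toMonoidHom) (conjBlock Q g f) P e}

theorem exists_blockFusionSystem (hM : IsPModular p M) {B : Set (IrrCharacter G)} {P : Subgroup G}
    {e : Set (IrrCharacter (𝐂 P))} (hmax : IsMaximalBrauerPair p M B P e) :
    ∃ F : FusionSystem P, IsBlockFusionSystemOn p M B P e F := by
  refine ⟨{ Hom := blockHom M p P e, le_of_mem := ?_, injective_of_mem := ?_, conj_mem := ?_,
            comp_mem := ?_, inv_mem := ?_ }, hmax, fun Q φ => Iff.rfl⟩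
  · rintro Q φ ⟨hQ, g, hg, hgQ, -⟩
    exact ⟨hQ, fun u => hgQ ⟨u, u.2, (hg u).symm⟩⟩
  · rintro Q φ ⟨-, g, hg, -⟩ a b hab
    exact Subtype.ext (mul_left_cancel (mul_right_cancel ((hg a).symm.trans (hab.trans (hg b)))))
  · intro Q g hQ hg
    obtain ⟨f, -, hle⟩ := exists_subpair hM hmax.1.1 hQ
    have h := conj_subpair_of_mem hM hmax.1.1 hle hg
    exact ⟨hQ, g, fun u => rfl, subpairLE_le h, f, hle, h⟩
  · rintro R Q φ ψ ⟨hR, g, hg, -, f, hf, hgf⟩ ⟨-, k, hk, -, f₁, hf₁, hkf₁⟩ h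
    have hgQ : R.map (MulAut.conj g).toMonoidHom ≤ Q := by
      rintro _ ⟨u, hu, rfl⟩
      have := h ⟨u, hu⟩
      rwa [hg] at this
    have h1 := subpair_le_of_le hM hmax.1.1 hgQ hgf hf₁
    have h2 := subpairLE_congr_left (conjBlock_conjBlock (subpairLE_isBrauerPair hf hmax.1.1).2 g k)
      (subpairLE_trans (subpairLE_conj hM h1 k) hkf₁)
    refine ⟨hR, k * g, fun u => ?_, subpairLE_le h2, f, hf, h2⟩
    show ψ (φ.codRestrict Q h u) = k * g * (u : G) * (k * g)⁻¹
    rw [hk]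
    show k * φ u * k⁻¹ = _
    rw [hg, mul_inv_rev]
    simp only [mul_assoc]
  · rintro R φ ⟨hR, g, hg, hgR, f, hf, hgf⟩
    have hrange : R.map (MulAut.conj g).toMonoidHom = φ.range := by
      refine le_antisymm ?_ ?_
      · rintro _ ⟨u, hu, rfl⟩
        exact ⟨⟨u, hu⟩, hg _⟩
      · rintro _ ⟨u, rfl⟩
        exact ⟨u, u.2, (hg u).symm⟩
    obtain ⟨f', -, hf'⟩ := exists_subpair hM hmax.1.1 (hrange ▸ hgR : φ.range ≤ P)
    have hf'B := (subpairLE_isBrauerPair hf' hmax.1.1).2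
    have hfB := (subpairLE_isBrauerPair hf hmax.1.1).2
    have heq := pairIdx_unique hM hmax.1.1 hrange.symm hf' hgf
    have hback : (⟨φ.range.map (MulAut.conj g⁻¹).toMonoidHom, conjBlock φ.range g⁻¹ f'⟩ : BrauerPairIdx G)
        = ⟨R, f⟩ := by
      refine pairIdx_ext (M := M) ?_ (isPBlock_conjBlock hf'B _) hfB ?_
      · rw [← hrange]
        show conjSub g⁻¹ (conjSub g R) = R
        rw [conjSub_conjSub, inv_mul_cancel, conjSub_one]
      · rw [subE_conjBlock hf'B, subE_eq_of_idx heq, subE_conjBlock hfB, cjE_cjE, inv_mul_cancel, cjE_one]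
    have h2 := subpairLE_congr_left hback.symm hf
    refine ⟨conjHom φ.range g⁻¹, ⟨hrange ▸ hgR, g⁻¹, fun u => rfl, subpairLE_le h2, f', hf', h2⟩, fun u => ?_⟩
    show g⁻¹ * φ u * g⁻¹⁻¹ = u
    rw [hg, inv_inv]
    simp only [mul_assoc, inv_mul_cancel, mul_one, inv_mul_cancel_left]

/-! ### Automorphism groups -/

variable {B : Set (IrrCharacter G)} {P Q : Subgroup G} {e : Set (IrrCharacter (Subgroup.centralizer (P : Set G)))}
variable {F : FusionSystem P} {f : Set (IrrCharacter (Subgroup.centralizer (Q : Set G)))}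

theorem isConj_iff_block (hM : IsPModular p M) (hF : IsBlockFusionSystemOn p M B P e F)
    (hle : SubpairLE p M Q f P e) {Q' : Subgroup G} :
    F.IsConj Q Q' ↔ ∃ g : G, Q.map (MulAut.conj g).toMonoidHom = Q' ∧
      SubpairLE p M (Q.map (MulAut.conj g).toMonoidHom) (conjBlock Q g f) P e := by
  constructor
  · rintro ⟨φ, hφ, rfl⟩
    obtain ⟨-, g, hg, -, f', hf', hgf⟩ := (hF.2 Q φ).mp hφ
    rw [subpair_unique hM hF.1.1.1 hf' hle] at hgf
    refine ⟨g, le_antisymm ?_ ?_, hgf⟩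
    · rintro _ ⟨u, hu, rfl⟩
      exact ⟨⟨u, hu⟩, hg _⟩
    · rintro _ ⟨u, rfl⟩
      exact ⟨u, u.2, (hg u).symm⟩
  · rintro ⟨g, rfl, hgf⟩
    refine ⟨conjHom Q g, (hF.2 Q _).mpr ⟨subpairLE_le hle, g, fun u => rfl, subpairLE_le hgf, f, hle, hgf⟩,
      le_antisymm ?_ ?_⟩
    · rintro _ ⟨u, rfl⟩
      exact ⟨u, u.2, rfl⟩
    · rintro _ ⟨u, hu, rfl⟩
      exact ⟨⟨u, hu⟩, rfl⟩

/-- The automorphisms of a pair's subgroup are induced by its stabilizer. -/
theorem autGroup_eq_stab (hM : IsPModular p M) (hF : IsBlockFusionSystemOn p M B P e F)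
    (hle : SubpairLE p M Q f P e) :
    F.autGroup Q = autInducedBy (pairStab M ⊤ Q f) Q := by
  have hf := (subpairLE_isBrauerPair hle hF.1.1.1).2
  have hQP := subpairLE_le hle
  ext α
  rw [Fusion.mem_autGroup_iff_hom hQP, hF.2, Fusion.mem_autInducedBy_iff]
  constructor
  · rintro ⟨-, g, hg, hgP, f', hf', hgf⟩
    rw [subpair_unique hM hF.1.1.1 hf' hle] at hgf
    have hgQ : Q.map (MulAut.conj g).toMonoidHom = Q := by
      refine Subgroup.eq_of_le_of_card_ge ?_ (card_conjSub g Q).ge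
      rintro _ ⟨u, hu, rfl⟩
      have := (α ⟨u, hu⟩).2
      have h1 : ((α ⟨u, hu⟩ : Q) : G) = g * u * g⁻¹ := hg ⟨u, hu⟩
      rwa [h1] at this
    refine ⟨g, ⟨trivial, ?_, ?_⟩, fun x hx => (Fusion.autFun_apply α hx).trans (hg ⟨x, hx⟩)⟩
    · rw [Subgroup.mem_normalizer_iff]
      intro a
      conv_rhs => rw [← hgQ, mem_map_conj]
      simp [mul_assoc]
    · rw [← subE_conjBlock hf g]
      exact subE_eq_of_idx (pairIdx_unique hM hF.1.1.1 hgQ hgf hle)
  · rintro ⟨g, hg, hgα⟩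
    have h := subpairLE_congr_left (conjBlock_eq_self hf hg).symm hle
    exact ⟨hQP, g, fun u => (Fusion.autFun_coe α u).symm.trans (hgα u u.2), subpairLE_le h, f, hle, h⟩

theorem autInducedBy_inf_normalizer (P Q : Subgroup G) :
    autInducedBy (P ⊓ Subgroup.normalizer (Q : Set G)) Q = autInducedBy P Q := by
  refine le_antisymm (Fusion.autInducedBy_mono inf_le_left) fun α hα => ?_
  rw [← Fusion.range_conjAut] at hα
  obtain ⟨c, rfl⟩ := hα
  exact Fusion.mem_autInducedBy_iff.mpr ⟨c, c.2, fun x hx => Fusion.autFun_conjAut c hx⟩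

/-- The image in the automorphisms of a Sylow subgroup. -/
theorem exists_pGroup_autInducedBy (W Q : Subgroup G) (hW : W ≤ Subgroup.normalizer (Q : Set G)) :
    ∃ S : Subgroup G, IsPGroup p S ∧ S ≤ W ∧
      Nat.card (autInducedBy S Q) = p ^ (Nat.card (autInducedBy W Q)).factorization p := by
  let φ : W →* MulAut Q := (Fusion.conjAut W Q).comp (Subgroup.inclusion (le_inf le_rfl hW : W ≤ normalizerIn W Q))
  have hφ : ∀ (w : W) (x : G), x ∈ Q → autFun (φ w) x = w * x * (w : G)⁻¹ := fun w x hx =>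
    Fusion.autFun_conjAut _ hx
  have hmap : ∀ K : Subgroup G, K ≤ W → (K.subgroupOf W).map φ = autInducedBy K Q := by
    intro K hK
    ext α
    rw [Fusion.mem_autInducedBy_iff]
    constructor
    · rintro ⟨w, hw, rfl⟩
      exact ⟨w, hw, fun x hx => hφ w x hx⟩
    · rintro ⟨c, hc, h⟩
      exact ⟨⟨c, hK hc⟩, hc, Fusion.aut_ext fun x hx => by rw [hφ _ x hx, h x hx]⟩
  obtain ⟨S₀⟩ : Nonempty (Sylow p W) := inferInstance
  refine ⟨(S₀ : Subgroup W).map W.subtype, S₀.2.map _, Subgroup.map_subtype_le _, ?_⟩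
  have hr : φ.range = autInducedBy W Q := by
    rw [← hmap W le_rfl, Subgroup.subgroupOf_self, MonoidHom.range_eq_map]
  rw [← hmap _ (Subgroup.map_subtype_le _),
    show ((S₀ : Subgroup W).map W.subtype).subgroupOf W = (S₀ : Subgroup W) from
      Subgroup.comap_map_eq_self_of_injective W.subtype_injective _, ← hr]
  have h1 : ((S₀ : Subgroup W).map φ.rangeRestrict).map φ.range.subtype = (S₀ : Subgroup W).map φ := by
    rw [Subgroup.map_map]
    rfl
  rw [← h1, Subgroup.card_map_of_injective φ.range.subtype_injective,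
    ← (Sylow.mapSurjective φ.rangeRestrict_surjective S₀).card_eq_multiplicity]
  rfl

theorem isPGroup_autInd {S : Subgroup G} (hS : IsPGroup p S) (Q : Subgroup G) :
    IsPGroup p (autInducedBy S Q) := Fusion.isPGroup_autInducedBy hS

theorem card_autInd_le {S W Q : Subgroup G} (hS : IsPGroup p S) (hSW : S ≤ W) :
    Nat.card (autInducedBy S Q) ≤ p ^ (Nat.card (autInducedBy W Q)).factorization p := by
  obtain ⟨m, hm⟩ := IsPGroup.iff_card.mp (isPGroup_autInd hS Q)
  rw [hm]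
  refine Nat.pow_le_pow_right (Fact.out : p.Prime).pos ?_
  rw [← (Fact.out : p.Prime).pow_dvd_iff_le_factorization Nat.card_pos.ne', ← hm]
  exact Subgroup.card_dvd_of_le (Fusion.autInducedBy_mono hSW)

theorem card_autInd_conj {Q : Subgroup G} {t : G} (ht : t ∈ Subgroup.normalizer (Q : Set G))
    {U : Subgroup G} (hU : U ≤ Subgroup.normalizer (Q : Set G)) :
    Nat.card (autInducedBy (conjSub t U) Q) = Nat.card (autInducedBy U Q) := by
  have hU' : conjSub t U ≤ Subgroup.normalizer (Q : Set G) := fun y hy => by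
    have := mul_mem (mul_mem ht (hU (mem_conjSub.mp hy))) (inv_mem ht)
    rwa [show t * (t⁻¹ * y * t) * t⁻¹ = y by group] at this
  have hN : ∀ K : Subgroup G, K ≤ Subgroup.normalizer (Q : Set G) → normalizerIn K Q = K :=
    fun K hK => inf_eq_left.mpr hK
  have hC : conjSub t (centralizerIn U Q) = centralizerIn (conjSub t U) Q := by
    ext y
    simp only [centralizerIn, mem_conjSub, Subgroup.mem_inf]
    refine and_congr_right fun _ => ?_
    have h := Subgroup.mem_normalizer_iff.mp (normalizer_le_normalizer_centralizer' Q ht) (t⁻¹ * y * t)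
    rwa [show t * (t⁻¹ * y * t) * t⁻¹ = y by group] at h
  refine Nat.eq_of_mul_eq_mul_right (Nat.card_pos : 0 < Nat.card (centralizerIn U Q)) ?_
  conv_lhs => rw [← card_conjSub t (centralizerIn U Q), hC, Fusion.card_autInducedBy_mul, hN _ hU', card_conjSub]
  rw [Fusion.card_autInducedBy_mul, hN _ hU]

theorem classSum_congr {H : Type*} [Group H] [Fintype H] {R : Type*} [CommRing R] {a b : H}
    (h : _root_.IsConj a b) : classSum R a = classSum R b := gr_ext fun x => by
  rw [coeff_classSum, coeff_classSum]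
  exact if_congr ⟨fun h' => h.symm.trans h', fun h' => h.trans h'⟩ rfl rfl

theorem sum_classes_lam {A : Type*} [Group A] [Fintype A] (χ : IrrCharacter A)
    (u : MonoidAlgebra (ResF M) A) :
    ∑ K : ConjClasses A, u.coeff (cOut K) * lam M χ (classSum (ResF M) (cOut K)) = lam M χ u := by
  conv_rhs => rw [lam]
  exact Finset.sum_congr rfl fun K _ => by rw [lam_classSum]

/-- A class function with nonzero sum over classes is nonzero at a class fixed by a `p`-group. -/
theorem exists_fixed_class {A : Type*} [Group A] [Fintype A] {S : Type*} [Group S] [Finite S]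
    {R : Type*} [CommRing R] (hS : IsPGroup p S) (hR : (p : R) = 0) (ρ : S →* MulAut A) (Φ : A → R)
    (hΦ : ∀ a b : A, _root_.IsConj a b → Φ a = Φ b) (hinv : ∀ s a, Φ (ρ s a) = Φ a)
    (hsum : ∑ K : ConjClasses A, Φ (cOut K) ≠ 0) :
    ∃ a : A, Φ a ≠ 0 ∧ ∀ s, _root_.IsConj (ρ s a) a := by
  let act : MulAction S (ConjClasses A) :=
    { smul := fun s K => ConjClasses.map (ρ s).toMonoidHom K
      one_smul := fun K => by
        induction K using Quotient.ind with
        | _ c =>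
          show ConjClasses.mk (ρ 1 c) = ConjClasses.mk c
          rw [map_one]; rfl
      mul_smul := fun s t K => by
        induction K using Quotient.ind with
        | _ c =>
          show ConjClasses.mk (ρ (s * t) c) = ConjClasses.mk (ρ s (ρ t c))
          rw [map_mul]; rfl }
  have hsmul : ∀ (s : S) (c : A), s • ConjClasses.mk c = ConjClasses.mk (ρ s c) := fun _ _ => rfl
  have hout : ∀ c : A, Φ (cOut (ConjClasses.mk c)) = Φ c := fun c => hΦ _ _ (out_isConj c)
  rw [sum_eq_sum_fixed hS hR (fun K => Φ (cOut K)) (fun s K => by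
    rw [← mk_cOut K, hsmul, hout, hout, hinv])] at hsum
  obtain ⟨K, hK, hne⟩ := Finset.exists_ne_zero_of_sum_ne_zero hsum
  refine ⟨cOut K, hne, fun s => ConjClasses.mk_eq_mk_iff_isConj.mp ?_⟩
  rw [← hsmul, mk_cOut]
  exact (Finset.mem_filter.mp hK).2 s

/-- A `p`-subgroup of the stabilizer fixes a class in the support of the block idempotent. -/
theorem exists_coeff_fixed (hM : IsPModular p M) (hf : IsPBlock M f) {S : Subgroup G}
    (hS : IsPGroup p S) (hST : S ≤ pairStab M ⊤ Q f) :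
    ∃ c ∈ 𝐂 Q, (subE M Q f).coeff c ≠ 0 ∧ ∀ s ∈ S, ∃ c₀ ∈ 𝐂 Q, c₀ * s * c = c * (c₀ * s) := by
  obtain ⟨η, hη⟩ := IsPBlock.nonempty hf
  have hC : ∀ s : S, (s : G) ∈ Subgroup.normalizer (𝐂 Q : Set G) := fun s =>
    normalizer_le_normalizer_centralizer' Q (hST s.2).2.1
  let ρ : S →* MulAut (𝐂 Q) :=
    { toFun := fun s => normConj (𝐂 Q) (hC s)
      map_one' := MulEquiv.ext fun c => Subtype.ext (by simp)
      map_mul' := fun s t => MulEquiv.ext fun c => Subtype.ext (by simp [mul_assoc]) }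
  obtain ⟨a, hne, hfix⟩ := exists_fixed_class hS (red_p hM) ρ
    (fun c => (bIdem M f).coeff c * lam M η (classSum (ResF M) c))
    (fun a b h => by rw [(isClassElt_bIdem f).eq_of_isConj h, classSum_congr h])
    (fun s c => by
      obtain ⟨hh, hpull⟩ := (stabilizesBlock_iff f (s : G)).mp
        ((stabilizesBlock_iff_cjE hf (hST s.2).2.1).mpr (hST s.2).2.2)
      have hρ : ρ s c = normConj (𝐂 Q) hh c := rfl
      have h1 : (bIdem M f).coeff (normConj (𝐂 Q) hh c) = (bIdem M f).coeff c := by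
        conv_rhs => rw [← hpull, bIdem_pull _ hf, coeff_pullElt]
      have h3 : pullElt (normConj (𝐂 Q) hh) (classSum (ResF M) (normConj (𝐂 Q) hh c))
          = classSum (ResF M) c := by
        refine gr_ext fun x => ?_
        rw [coeff_pullElt, coeff_classSum, coeff_classSum]
        by_cases hx : _root_.IsConj c x
        · rw [if_pos hx, if_pos (show _root_.IsConj (normConj (𝐂 Q) hh c) (normConj (𝐂 Q) hh x) from
            (normConj (𝐂 Q) hh).toMonoidHom.map_isConj hx)]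
        · rw [if_neg hx, if_neg fun h => hx (by
            simpa using (normConj (𝐂 Q) hh).symm.toMonoidHom.map_isConj h)]
      rw [hρ, h1]
      congr 1
      rw [← lam_pull (normConj (𝐂 Q) hh) η (isClassElt_classSum _ _), h3]
      refine IsPBlock.lam_eq hf ?_ hη _
      have h4 := (mem_pullBlock (normConj (𝐂 Q) hh) f η).mpr hη
      rwa [hpull] at h4)
    (by
      have h1' := sum_classes_lam (M := M) η (bIdem M f)
      rw [lam_bIdem hf η, if_pos hη] at h1'
      rw [h1']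
      exact one_ne_zero)
  refine ⟨(a : G), a.2, ?_, fun s hs => ?_⟩
  · rw [← bIdem_eq_subE]
    exact left_ne_zero_of_mul hne
  · obtain ⟨d, hd⟩ := isConj_iff.mp (hfix ⟨s, hs⟩)
    have hd' : (d : G) * (s * (a : G) * s⁻¹) * (d : G)⁻¹ = (a : G) := congrArg Subtype.val hd
    refine ⟨d, d.2, ?_⟩
    conv_rhs => rw [← hd']
    group

/-- The defect group of the stabilizer surjects on a Sylow subgroup of the induced automorphisms. -/
theorem card_autInd_brMax (hM : IsPModular p M) (hfp : IsBrauerPair p M Q f) {D : Subgroup G}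
    (hD : IsBrMax p (pairStab M ⊤ Q f) (subE M Q f) D) :
    Nat.card (autInducedBy D Q) = p ^ (Nat.card (autInducedBy (pairStab M ⊤ Q f) Q)).factorization p := by
  set T := pairStab M ⊤ Q f with hT
  have hTN : T ≤ Subgroup.normalizer (Q : Set G) := pairStab_le_normalizer f
  obtain ⟨S, hSp, hST, hScard⟩ := exists_pGroup_autInducedBy (p := p) T Q hTN
  obtain ⟨c, hc, hne, hfix⟩ := exists_coeff_fixed hM hfp.2 hSp hST
  set W := T ⊓ Subgroup.centralizer ({c} : Set G)
  have hle : autInducedBy S Q ≤ autInducedBy W Q := by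
    intro α hα
    obtain ⟨s, hs, hsα⟩ := Fusion.mem_autInducedBy_iff.mp hα
    obtain ⟨c₀, hc₀, hcomm⟩ := hfix s hs
    refine Fusion.mem_autInducedBy_iff.mpr ⟨c₀ * s,
      ⟨mul_mem (centralizer_le_pairStab Q f hc₀) (hST hs), Subgroup.mem_centralizer_singleton_iff.mpr hcomm⟩,
      fun x hx => ?_⟩
    rw [hsα x hx]
    have hy : s * x * s⁻¹ ∈ Q := (Subgroup.mem_normalizer_iff.mp (hTN (hST hs)) x).mp hx
    have h1 := Subgroup.mem_centralizer_iff.mp hc₀ _ hy
    calc s * x * s⁻¹ = (s * x * s⁻¹) * c₀ * c₀⁻¹ := by group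
      _ = c₀ * (s * x * s⁻¹) * c₀⁻¹ := by rw [h1]
      _ = c₀ * s * x * (c₀ * s)⁻¹ := by group
  obtain ⟨U, hUp, hUW, hUcard⟩ := exists_pGroup_autInducedBy (p := p) W Q (inf_le_left.trans hTN)
  obtain ⟨F₀, hF₀, -, hb⟩ := exists_block_stab hM hfp (centralizer_le_pairStab Q f)
    (le_pairStab_self le_top f) le_rfl
  obtain ⟨t, ht, htU⟩ := exists_conj_isBrMax hM hF₀
    (fun g hg => coeff_subE_notMem Q f fun h => hg (centralizer_le_pairStab Q f h)) hb hD hUp
    (hUW.trans inf_le_left)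
    ⟨c, Subgroup.mem_centralizer_iff.mpr fun u hu => Subgroup.mem_centralizer_singleton_iff.mp (hUW hu).2, hne⟩
  have hpos : (1 : ℕ) < p := (Fact.out : p.Prime).one_lt
  refine le_antisymm (card_autInd_le hD.1 hD.2.1) ?_
  calc p ^ (Nat.card (autInducedBy T Q)).factorization p = Nat.card (autInducedBy S Q) := hScard.symm
    _ ≤ p ^ (Nat.card (autInducedBy W Q)).factorization p := by
        obtain ⟨m, hm⟩ := IsPGroup.iff_card.mp (isPGroup_autInd hSp Q)
        rw [hm]
        refine Nat.pow_le_pow_right (Fact.out : p.Prime).pos ?_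
        rw [← (Fact.out : p.Prime).pow_dvd_iff_le_factorization Nat.card_pos.ne', ← hm]
        exact Subgroup.card_dvd_of_le hle
    _ = Nat.card (autInducedBy U Q) := hUcard.symm
    _ = Nat.card (autInducedBy (conjSub t U) Q) :=
        (card_autInd_conj (hTN ht) ((hUW.trans inf_le_left).trans hTN)).symm
    _ ≤ Nat.card (autInducedBy D Q) := Subgroup.card_le_of_le (Fusion.autInducedBy_mono htU)

/-! ### Fully normalized and fully centralized subgroups -/

theorem pairOf_of_le (hM : IsPModular p M) (hF : IsBlockFusionSystemOn p M B P e F)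
    (hle : SubpairLE p M Q f P e) : IsBrauerPairOf p M B Q f :=
  (isBrauerPairOf_of_subpairLE hM hF.1.1.1 hle).mpr hF.1.1

theorem fullyNormalized_iff_brMax (hM : IsPModular p M) (hF : IsBlockFusionSystemOn p M B P e F)
    (hle : SubpairLE p M Q f P e) :
    F.IsFullyNormalized Q ↔
      IsBrMax p (pairStab M ⊤ Q f) (subE M Q f) (P ⊓ Subgroup.normalizer (Q : Set G)) := by
  have he := hF.1.1.1
  have hfB := pairOf_of_le hM hF hle
  obtain ⟨h1, h2⟩ := le_pairStab_of_le hM he hle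
  have hp : IsPGroup p (P ⊓ Subgroup.normalizer (Q : Set G) : Subgroup G) := he.1.to_le inf_le_left
  constructor
  · rintro ⟨-, hmaxN⟩
    obtain ⟨x, hx, -, hcard⟩ := exists_conj_brMax_stab hM hF.1 hfB
    obtain ⟨D, hD, -⟩ := exists_isBrMax_stab (p := p) hM hfB.1
    refine ⟨hp, h1, h2, fun S hS hST hbr => ?_⟩
    refine (hD.2.2.2 S hS hST hbr).trans ?_
    rw [hcard D hD]
    exact hmaxN _ ((isConj_iff_block hM hF hle).mpr ⟨x, rfl, hx⟩)
  · intro hD
    refine ⟨subpairLE_le hle, fun Q' hQ' => ?_⟩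
    obtain ⟨g, rfl, hg⟩ := (isConj_iff_block hM hF hle).mp hQ'
    obtain ⟨h3, h4⟩ := le_pairStab_of_le hM he hg
    exact card_le_of_conj hM hfB.1.2 hD g (he.1.to_le inf_le_left) h3 h4

theorem fullyCentralized_iff_brMax (hM : IsPModular p M) (hF : IsBlockFusionSystemOn p M B P e F)
    (hle : SubpairLE p M Q f P e) :
    F.IsFullyCentralized Q ↔ IsBrMax p (𝐂 Q) (subE M Q f) (P ⊓ 𝐂 Q) := by
  have he := hF.1.1.1
  have hfB := pairOf_of_le hM hF hle
  have hp : IsPGroup p (P ⊓ 𝐂 Q : Subgroup G) := he.1.to_le inf_le_left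
  constructor
  · rintro ⟨-, hmaxC⟩
    obtain ⟨x, hx, -, hcard⟩ := exists_conj_brMax_centralizer hM hF.1 hfB
    obtain ⟨D, hD⟩ := exists_isBrMax_centralizer (p := p) hM hfB.1.2
    refine ⟨hp, inf_le_right, brNe_centralizer_of_le hM he hle, fun S hS hST hbr => ?_⟩
    refine (hD.2.2.2 S hS hST hbr).trans ?_
    rw [hcard D hD]
    exact hmaxC _ ((isConj_iff_block hM hF hle).mpr ⟨x, rfl, hx⟩)
  · intro hD
    refine ⟨subpairLE_le hle, fun Q' hQ' => ?_⟩
    obtain ⟨g, rfl, hg⟩ := (isConj_iff_block hM hF hle).mp hQ'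
    exact card_le_of_conj_centralizer hfB.1.2 hD g (he.1.to_le inf_le_left) inf_le_right
      (brNe_centralizer_of_le hM he hg)

theorem fullyAutomized_of_fullyNormalized (hM : IsPModular p M) (hF : IsBlockFusionSystemOn p M B P e F)
    (hn : F.IsFullyNormalized Q) : F.IsFullyAutomized p Q := by
  have he := hF.1.1.1
  obtain ⟨f, hf, hle⟩ := exists_subpair hM he hn.1
  rw [Fusion.fullyAutomized_iff he.1 hn.1, autGroup_eq_stab hM hF hle, ← autInducedBy_inf_normalizer P Q]
  exact card_autInd_brMax hM hf ((fullyNormalized_iff_brMax hM hF hle).mp hn)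

theorem isStableUnder_incSub_resSub {X C : Subgroup G} (hXC : X ≤ Subgroup.normalizer (C : Set G))
    {u : MonoidAlgebra (ResF M) G} (hu : IsStableUnder X u) :
    IsStableUnder X (incSub C (resSub C u)) := by
  intro x hx a
  have hm : a ∈ C ↔ x * a * x⁻¹ ∈ C := Subgroup.mem_normalizer_iff.mp (hXC hx) a
  by_cases ha : a ∈ C
  · rw [show a = ((⟨a, ha⟩ : C) : G) from rfl, coeff_incSub_mem,
      show x * a * x⁻¹ = ((⟨_, hm.mp ha⟩ : C) : G) from rfl, coeff_incSub_mem,
      coeff_resSub, coeff_resSub]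
    exact hu x hx a
  · rw [coeff_incSub_notMem _ _ ha, coeff_incSub_notMem _ _ fun h => ha (hm.mpr h)]

theorem lam_resSub_of_normal (hM : IsPModular p M) {X : Subgroup G} {ξs : Set (IrrCharacter (𝐂 X))}
    (h : IsNormalSubpair p M Q f X ξs) {H : Subgroup G} (hXH : X ≤ H) (hCH : 𝐂 Q ≤ H)
    {u : MonoidAlgebra (ResF M) G} (hu : IsStableUnder H u) {ξ : IrrCharacter (𝐂 X)} (hξ : ξ ∈ ξs)
    {η : IrrCharacter (𝐂 Q)} (hη : η ∈ f) :
    lam M ξ (resSub (𝐂 X) u) = lam M η (resSub (𝐂 Q) u) := by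
  rw [← resSub_incSub_resSub (centralizer_le' h.2.2.1) u]
  exact lam_resSub_incSub hM h (hu.mono hCH).isClassElt_resSub
    (isStableUnder_incSub_resSub (h.2.2.2.1.trans fun x hx => normalizer_le_normalizer_centralizer' Q hx)
      (hu.mono hXH)) hξ hη

theorem receptive_of_fullyNormalized_block (hM : IsPModular p M) (hF : IsBlockFusionSystemOn p M B P e F)
    (hn : F.IsFullyNormalized Q) : F.IsReceptive Q := by
  have he := hF.1.1.1
  obtain ⟨f, hfp, hle⟩ := exists_subpair hM he hn.1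
  have hAmax := (fullyNormalized_iff_brMax hM hF hle).mp hn
  rw [Fusion.isReceptive_iff]
  refine ⟨hn.1, fun R φ hφ hi => ?_⟩
  obtain ⟨φ', hφ', hφe⟩ := hφ.exists_hom
  obtain ⟨hR, g, hg, -, h, hh, hgh⟩ := (hF.2 R φ').mp hφ'
  have hφg : ∀ x ∈ R, φ x = g * x * g⁻¹ := fun x hx => (hφe ⟨x, hx⟩).symm.trans (hg ⟨x, hx⟩)
  obtain rfl : Q = R.map (MulAut.conj g).toMonoidHom := by
    rw [← hi]
    refine le_antisymm (Fusion.img_le fun x hx => ⟨x, hx, (hφg x hx).symm⟩) ?_
    rintro _ ⟨x, hx, rfl⟩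
    have := Fusion.mem_img_of_mem (f := φ) hx
    rwa [hφg x hx] at this
  obtain rfl : f = conjBlock R g h := subpair_unique hM he hle hgh
  set Q' := R.map (MulAut.conj g).toMonoidHom with hQ'def
  set N := extN P R φ with hNdef
  have hNP : N ≤ P := Fusion.extN_le
  obtain ⟨h', hh'p, hh'⟩ := exists_subpair hM he hNP
  have hRN : R ≤ N := hφ.le_extN
  have hNR : N ≤ Subgroup.normalizer (R : Set G) :=
    Fusion.extN_le_normalizerIn.trans inf_le_right
  have hstep : IsNormalSubpair p M R h N h' :=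
    isNormalSubpair_of_le hM hh'p (subpair_le_of_le hM he hRN hh hh') hNR
  have hstep' := isNormalSubpair_conj hM hstep g
  set A := P ⊓ Subgroup.normalizer (Q' : Set G) with hAdef
  set H := A ⊔ 𝐂 Q' with hHdef
  have hCH : 𝐂 Q' ≤ H := le_sup_right
  have hAH : A ≤ H := le_sup_left
  have hHT : H ≤ pairStab M ⊤ Q' (conjBlock R g h) := sup_le hAmax.2.1 (centralizer_le_pairStab _ _)
  have hHN : H ≤ Subgroup.normalizer (Q' : Set G) := hHT.trans (pairStab_le_normalizer _)
  have hM'H : N.map (MulAut.conj g).toMonoidHom ≤ H := by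
    rintro _ ⟨c, hc, rfl⟩
    obtain ⟨hcN, d, hd, hdc⟩ := Fusion.mem_extN.mp hc
    have hdA : d ∈ A := by
      refine Fusion.mem_normalizerIn_of_conj hn.1 hd fun y hy => ?_
      obtain ⟨x, hx, rfl⟩ := hy
      have h1 := hdc x hx
      rw [hφg x hx, hφg _ (Fusion.conj_mem_of_mem_normalizerIn hcN hx)] at h1
      show d * (g * x * g⁻¹) * d⁻¹ ∈ _
      rw [← h1]
      exact ⟨_, Fusion.conj_mem_of_mem_normalizerIn hcN hx, rfl⟩
    have h2 : d⁻¹ * (g * c * g⁻¹) ∈ 𝐂 Q' := by
      rw [Subgroup.mem_centralizer_iff]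
      rintro _ ⟨x, hx, rfl⟩
      have h1 := hdc x hx
      rw [hφg x hx, hφg _ (Fusion.conj_mem_of_mem_normalizerIn hcN hx)] at h1
      show g * x * g⁻¹ * (d⁻¹ * (g * c * g⁻¹)) = d⁻¹ * (g * c * g⁻¹) * (g * x * g⁻¹)
      calc g * x * g⁻¹ * (d⁻¹ * (g * c * g⁻¹))
          = d⁻¹ * (d * (g * x * g⁻¹) * d⁻¹) * (g * c * g⁻¹) := by group
        _ = d⁻¹ * (g * (c * x * c⁻¹) * g⁻¹) * (g * c * g⁻¹) := by rw [← h1]
        _ = d⁻¹ * (g * c * g⁻¹) * (g * x * g⁻¹) := by group
    have := mul_mem (hAH hdA) (hCH h2)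
    rwa [mul_inv_cancel_left] at this
  obtain ⟨A₁, m₁, hA₁, hA₁H, hA₁le, hA₁max⟩ := exists_isMaxIn_above hM hstep'.2.1 hM'H
  obtain ⟨eA, heA, heAP⟩ := exists_subpair hM he (inf_le_left : A ≤ P)
  have hstepA : IsNormalSubpair p M Q' (conjBlock R g h) A eA :=
    isNormalSubpair_of_le hM heA
      (subpair_le_of_le hM he (le_inf hn.1 Subgroup.le_normalizer) hle heAP) inf_le_right
  have hstep₁ : IsNormalSubpair p M Q' (conjBlock R g h) A₁ m₁ :=
    isNormalSubpair_of_le hM hA₁ ((Relation.ReflTransGen.single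
      (show NormalSubpairRel p M (⟨Q', conjBlock R g h⟩ : BrauerPairIdx G)
        ⟨_, conjBlock N g h'⟩ from hstep')).trans hA₁le) (hA₁H.trans hHN)
  have hAmaxIn : IsMaxIn M p H A eA := by
    intro X hX hAX hXT hbr
    have hXH : X ≤ H := fun x hx => (hXT hx).1
    obtain ⟨g', hg'⟩ := exists_normal_above hM heA hX hAX (fun x hx => (hXT hx).2.1)
      (isStableUnder_iff_cjE.mpr fun x hx => (hXT hx).2.2) hbr
    have hstepX := normalSubpair_trans hM hstepA hg' (hXH.trans hHN)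
    exact (Subgroup.eq_of_le_of_card_ge hAX
      (hAmax.2.2.2 X hX (hXH.trans hHT) (brNe_of_normalSubpair hM hstepX))).symm
  obtain ⟨η, hη⟩ := IsPBlock.nonempty hfp.2
  obtain ⟨x, hxH, hxA, hxE⟩ := isMaxIn_conj hM hA₁.1 heA.1 hA₁H hAH
    ((centralizer_le' hstep₁.2.2.1).trans hCH) ((centralizer_le' hstepA.2.2.1).trans hCH)
    hA₁.2 heA.2 hA₁max hAmaxIn fun u hu _ ξ₁ hξ₁ ξ hξ => by
      rw [lam_resSub_of_normal hM hstep₁ hA₁H hCH hu hξ₁ hη,
        lam_resSub_of_normal hM hstepA hAH hCH hu hξ hη]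
  have hxprod : x ∈ ((A : Set G) * (𝐂 Q' : Set G) : Set G) := by
    rw [← Subgroup.coe_mul_of_left_le_normalizer_right A (𝐂 Q')
      fun a ha => normalizer_le_normalizer_centralizer' Q' ha.2]
    exact hxH
  obtain ⟨a, ha, c, hc, hac⟩ := Set.mem_mul.mp hxprod
  have hc' : c = a⁻¹ * x := by rw [← hac, inv_mul_cancel_left]
  have hidx : (⟨A₁.map (MulAut.conj c).toMonoidHom, conjBlock A₁ c m₁⟩ : BrauerPairIdx G) = ⟨A, eA⟩ := by
    refine pairIdx_ext (M := M) ?_ (isPBlock_conjBlock hA₁.2 c) heA.2 ?_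
    · show conjSub c A₁ = A
      rw [hc', ← conjSub_conjSub, show conjSub x A₁ = A from hxA]
      ext y
      rw [mem_conjSub, inv_inv]
      exact ⟨fun hy => by simpa [mul_assoc] using mul_mem (mul_mem (inv_mem ha) hy) ha,
        fun hy => mul_mem (mul_mem ha hy) (inv_mem ha)⟩
    · rw [subE_conjBlock hA₁.2, hc', ← cjE_cjE, ← hxE]
      exact isStableUnder_iff_cjE.mp (isStableUnder_iff_cjE.mpr fun y hy =>
        (le_pairStab_self (M := M) (le_top : A ≤ ⊤) eA hy).2.2) _ (inv_mem ha)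
  have hfin : SubpairLE p M (N.map (MulAut.conj (c * g)).toMonoidHom) (conjBlock N (c * g) h') P e :=
    subpairLE_congr_left (conjBlock_conjBlock hh'p.2 g c)
      (subpairLE_trans (subpairLE_congr_right hidx (subpairLE_conj hM hA₁le c)) heAP)
  refine ⟨fun y => c * g * y * (c * g)⁻¹, ⟨conjHom N (c * g), (hF.2 N _).mpr
    ⟨hNP, c * g, fun u => rfl, subpairLE_le hfin, h', hh', hfin⟩, fun u => rfl⟩, fun y hy => ?_⟩
  show c * g * y * (c * g)⁻¹ = φ y
  rw [hφg y hy]
  have hcomm : g * y * g⁻¹ * c = c * (g * y * g⁻¹) :=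
    Subgroup.mem_centralizer_iff.mp hc _ ⟨y, hy, rfl⟩
  calc c * g * y * (c * g)⁻¹ = c * (g * y * g⁻¹) * c⁻¹ := by group
    _ = g * y * g⁻¹ * c * c⁻¹ := by rw [hcomm]
    _ = g * y * g⁻¹ := by group

theorem isSaturated_block (hM : IsPModular p M) (hF : IsBlockFusionSystemOn p M B P e F) :
    F.IsSaturated p :=
  Fusion.saturated_of_axioms (fun _ h => fullyAutomized_of_fullyNormalized hM hF h)
    fun _ h => receptive_of_fullyNormalized_block hM hF h

end Cfsg.Lib.Blocks
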