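import Cfsg.Agent.Lib.Characters.Degree
import Cfsg.Agent.Lib.Characters.Induction
import Cfsg.Agent.Lib.Blocks.DefectZero
import Mathlib.GroupTheory.SchurZassenhaus

/-!
# Elementary codegree facts
-/

set_option autoImplicit false
open Cfsg Cfsg.Lib.Characters Subgroup
open scoped ComplexConjugate

universe u

namespace Cfsg.Lib.Blocks

variable {G : Type u} [Group G]

/-- A character of degree at most `χ 1` containing the irreducible `χ` equals it. -/
theorem eq_of_constituent_degree_le [Fintype G] {Φ χ : G → ℂ} (hΦ : IsCharacter G Φ)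
    (hχ : IsIrrCharacter G χ) (h : classInner Φ χ ≠ 0) {d e : ℕ} (hd : χ 1 = d) (he : Φ 1 = e)
    (hle : e ≤ d) : Φ = χ := by
  classical
  obtain ⟨k, hk⟩ := exists_decomposition hΦ
  choose deg hdeg using fun ν : IrrCharacter G => exists_degree ν.2.isCharacter
  have hpos : ∀ ν : IrrCharacter G, 0 < deg ν := fun ν =>
    Nat.pos_of_ne_zero fun h0 => ν.2.one_ne_zero (by rw [hdeg, h0, Nat.cast_zero])
  set χ' : IrrCharacter G := ⟨χ, hχ⟩
  have hk0 : k χ' ≠ 0 := by
    intro h0
    refine h ?_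
    have h1 := classInner_sum_irr (fun ν => (k ν : ℂ)) χ'
    rw [← hk] at h1
    rw [h1, h0, Nat.cast_zero]
  have hsum : e = ∑ ν, k ν * deg ν := by
    have : ((e : ℕ) : ℂ) = ((∑ ν, k ν * deg ν : ℕ) : ℂ) := by
      rw [← he, hk]; push_cast; simp [Finset.sum_apply, hdeg]
    exact_mod_cast this
  have hdχ : deg χ' = d := by exact_mod_cast (hdeg χ').symm.trans hd
  rw [← Finset.add_sum_erase _ _ (Finset.mem_univ χ')] at hsum
  have h1 : deg χ' ≤ k χ' * deg χ' := Nat.le_mul_of_pos_left _ (Nat.pos_of_ne_zero hk0)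
  have hrest : ∑ ν ∈ Finset.univ.erase χ', k ν * deg ν = 0 := by omega
  have hkone : k χ' = 1 := by
    have h2 : k χ' * deg χ' = 1 * deg χ' := by omega
    exact Nat.eq_of_mul_eq_mul_right (hpos χ') h2
  rw [hk, Finset.sum_eq_single χ']
  · rw [hkone, Nat.cast_one, one_smul]
  · intro ν hν hne
    have := (Finset.sum_eq_zero_iff.1 hrest) ν (Finset.mem_erase.2 ⟨hne, Finset.mem_univ _⟩)
    rw [Nat.mul_eq_zero, or_iff_left (hpos ν).ne'] at this
    rw [this, Nat.cast_zero, zero_smul]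
  · intro h2; exact absurd (Finset.mem_univ _) h2

/-- An induced irreducible character comes from an irreducible character. -/
theorem exists_irr_of_indFun_irr [Fintype G] (H : Subgroup G) [Fintype H] {θ : H → ℂ}
    (hθ : IsCharacter H θ) {χ : G → ℂ} (hχ : IsIrrCharacter G χ) (h : indFun H θ = χ) :
    ∃ (μ : IrrCharacter H) (j : ℕ), (μ : H → ℂ) 1 = j ∧ χ 1 = (H.index * j : ℕ) := by
  classical
  obtain ⟨d, hd⟩ := exists_degree hχ.isCharacter
  obtain ⟨k, hk⟩ := exists_decomposition hθ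
  choose deg hdeg using fun ν : IrrCharacter H => exists_degree ν.2.isCharacter
  have h1 : classInner θ (fun x : H => χ x) = 1 := by
    rw [← classInner_indFun H θ hχ.isClassFunction, h, classInner_irr_self hχ]
  rw [hk, classInner_sum_left] at h1
  obtain ⟨μ, -, hμ⟩ := Finset.exists_ne_zero_of_sum_ne_zero (h1 ▸ one_ne_zero :
    ∑ ν, classInner ((k ν : ℂ) • (ν : H → ℂ)) (fun x : H => χ x) ≠ 0)
  rw [classInner_smul_left, mul_ne_zero_iff, Nat.cast_ne_zero] at hμ
  refine ⟨μ, deg μ, hdeg μ, ?_⟩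
  have hind : indFun H (μ : H → ℂ) 1 = (H.index * deg μ : ℕ) := by
    rw [indFun_one_apply, hdeg]; push_cast; rfl
  have hχd : χ 1 = (H.index * ∑ ν, k ν * deg ν : ℕ) := by
    rw [← h, indFun_one_apply, hk]; push_cast; simp [Finset.sum_apply, hdeg]
  have heq : indFun H (μ : H → ℂ) = χ := by
    refine eq_of_constituent_degree_le (isCharacter_indFun H μ.2.isCharacter) hχ ?_ hχd hind ?_
    · rw [classInner_indFun H _ hχ.isClassFunction]; exact hμ.2
    · exact Nat.mul_le_mul_left _ ((Nat.le_mul_of_pos_left _ (Nat.pos_of_ne_zero hμ.1)).trans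
        (Finset.single_le_sum (f := fun ν => k ν * deg ν) (fun _ _ => Nat.zero_le _) (Finset.mem_univ μ)))
  rw [← heq, hind]

/-- Codegree a power of `p` means induced from a Sylow `p`-subgroup. -/
theorem exists_induced_of_codegree [Fintype G] {p : ℕ} [hp : Fact p.Prime] (P : Sylow p G)
    [Fintype (P : Subgroup G)] {χ : G → ℂ} (hχ : IsIrrCharacter G χ) {d k : ℕ} (hd : χ 1 = d)
    (hk : Nat.card G = p ^ k * d) :
    ∃ θ : IrrCharacter (P : Subgroup G), indFun (P : Subgroup G) (θ : ↥(P : Subgroup G) → ℂ) = χ := by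
  classical
  obtain ⟨a, ha⟩ := IsPGroup.iff_card.1 P.2
  set m := (P : Subgroup G).index with hm
  have hpm : ¬ p ∣ m := P.not_dvd_index
  have hG : p ^ a * m = p ^ k * d := by rw [← ha, card_mul_index, hk]
  have hka : k ≤ a := by
    by_contra hlt
    push Not at hlt
    obtain ⟨c, rfl⟩ : ∃ c, k = a + (c + 1) := ⟨k - a - 1, by omega⟩
    rw [pow_add, mul_assoc] at hG
    exact hpm ⟨p ^ c * d, by rw [Nat.eq_of_mul_eq_mul_left (pow_pos hp.out.pos a) hG, pow_succ']; ring⟩
  obtain ⟨b, rfl⟩ := Nat.exists_eq_add_of_le hka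
  rw [pow_add, mul_assoc] at hG
  have hdm : d = p ^ b * m := (Nat.eq_of_mul_eq_mul_left (pow_pos hp.out.pos k) hG).symm
  have hres := isCharacter_restrict hχ.isCharacter (P : Subgroup G)
  obtain ⟨c, hc⟩ := exists_decomposition hres
  choose deg hdeg using fun ν : IrrCharacter (P : Subgroup G) => exists_degree ν.2.isCharacter
  have hsum : d = ∑ ν, c ν * deg ν := by
    have h1 : ((d : ℕ) : ℂ) = ((∑ ν, c ν * deg ν : ℕ) : ℂ) := by
      rw [← hd]
      have := congrFun hc 1
      simp only [OneMemClass.coe_one] at this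
      rw [this]; push_cast; simp [Finset.sum_apply, hdeg]
    exact_mod_cast h1
  obtain ⟨θ, hθ0, hθ⟩ : ∃ θ, c θ ≠ 0 ∧ deg θ ≤ p ^ b := by
    by_contra hcon
    push Not at hcon
    have hdvd : p ^ (b + 1) ∣ d := by
      rw [hsum]
      refine Finset.dvd_sum fun ν _ => ?_
      rcases eq_or_ne (c ν) 0 with h0 | h0
      · simp [h0]
      refine Dvd.dvd.mul_left ?_ _
      have h1 : deg ν ∣ p ^ (k + b) := ha ▸ degree_dvd_card ν.2 (hdeg ν)
      obtain ⟨i, -, hi⟩ := (Nat.dvd_prime_pow hp.out).1 h1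
      have h2 := hcon ν h0
      rw [hi] at h2 ⊢
      exact pow_dvd_pow p ((Nat.pow_lt_pow_iff_right hp.out.one_lt).1 h2)
    rw [hdm, pow_succ] at hdvd
    exact hpm ((Nat.mul_dvd_mul_iff_left (pow_pos hp.out.pos b)).1 hdvd)
  refine ⟨θ, eq_of_constituent_degree_le (isCharacter_indFun _ θ.2.isCharacter) hχ ?_ hd
    (e := m * deg θ) ?_ ?_⟩
  · rw [classInner_indFun _ _ hχ.isClassFunction, hc, classInner_sum_right]
    rw [Finset.sum_eq_single θ]
    · rw [classInner_smul_right, classInner_irr_self θ.2, map_natCast, mul_one]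
      exact Nat.cast_ne_zero.2 hθ0
    · intro ν _ hne
      rw [classInner_smul_right, classInner_irr_ne θ.2 ν.2 (fun h => hne (Subtype.ext h.symm)), mul_zero]
    · intro h; exact absurd (Finset.mem_univ _) h
  · rw [indFun_one_apply, hdeg]; push_cast; rfl
  · rw [hdm, mul_comm m]; exact Nat.mul_le_mul_right _ hθ

/-- The square of a degree is at most the group order. -/
theorem degree_sq_le [Fintype G] {χ : G → ℂ} (hχ : IsIrrCharacter G χ) {d : ℕ} (hd : χ 1 = d)
    (Z : Subgroup G) (hZ : ∀ z ∈ Z, ‖χ z‖ = (d : ℝ)) : Nat.card Z * d ^ 2 ≤ Nat.card G := by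
  classical
  have h := classInner_irr_self hχ
  rw [classInner, inv_mul_eq_iff_eq_mul₀ (Nat.cast_ne_zero.2 Nat.card_pos.ne'), mul_one] at h
  have h2 : ((∑ g : G, ‖χ g‖ ^ 2 : ℝ) : ℂ) = ((Nat.card G : ℝ) : ℂ) := by
    push_cast
    rw [← h]
    exact Finset.sum_congr rfl fun g _ => (Complex.mul_conj' _).symm
  have h3 : ∑ g ∈ Finset.univ.filter (· ∈ Z), ‖χ g‖ ^ 2 ≤ ∑ g : G, ‖χ g‖ ^ 2 :=
    Finset.sum_le_univ_sum_of_nonneg fun g => by positivity
  rw [Finset.sum_congr rfl fun g hg => by rw [hZ g (Finset.mem_filter.1 hg).2], Finset.sum_const,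
    show (Finset.univ.filter (· ∈ Z)).card = Nat.card Z by
      rw [Nat.card_eq_fintype_card, Fintype.card_subtype], nsmul_eq_mul] at h3
  have h4 : (∑ g : G, ‖χ g‖ ^ 2 : ℝ) = (Nat.card G : ℝ) := by exact_mod_cast h2
  rw [h4] at h3
  exact_mod_cast h3

/-- With prime codegree the Sylow subgroup is normal of prime order, or the degree is one. -/
theorem sylow_normal_of_prime_codegree [Finite G] {p : ℕ} [hp : Fact p.Prime] {χ : G → ℂ}
    (hχ : IsIrrCharacter G χ) {d : ℕ} (hd : χ 1 = d) (hd1 : d ≠ 1)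
    (hcod : Nat.card G = p * d) :
    ∃ P : Sylow p G, Nat.card (P : Subgroup G) = p ∧ (P : Subgroup G).Normal ∧ d < p := by
  classical
  haveI := Fintype.ofFinite G
  have hd0 : 0 < d := Nat.pos_of_ne_zero fun h => hχ.one_ne_zero (by rw [hd, h, Nat.cast_zero])
  have hle : d ≤ p := by
    have h := degree_sq_le hχ hd ⊥ (fun z hz => by rw [mem_bot.1 hz, hd, Complex.norm_natCast])
    rw [Subgroup.card_bot, one_mul, hcod, pow_two] at h
    exact Nat.le_of_mul_le_mul_right h hd0
  have hlt : d < p := by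
    refine lt_of_le_of_ne hle ?_
    rintro rfl
    haveI := IsPGroup.isMulCommutative_of_card_eq_prime_sq (p := d) (G := G) (by rw [hcod, pow_two])
    have h := degree_one_of_isMulCommutative hχ
    rw [hd] at h
    exact hd1 (by exact_mod_cast h)
  obtain ⟨P⟩ : Nonempty (Sylow p G) := inferInstance
  have hpd : ¬ p ∣ d := fun h => absurd (Nat.le_of_dvd hd0 h) (not_le.2 hlt)
  have hcardP : Nat.card (P : Subgroup G) = p := by
    rw [P.card_eq_multiplicity, hcod, Nat.factorization_mul hp.out.ne_zero hd0.ne', Finsupp.add_apply,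
      hp.out.factorization_self, Nat.factorization_eq_zero_of_not_dvd hpd, add_zero, pow_one]
  refine ⟨P, hcardP, ?_, hlt⟩
  have h1 := P.card_dvd_index
  have h2 : (P : Subgroup G).index = d := by
    have := card_mul_index (P : Subgroup G)
    rw [hcardP, hcod] at this
    exact Nat.eq_of_mul_eq_mul_left hp.out.pos this
  rw [h2] at h1
  have h3 := card_sylow_modEq_one p G
  have h4 : Nat.card (Sylow p G) < p := lt_of_le_of_lt (Nat.le_of_dvd hd0 h1) hlt
  have h5 : Nat.card (Sylow p G) = 1 := by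
    rw [Nat.ModEq, Nat.mod_eq_of_lt h4, Nat.mod_eq_of_lt hp.out.one_lt] at h3
    exact h3
  haveI := (Nat.card_eq_one_iff_unique.1 h5).1
  exact Sylow.normal_of_subsingleton P

end Cfsg.Lib.Blocks
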