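import Cfsg.Agent.Lib.Blocks.Pairs
import Cfsg.Agent.Lib.Blocks.Principal

/-!
# Transport of blocks along isomorphisms and conjugation
-/

namespace Cfsg.Lib.Blocks

open Cfsg.Lib.Characters Finset
open scoped ComplexConjugate Classical

set_option linter.unusedSectionVars false
set_option linter.style.haveILetI false
set_option linter.style.longLine false

universe u v

variable {A : Type u} {B : Type v} [Group A] [Group B]

/-- Pullback of an irreducible character along an isomorphism. -/
def irrPull (f : A ≃* B) (χ : IrrCharacter B) : IrrCharacter A :=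
  ⟨fun a => (χ : B → ℂ) (f a), isIrrCharacter_comp_surjective χ.2 f.toMonoidHom f.surjective⟩

@[simp] theorem irrPull_apply (f : A ≃* B) (χ : IrrCharacter B) (a : A) :
    (irrPull f χ : A → ℂ) a = (χ : B → ℂ) (f a) := rfl

theorem irrPull_symm (f : A ≃* B) (χ : IrrCharacter A) : irrPull f (irrPull f.symm χ) = χ :=
  Subtype.ext (funext fun a => by simp)

theorem symm_irrPull (f : A ≃* B) (χ : IrrCharacter B) : irrPull f.symm (irrPull f χ) = χ :=
  Subtype.ext (funext fun a => by simp)

theorem irrPull_injective (f : A ≃* B) : Function.Injective (irrPull f) :=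
  Function.LeftInverse.injective (symm_irrPull f)

theorem irrPull_trivChar (f : A ≃* B) : irrPull f (trivChar B) = trivChar A :=
  Subtype.ext (funext fun a => by simp)

/-- Pullback of a set of characters. -/
def pullBlock (f : A ≃* B) (S : Set (IrrCharacter B)) : Set (IrrCharacter A) :=
  {χ | irrPull f.symm χ ∈ S}

theorem mem_pullBlock (f : A ≃* B) (S : Set (IrrCharacter B)) (χ : IrrCharacter B) :
    irrPull f χ ∈ pullBlock f S ↔ χ ∈ S := by
  show irrPull f.symm (irrPull f χ) ∈ S ↔ _
  rw [symm_irrPull]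

theorem centralChar_pull [Finite A] [Finite B] (f : A ≃* B) (χ : B → ℂ) (a : A) :
    centralChar (fun a => χ (f a)) a = centralChar χ (f a) := by
  have h : (Subgroup.centralizer ({a} : Set A)).index
      = (Subgroup.centralizer ({f a} : Set B)).index := by
    rw [← Subgroup.index_map_equiv (Subgroup.centralizer ({a} : Set A)) f]
    congr 1
    ext b
    simp only [Subgroup.mem_map, Subgroup.mem_centralizer_singleton_iff, MonoidHom.coe_coe]
    constructor
    · rintro ⟨x, hx, rfl⟩
      rw [← map_mul, hx, map_mul]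
    · intro hb
      exact ⟨f.symm b, f.injective (by simpa using hb), by simp⟩
  rw [centralChar, centralChar, h, map_one]

variable {M : Ideal Cfsg.AlgInt} [Fintype A] [Fintype B]

theorem sameBlock_pull (f : A ≃* B) (χ ψ : B → ℂ) :
    SameBlock M (fun a => χ (f a)) (fun a => ψ (f a)) ↔ SameBlock M χ ψ := by
  simp only [SameBlock, centralChar_pull]
  exact ⟨fun h b => by simpa using h (f.symm b), fun h a => h (f a)⟩

theorem pullBlock_blockOf (f : A ≃* B) (χ : IrrCharacter B) :
    pullBlock f (blockOf M (χ : B → ℂ)) = blockOf M (irrPull f χ : A → ℂ) := by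
  ext ψ
  show SameBlock M (χ : B → ℂ) (irrPull f.symm ψ : B → ℂ) ↔ SameBlock M (irrPull f χ : A → ℂ) (ψ : A → ℂ)
  rw [← sameBlock_pull (M := M) f]
  have : (fun a => (irrPull f.symm ψ : B → ℂ) (f a)) = (ψ : A → ℂ) := funext fun a => by simp
  rw [this]
  rfl

theorem isPBlock_pull (f : A ≃* B) {S : Set (IrrCharacter B)} (hS : IsPBlock M S) :
    IsPBlock M (pullBlock f S) := by
  obtain ⟨χ, rfl⟩ := hS
  exact ⟨_, pullBlock_blockOf f χ⟩

variable [M.IsPrime]

theorem pullBlock_principal (f : A ≃* B) :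
    pullBlock f (principalBlock M B) = principalBlock M A := by
  rw [principalBlock_eq, principalBlock_eq, pullBlock_blockOf, irrPull_trivChar]

/-- Pullback of a group ring element. -/
noncomputable def pullElt {R : Type*} [CommRing R] (f : A ≃* B) (u : MonoidAlgebra R B) :
    MonoidAlgebra R A :=
  gOfFun fun a => u.coeff (f a)

theorem coeff_pullElt {R : Type*} [CommRing R] (f : A ≃* B) (u : MonoidAlgebra R B) (a : A) :
    (pullElt f u).coeff a = u.coeff (f a) := by simp [pullElt]

theorem isClassElt_pullElt {R : Type*} [CommRing R] (f : A ≃* B) {u : MonoidAlgebra R B}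
    (hu : IsClassElt u) : IsClassElt (pullElt f u) := fun g a => by
  simp only [coeff_pullElt, map_mul, map_inv, hu (f g) (f a)]

theorem omega_pull (f : A ≃* B) (χ : IrrCharacter B) (z : MonoidAlgebra ℂ B) :
    omega (irrPull f χ) (pullElt f z) = omega χ z := by
  simp only [omega, coeff_pullElt, irrPull_apply, map_one]
  congr 1
  exact Equiv.sum_comp f.toEquiv (fun b => z.coeff b * (χ : B → ℂ) b)

theorem lam_pull (f : A ≃* B) (χ : IrrCharacter B) {u : MonoidAlgebra (ResF M) B}
    (hu : IsClassElt u) : lam M (irrPull f χ) (pullElt f u) = lam M χ u := by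
  obtain ⟨z, hz, rfl⟩ := exists_lift M hu
  have h1 : pullElt f (redG M z) = redG M (pullElt f z) :=
    gr_ext fun a => by simp only [coeff_pullElt, coeff_redG]
  have h2 : pullElt f z ∈ locCenter A M :=
    ⟨isClassElt_pullElt f hz.1, fun a => by rw [coeff_pullElt]; exact hz.2 _⟩
  rw [h1, lam_redG M _ h2, lam_redG M χ hz, omega_pull]

/-! ### Conjugation of centralizers -/

variable {G : Type u} [Group G]

/-- Conjugation by `x` as an isomorphism between two subgroups. -/
def conjEquiv (H K : Subgroup G) (x : G) (h : ∀ g : G, g ∈ H ↔ x * g * x⁻¹ ∈ K) : H ≃* K where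
  toFun a := ⟨x * a * x⁻¹, (h a).mp a.2⟩
  invFun b := ⟨x⁻¹ * b * x, (h _).mpr (by simp [mul_assoc])⟩
  left_inv a := Subtype.ext (by simp [mul_assoc])
  right_inv b := Subtype.ext (by simp [mul_assoc])
  map_mul' a b := Subtype.ext (by simp [mul_assoc])

@[simp] theorem coe_conjEquiv (H K : Subgroup G) (x : G) (h : ∀ g : G, g ∈ H ↔ x * g * x⁻¹ ∈ K)
    (a : H) : ((conjEquiv H K x h a : K) : G) = x * a * x⁻¹ := rfl

@[simp] theorem coe_conjEquiv_symm (H K : Subgroup G) (x : G) (h : ∀ g : G, g ∈ H ↔ x * g * x⁻¹ ∈ K)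
    (b : K) : (((conjEquiv H K x h).symm b : H) : G) = x⁻¹ * b * x := rfl

theorem mem_map_conj {Q : Subgroup G} {x g : G} :
    g ∈ Q.map (MulAut.conj x).toMonoidHom ↔ x⁻¹ * g * x ∈ Q := by
  rw [Subgroup.mem_map_equiv]; simp [MulAut.conj_symm_apply, mul_assoc]

theorem mem_centralizer_map_conj (Q : Subgroup G) (x g : G) :
    g ∈ Subgroup.centralizer (Q : Set G) ↔
      x * g * x⁻¹ ∈ Subgroup.centralizer ((Q.map (MulAut.conj x).toMonoidHom : Subgroup G) : Set G) := by
  rw [Subgroup.mem_centralizer_iff, Subgroup.mem_centralizer_iff]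
  constructor
  · intro h q hq
    have := h _ (mem_map_conj.mp hq)
    calc q * (x * g * x⁻¹) = x * ((x⁻¹ * q * x) * g) * x⁻¹ := by group
      _ = x * (g * (x⁻¹ * q * x)) * x⁻¹ := by rw [this]
      _ = x * g * x⁻¹ * q := by group
  · intro h q hq
    have := h (x * q * x⁻¹) (mem_map_conj.mpr (by simpa [mul_assoc] using hq))
    calc q * g = x⁻¹ * ((x * q * x⁻¹) * (x * g * x⁻¹)) * x := by group
      _ = x⁻¹ * ((x * g * x⁻¹) * (x * q * x⁻¹)) * x := by rw [this]
      _ = g * q := by group

/-- Conjugation between centralizers. -/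
abbrev centConj (Q : Subgroup G) (x : G) :
    ↥(Subgroup.centralizer (Q : Set G)) ≃*
      ↥(Subgroup.centralizer ((Q.map (MulAut.conj x).toMonoidHom : Subgroup G) : Set G)) :=
  conjEquiv _ _ x (mem_centralizer_map_conj Q x)

theorem conjBlock_eq_pull (Q : Subgroup G) (x : G)
    (f : Set (IrrCharacter (Subgroup.centralizer (Q : Set G)))) :
    conjBlock Q x f = pullBlock (centConj Q x).symm f := by
  ext ξ'
  constructor
  · rintro ⟨ξ, hξ, h⟩
    show irrPull (centConj Q x).symm.symm ξ' ∈ f
    have : irrPull (centConj Q x).symm.symm ξ' = ξ := Subtype.ext (funext fun c => h c _ rfl)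
    rwa [this]
  · intro h
    refine ⟨_, h, fun c c' hcc => ?_⟩
    show (ξ' : _ → ℂ) c' = (ξ' : _ → ℂ) ((centConj Q x).symm.symm c)
    exact congrArg _ (Subtype.ext hcc)

/-- Conjugation of a normalized subgroup. -/
abbrev normConj (K : Subgroup G) {g : G} (hg : g ∈ Subgroup.normalizer (K : Set G)) : K ≃* K :=
  conjEquiv K K g (fun a => Subgroup.mem_normalizer_iff.mp hg a)

theorem isConjCharOf_iff {K : Subgroup G} {g : G} (hg : g ∈ Subgroup.normalizer (K : Set G))
    (χ χ' : IrrCharacter K) :
    IsConjCharOf K g (χ : K → ℂ) (χ' : K → ℂ) ↔ irrPull (normConj K hg) χ' = χ := by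
  constructor
  · exact fun h => Subtype.ext (funext fun k => h k _ rfl)
  · rintro rfl k k' hk
    exact congrArg _ (Subtype.ext hk)

theorem stabilizesBlock_iff {K : Subgroup G} (e : Set (IrrCharacter K)) [Finite K] (g : G) :
    StabilizesBlock K e g ↔
      ∃ hg : g ∈ Subgroup.normalizer (K : Set G), pullBlock (normConj K hg) e = e := by
  constructor
  · rintro ⟨hg, h⟩
    refine ⟨hg, ?_⟩
    have hsub : e ⊆ pullBlock (normConj K hg) e := fun χ hχ => by
      obtain ⟨χ', hχ', hc⟩ := h χ hχ
      rw [isConjCharOf_iff hg] at hc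
      rw [← hc, mem_pullBlock]
      exact hχ'
    haveI := Fintype.ofFinite K
    symm
    refine Set.eq_of_subset_of_ncard_le hsub ?_ (Set.toFinite _)
    refine Set.ncard_le_ncard_of_injOn (fun χ => irrPull (normConj K hg).symm χ) (fun χ hχ => hχ) ?_
      (Set.toFinite _)
    exact (irrPull_injective _).injOn
  · rintro ⟨hg, h⟩
    refine ⟨hg, fun χ hχ => ⟨irrPull (normConj K hg).symm χ, ?_, ?_⟩⟩
    · rw [← h] at hχ; exact hχ
    · rw [isConjCharOf_iff hg, irrPull_symm]

theorem stabilizesBlock_principal [Fintype G] (K : Subgroup G) {g : G}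
    (hg : g ∈ Subgroup.normalizer (K : Set G)) : StabilizesBlock K (principalBlock M K) g :=
  (stabilizesBlock_iff _ _).mpr ⟨hg, pullBlock_principal _⟩

theorem normalizer_le_normalizer_centralizer' (Q : Subgroup G) {x : G}
    (hx : x ∈ Subgroup.normalizer (Q : Set G)) :
    x ∈ Subgroup.normalizer (Subgroup.centralizer (Q : Set G) : Set G) := by
  have hQ : Q.map (MulAut.conj x).toMonoidHom = Q := by
    ext g
    rw [mem_map_conj, Subgroup.mem_normalizer_iff.mp hx (x⁻¹ * g * x)]
    simp [mul_assoc]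
  rw [Subgroup.mem_normalizer_iff]
  intro g
  have := mem_centralizer_map_conj Q x g
  rwa [hQ] at this

/-- Conjugate subgroups induce corresponding blocks to the same block. -/
theorem isInducedBlock_conj [Fintype G] {H K : Subgroup G} {x : G}
    (h : ∀ g : G, g ∈ H ↔ x * g * x⁻¹ ∈ K) {b : Set (IrrCharacter H)} {S : Set (IrrCharacter G)}
    (hb : IsInducedBlock M H b S) :
    IsInducedBlock M K (pullBlock (conjEquiv H K x h).symm b) S := by
  have hb' : IsPBlock M (pullBlock (conjEquiv H K x h).symm b) := isPBlock_pull _ hb.1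
  obtain ⟨ξ, hξ⟩ := IsPBlock.nonempty hb.1
  obtain ⟨χ, hχ⟩ := IsPBlock.nonempty hb.2.1
  refine (isInducedBlock_iff hb' hb.2.1 ((mem_pullBlock (conjEquiv H K x h).symm b ξ).mpr hξ) hχ).mpr
    fun u hu => ?_
  rw [← (isInducedBlock_iff hb.1 hb.2.1 hξ hχ).mp hb u hu]
  have : resSub K u = pullElt (conjEquiv H K x h).symm (resSub H u) :=
    gr_ext fun k => by
      rw [coeff_pullElt, coeff_resSub, coeff_resSub, coe_conjEquiv_symm]
      have := hu x⁻¹ (k : G)
      rw [inv_inv] at this
      exact this.symm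
  rw [this, lam_pull _ _ (hu.resSub _)]

end Cfsg.Lib.Blocks
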