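import Cfsg.Agent.Lib.Characters.Integrality

/-!
# Averaging over the embeddings of a cyclotomic field
-/

namespace Cfsg.Lib.Blocks

open Cfsg.Lib.Characters Finset
open scoped ComplexConjugate Classical

set_option linter.unusedSectionVars false
set_option linter.style.haveILetI false
set_option linter.style.longLine false

/-- The field generated by the `N`-th roots of unity. -/
noncomputable def rootField (N : ℕ) : IntermediateField ℚ ℂ :=
  IntermediateField.adjoin ℚ {z : ℂ | z ^ N = 1}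

theorem root_mem_rootField {N : ℕ} {z : ℂ} (h : z ^ N = 1) : z ∈ rootField N :=
  IntermediateField.subset_adjoin ℚ _ h

theorem finiteDimensional_rootField {N : ℕ} (hN : 0 < N) : FiniteDimensional ℚ (rootField N) := by
  haveI : Finite ({z : ℂ | z ^ N = 1} : Set ℂ) :=
    ((Polynomial.nthRootsFinset N (1 : ℂ)).finite_toSet.subset fun z hz =>
      (Polynomial.mem_nthRootsFinset hN 1).mpr hz).to_subtype
  exact IntermediateField.finiteDimensional_adjoin fun z hz =>
    IsIntegral.of_pow hN (by rw [show z ^ N = 1 from hz]; exact isIntegral_one)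

theorem conj_mem_rootField {N : ℕ} {z : ℂ} (hz : z ∈ rootField N) : conj z ∈ rootField N := by
  induction hz using IntermediateField.adjoin_induction with
  | mem x hx => exact root_mem_rootField (by rw [← map_pow, show x ^ N = 1 from hx, map_one])
  | algebraMap q => simp only [eq_ratCast, map_ratCast]; exact (rootField N).algebraMap_mem q
  | add x y _ _ hx hy => rw [map_add]; exact add_mem hx hy
  | inv x _ hx => rw [map_inv₀]; exact inv_mem hx
  | mul x y _ _ hx hy => rw [map_mul]; exact mul_mem hx hy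

/-- Every embedding of a field of roots of unity commutes with complex conjugation. -/
theorem algHom_conj {N : ℕ} (hN : 0 < N) (σ : rootField N →ₐ[ℚ] ℂ) (x : rootField N) :
    σ ⟨conj (x : ℂ), conj_mem_rootField x.2⟩ = conj (σ x) := by
  obtain ⟨z, hz⟩ := x
  induction hz using IntermediateField.adjoin_induction with
  | mem x hx =>
    have hx' : x ^ N = 1 := hx
    have hx0 : x ≠ 0 := fun h0 => by rw [h0, zero_pow hN.ne'] at hx'; exact zero_ne_one hx'
    have h1 : conj x = x⁻¹ := (Complex.inv_eq_conj (Complex.norm_eq_one_of_pow_eq_one hx' hN.ne')).symm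
    have hσ : (σ ⟨x, root_mem_rootField hx'⟩) ^ N = 1 := by
      rw [← map_pow, ← map_one σ]
      exact congrArg σ (Subtype.ext hx')
    have h2 : conj (σ ⟨x, root_mem_rootField hx'⟩) = (σ ⟨x, root_mem_rootField hx'⟩)⁻¹ :=
      (Complex.inv_eq_conj (Complex.norm_eq_one_of_pow_eq_one hσ hN.ne')).symm
    refine Eq.trans ?_ h2.symm
    rw [← map_inv₀]
    exact congrArg σ (Subtype.ext h1)
  | algebraMap q =>
    have h1 : (⟨conj (algebraMap ℚ ℂ q), conj_mem_rootField ((rootField N).algebraMap_mem q)⟩ : rootField N)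
        = algebraMap ℚ (rootField N) q := Subtype.ext (by simp)
    have h2 : (⟨algebraMap ℚ ℂ q, (rootField N).algebraMap_mem q⟩ : rootField N)
        = algebraMap ℚ (rootField N) q := Subtype.ext rfl
    refine (congrArg σ h1).trans ?_
    refine Eq.trans ?_ (congrArg (fun w => conj (σ w)) h2).symm
    simp
  | add x y hx' hy' hx hy =>
    have h1 : (⟨conj (x + y), conj_mem_rootField (add_mem hx' hy')⟩ : rootField N)
        = ⟨conj x, conj_mem_rootField hx'⟩ + ⟨conj y, conj_mem_rootField hy'⟩ :=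
      Subtype.ext (map_add conj x y)
    have h2 : (⟨x + y, add_mem hx' hy'⟩ : rootField N) = ⟨x, hx'⟩ + ⟨y, hy'⟩ := rfl
    refine (congrArg σ h1).trans ?_
    refine Eq.trans ?_ (congrArg (fun w => conj (σ w)) h2).symm
    rw [map_add, map_add, map_add]
    exact congrArg₂ (· + ·) hx hy
  | inv x hx' hx =>
    have h1 : (⟨conj x⁻¹, conj_mem_rootField (inv_mem hx')⟩ : rootField N)
        = (⟨conj x, conj_mem_rootField hx'⟩ : rootField N)⁻¹ := Subtype.ext (map_inv₀ conj x)
    have h2 : (⟨x⁻¹, inv_mem hx'⟩ : rootField N) = (⟨x, hx'⟩ : rootField N)⁻¹ := rfl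
    refine (congrArg σ h1).trans ?_
    refine Eq.trans ?_ (congrArg (fun w => conj (σ w)) h2).symm
    rw [map_inv₀, map_inv₀, map_inv₀]
    exact congrArg _ hx
  | mul x y hx' hy' hx hy =>
    have h1 : (⟨conj (x * y), conj_mem_rootField (mul_mem hx' hy')⟩ : rootField N)
        = ⟨conj x, conj_mem_rootField hx'⟩ * ⟨conj y, conj_mem_rootField hy'⟩ :=
      Subtype.ext (map_mul conj x y)
    have h2 : (⟨x * y, mul_mem hx' hy'⟩ : rootField N) = ⟨x, hx'⟩ * ⟨y, hy'⟩ := rfl
    refine (congrArg σ h1).trans ?_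
    refine Eq.trans ?_ (congrArg (fun w => conj (σ w)) h2).symm
    rw [map_mul, map_mul, map_mul]
    exact congrArg₂ (· * ·) hx hy

theorem sum_normSq_ge {N : ℕ} (hN : 0 < N) {x : ℂ} (hx : x ∈ rootField N) (hint : IsIntegral ℤ x)
    (hne : x ≠ 0) [FiniteDimensional ℚ (rootField N)] :
    (Fintype.card (rootField N →ₐ[ℚ] ℂ) : ℝ) ≤ ∑ σ : rootField N →ₐ[ℚ] ℂ, Complex.normSq (σ ⟨x, hx⟩) := by
  set z : rootField N := ⟨x, hx⟩
  have hz : z ≠ 0 := fun h => hne (congrArg Subtype.val h)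
  have hintz : IsIntegral ℤ z :=
    (isIntegral_algHom_iff ((rootField N).val.restrictScalars ℤ) Subtype.val_injective).mp hint
  have hn : IsIntegral ℤ (Algebra.norm ℚ z) := Algebra.isIntegral_norm ℚ hintz
  obtain ⟨m, hm⟩ := IsIntegrallyClosed.isIntegral_iff.mp hn
  have hm0 : m ≠ 0 := fun h => by
    rw [h, map_zero, eq_comm, Algebra.norm_eq_zero_iff] at hm
    exact hz hm
  have hprod := Algebra.norm_eq_prod_embeddings ℚ ℂ z
  have hge : 1 ≤ ∏ σ : rootField N →ₐ[ℚ] ℂ, Complex.normSq (σ z) := by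
    rw [← map_prod, ← hprod, ← hm]
    simp only [eq_intCast, eq_ratCast, Rat.cast_intCast, Complex.normSq_intCast]
    exact_mod_cast mul_self_pos.mpr hm0
  have hpos : ∀ σ : rootField N →ₐ[ℚ] ℂ, 0 < Complex.normSq (σ z) := fun σ =>
    Complex.normSq_pos.mpr ((map_ne_zero σ).mpr hz)
  have hlog : 0 ≤ ∑ σ : rootField N →ₐ[ℚ] ℂ, Real.log (Complex.normSq (σ z)) := by
    rw [← Real.log_prod fun σ _ => (hpos σ).ne']
    exact Real.log_nonneg hge
  calc (Fintype.card (rootField N →ₐ[ℚ] ℂ) : ℝ)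
      = ∑ _σ : rootField N →ₐ[ℚ] ℂ, (1 : ℝ) := by simp
    _ ≤ ∑ _σ : rootField N →ₐ[ℚ] ℂ, (1 : ℝ) + ∑ σ : rootField N →ₐ[ℚ] ℂ, Real.log (Complex.normSq (σ z)) := by
        linarith
    _ = ∑ σ : rootField N →ₐ[ℚ] ℂ, (1 + Real.log (Complex.normSq (σ z))) := by
        rw [Finset.sum_add_distrib]
    _ ≤ ∑ σ : rootField N →ₐ[ℚ] ℂ, Complex.normSq (σ z) := Finset.sum_le_sum fun σ _ => by
        have := Real.log_le_sub_one_of_pos (hpos σ); linarith

/-- Nonzero algebraic integers in a cyclotomic field whose squared absolute values add up to a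
rational number `r`, are at most `r` in number. -/
theorem card_le_of_sum_mul_conj {N : ℕ} (hN : 0 < N) {ι : Type*} [Fintype ι] (x : ι → ℂ)
    (hmem : ∀ i, x i ∈ rootField N) (hint : ∀ i, IsIntegral ℤ (x i)) (hne : ∀ i, x i ≠ 0) (r : ℕ)
    (hsum : ∑ i, x i * conj (x i) = (r : ℂ)) : Fintype.card ι ≤ r := by
  haveI := finiteDimensional_rootField hN
  have hσ : ∀ σ : rootField N →ₐ[ℚ] ℂ, ∑ i, Complex.normSq (σ ⟨x i, hmem i⟩) = (r : ℝ) := by
    intro σ
    apply Complex.ofReal_injective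
    rw [Complex.ofReal_sum, Complex.ofReal_natCast]
    have h1 : (∑ i, (⟨x i, hmem i⟩ : rootField N) * ⟨conj (x i), conj_mem_rootField (hmem i)⟩)
        = (r : rootField N) := by
      apply Subtype.ext
      push_cast
      exact hsum
    have h2 := congrArg σ h1
    rw [map_sum, map_natCast] at h2
    rw [← h2]
    refine Finset.sum_congr rfl fun i _ => ?_
    rw [map_mul, algHom_conj hN σ ⟨x i, hmem i⟩, Complex.mul_conj]
  have hpos : 0 < Fintype.card (rootField N →ₐ[ℚ] ℂ) := Fintype.card_pos_iff.mpr ⟨(rootField N).val⟩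
  have h : (Fintype.card ι : ℝ) * Fintype.card (rootField N →ₐ[ℚ] ℂ)
      ≤ (r : ℝ) * Fintype.card (rootField N →ₐ[ℚ] ℂ) := by
    calc (Fintype.card ι : ℝ) * Fintype.card (rootField N →ₐ[ℚ] ℂ)
        = ∑ _i : ι, (Fintype.card (rootField N →ₐ[ℚ] ℂ) : ℝ) := by simp
      _ ≤ ∑ i, ∑ σ : rootField N →ₐ[ℚ] ℂ, Complex.normSq (σ ⟨x i, hmem i⟩) :=
          Finset.sum_le_sum fun i _ => sum_normSq_ge hN (hmem i) (hint i) (hne i)
      _ = ∑ σ : rootField N →ₐ[ℚ] ℂ, ∑ i, Complex.normSq (σ ⟨x i, hmem i⟩) := Finset.sum_comm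
      _ = _ := by rw [Finset.sum_congr rfl fun σ _ => hσ σ]; simp [mul_comm]
  exact_mod_cast le_of_mul_le_mul_right h (by exact_mod_cast hpos)

theorem char_mem_rootField {G : Type*} [Group G] [Finite G] {χ : G → ℂ} (h : IsCharacter G χ)
    {N : ℕ} (g : G) (hN : orderOf g ∣ N) : χ g ∈ rootField N := by
  obtain ⟨n, ρ, rfl⟩ := h
  obtain ⟨μ, hμ, -, hk, -⟩ := exists_eigenvalues ρ g
  have h1 := hk 1
  simp only [pow_one] at h1
  rw [h1]
  refine sum_mem fun i _ => root_mem_rootField ?_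
  obtain ⟨k, rfl⟩ := hN
  rw [pow_mul, hμ i, one_pow]

end Cfsg.Lib.Blocks
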