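import Cfsg.Agent.Lib.Blocks.Integral
import Cfsg.Agent.Lib.Blocks.Principal
import Cfsg.Agent.Lib.Blocks.Sections
import Cfsg.Prelude.Def_BlockRank

/-!
# The regular rank of a block as a trace, and sums over `p`-sections
-/

namespace Cfsg.Lib.Blocks

open Cfsg.Lib.Characters Finset
open scoped ComplexConjugate Classical

set_option linter.unusedSectionVars false
set_option linter.style.haveILetI false
set_option linter.style.longLine false

variable {G : Type*} [Group G] [Fintype G] {M : Ideal Cfsg.AlgInt} [M.IsPrime]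
variable {p : ℕ} [hp : Fact p.Prime]

theorem pRegularPart_apply (θ : G → ℂ) (g : G) :
    pRegularPart p θ g = if p ∣ orderOf g then 0 else θ g := by
  unfold pRegularPart IsPRegular
  by_cases h : p ∣ orderOf g <;> simp [h]

/-- The projection onto the regular parts of a block. -/
noncomputable def regProj (p : ℕ) (B : Set (IrrCharacter G)) : (G → ℂ) →ₗ[ℂ] (G → ℂ) where
  toFun φ g := if p ∣ orderOf g then 0 else (Nat.card G : ℂ)⁻¹ * ∑ s, φ s * kerB B g s
  map_add' φ ψ := by
    funext g
    simp only [Pi.add_apply]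
    split_ifs
    · simp
    · simp only [add_mul, Finset.sum_add_distrib, mul_add]
  map_smul' c φ := by
    funext g
    simp only [Pi.smul_apply, smul_eq_mul, RingHom.id_apply]
    split_ifs
    · simp
    · simp only [mul_assoc, ← Finset.mul_sum]; ring

theorem regProj_apply (B : Set (IrrCharacter G)) (φ : G → ℂ) (g : G) :
    regProj p B φ g = if p ∣ orderOf g then 0 else (Nat.card G : ℂ)⁻¹ * ∑ s, φ s * kerB B g s := rfl

/-- The regular rank of a block is the trace of the regular kernel. -/
theorem card_mul_blockRank (hM : IsPModular p M) {B : Set (IrrCharacter G)} (hB : IsPBlock M B) :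
    (Nat.card G : ℂ) * (blockRank p B : ℂ)
      = ∑ s, if p ∣ orderOf s then 0 else kerB B s s := by
  set V := Submodule.span ℂ ((fun χ : IrrCharacter G => pRegularPart p (χ : G → ℂ)) '' B) with hV
  have hproj : LinearMap.IsProj V (regProj p B) := by
    refine ⟨fun φ => ?_, fun φ hφ => ?_⟩
    · have he : regProj p B φ = ∑ χ ∈ univ.filter (· ∈ B),
          ((Nat.card G : ℂ)⁻¹ * ∑ s, φ s * (χ : G → ℂ) s⁻¹) • pRegularPart p (χ : G → ℂ) := by
        funext g
        simp only [regProj_apply, Finset.sum_apply, Pi.smul_apply, smul_eq_mul, pRegularPart_apply]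
        split_ifs
        · simp
        · simp only [kerB_eq_filter, Finset.mul_sum, Finset.sum_mul]
          rw [Finset.sum_comm]
          exact Finset.sum_congr rfl fun χ _ => Finset.sum_congr rfl fun s _ => by ring
      rw [he]
      exact Submodule.sum_mem _ fun χ hχ => Submodule.smul_mem _ _
        (Submodule.subset_span ⟨χ, (Finset.mem_filter.mp hχ).2, rfl⟩)
    · induction hφ using Submodule.span_induction with
      | mem x hx =>
        obtain ⟨χ, hχ, rfl⟩ := hx
        funext g
        rw [regProj_apply]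
        simp only [pRegularPart_apply]
        split_ifs with hg
        · rfl
        · conv_rhs => rw [← blockPart_self (B := B) χ hχ g]
          congr 1
          refine Finset.sum_congr rfl fun s _ => ?_
          split_ifs with hs
          · rw [zero_mul, kerB_eq_zero_of_regular hM hB hg hs, mul_zero]
          · rfl
      | zero => exact map_zero _
      | add x y _ _ hx hy => rw [map_add, hx, hy]
      | smul c x _ hx => rw [map_smul, hx]
  have htr := hproj.trace
  rw [LinearMap.trace_eq_matrix_trace ℂ (Pi.basisFun ℂ G)] at htr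
  have hdiag : Matrix.trace (LinearMap.toMatrix (Pi.basisFun ℂ G) (Pi.basisFun ℂ G) (regProj p B))
      = ∑ g, if p ∣ orderOf g then 0 else (Nat.card G : ℂ)⁻¹ * kerB B g g := by
    refine Finset.sum_congr rfl fun g _ => ?_
    rw [Matrix.diag, LinearMap.toMatrix_apply, Pi.basisFun_repr, Pi.basisFun_apply, regProj_apply]
    split_ifs
    · rfl
    · simp [Pi.single_apply]
  rw [hdiag] at htr
  rw [show (blockRank p B : ℂ) = (Module.finrank ℂ V : ℂ) from rfl, ← htr, Finset.mul_sum]
  refine Finset.sum_congr rfl fun g _ => ?_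
  split_ifs
  · rw [mul_zero]
  · rw [← mul_assoc, mul_inv_cancel₀ (Nat.cast_ne_zero.mpr Nat.card_pos.ne'), one_mul]

/-- The kernel of a union of blocks is the sum over its blocks. -/
theorem kerB_eq_sum_blocks {A : Set (IrrCharacter G)} (hA : IsBlockUnion M A) (g h : G) :
    kerB A g h = ∑ b ∈ (blocks G M).filter (· ⊆ A), kerB b g h := by
  simp only [kerB]
  rw [Finset.sum_comm]
  refine Finset.sum_congr rfl fun χ _ => ?_
  by_cases hχ : χ ∈ A
  · rw [if_pos hχ, Finset.sum_eq_single (blockOf M (χ : G → ℂ))]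
    · rw [if_pos (mem_blockOf_self M χ)]
    · intro b hb hne
      rw [if_neg fun hm => hne (IsPBlock.eq_blockOf (mem_blocks.mp (Finset.mem_filter.mp hb).1) hm)]
    · intro hn
      exact absurd (Finset.mem_filter.mpr ⟨mem_blocks.mpr ⟨χ, rfl⟩, fun ψ hψ => hA χ ψ hψ hχ⟩) hn
  · rw [if_neg hχ, Finset.sum_eq_zero]
    intro b hb
    exact if_neg fun hm => hχ ((Finset.mem_filter.mp hb).2 hm)

theorem card_conjugators (x a : G) :
    (univ.filter fun t : G => t * x * t⁻¹ = a).card
      = if IsConj x a then Nat.card (Subgroup.centralizer ({x} : Set G)) else 0 := by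
  split_ifs with hc
  · obtain ⟨c, hc'⟩ := isConj_iff.mp hc
    rw [Nat.card_eq_fintype_card, ← Fintype.card_subtype]
    have hmem : ∀ t : G, t * x * t⁻¹ = a → c⁻¹ * t ∈ Subgroup.centralizer ({x} : Set G) := fun t ht =>
      Subgroup.mem_centralizer_singleton_iff.mpr (mul_inv_eq_iff_eq_mul.mp (by
        calc c⁻¹ * t * x * (c⁻¹ * t)⁻¹ = c⁻¹ * (t * x * t⁻¹) * c := by group
          _ = x := by rw [ht, ← hc']; group))
    refine Fintype.card_congr
      { toFun := fun t => ⟨c⁻¹ * t.1, hmem _ t.2⟩
        invFun := fun d => ⟨c * d.1, by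
          calc c * d.1 * x * (c * d.1)⁻¹ = c * (d.1 * x * d.1⁻¹) * c⁻¹ := by group
            _ = a := by
              rw [Subgroup.mem_centralizer_singleton_iff.mp d.2, mul_inv_cancel_right, hc']⟩
        left_inv := fun t => by simp
        right_inv := fun d => by simp }
  · rw [Finset.card_eq_zero, Finset.filter_eq_empty_iff]
    exact fun t _ ht => hc (isConj_iff.mpr ⟨t, ht⟩)

/-- Summing a class function over a whole `p`-section. -/
theorem sum_section (x : G) (hx : ∃ k : ℕ, orderOf x = p ^ k) {F : G → ℂ}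
    (hF : IsClassFunction G F) :
    ∑ g : G, (if ∃ a b : G, a * b = g ∧ Commute a b ∧ (∃ k : ℕ, orderOf a = p ^ k) ∧
        ¬ p ∣ orderOf b ∧ IsConj x a then F g else 0)
      = ((Subgroup.centralizer ({x} : Set G)).index : ℂ) *
          ∑ y : Subgroup.centralizer ({x} : Set G), if p ∣ orderOf y then 0 else F (x * (y : G)) := by
  set C := Subgroup.centralizer ({x} : Set G) with hC
  have hxC : ∀ y : C, Commute x (y : G) := fun y =>
    (Subgroup.mem_centralizer_singleton_iff.mp y.2).symm
  -- count the pairs `(t, y)` over each element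
  have hcount : ∀ g : G, (∑ t : G, ∑ y : C,
      if ¬ p ∣ orderOf y ∧ t * (x * (y : G)) * t⁻¹ = g then (1 : ℕ) else 0)
      = if ∃ a b : G, a * b = g ∧ Commute a b ∧ (∃ k : ℕ, orderOf a = p ^ k) ∧
          ¬ p ∣ orderOf b ∧ IsConj x a then Nat.card C else 0 := by
    intro g
    obtain ⟨a, b, hab, hcab, ha, hb⟩ := exists_pPart_commute (p := p) g
    have hiff : (∃ a b : G, a * b = g ∧ Commute a b ∧ (∃ k : ℕ, orderOf a = p ^ k) ∧
        ¬ p ∣ orderOf b ∧ IsConj x a) ↔ IsConj x a := by
      refine ⟨?_, fun h => ⟨a, b, hab, hcab, ha, hb, h⟩⟩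
      rintro ⟨a', b', hab', hc', ha', hb', h⟩
      rwa [(pPart_unique (hab.trans hab'.symm) hcab hc' ha ha' hb hb').1]
    simp only [hiff]
    obtain ⟨k, hk⟩ := hx
    have hone : ∀ t : G, (∑ y : C, if ¬ p ∣ orderOf y ∧ t * (x * (y : G)) * t⁻¹ = g then (1 : ℕ) else 0)
        = if t * x * t⁻¹ = a then 1 else 0 := by
      intro t
      by_cases ht : t * x * t⁻¹ = a
      · have hyC : t⁻¹ * b * t ∈ C := by
          rw [hC, Subgroup.mem_centralizer_singleton_iff]
          calc t⁻¹ * b * t * x = t⁻¹ * (b * (t * x * t⁻¹)) * t := by group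
            _ = t⁻¹ * ((t * x * t⁻¹) * b) * t := by rw [ht, hcab.eq]
            _ = x * (t⁻¹ * b * t) := by group
        have hord : ¬ p ∣ orderOf (⟨_, hyC⟩ : C) := by
          rw [Subgroup.orderOf_mk,
            show orderOf (t⁻¹ * b * t) = orderOf b by simpa using MulEquiv.orderOf_eq (MulAut.conj t⁻¹) b]
          exact hb
        rw [if_pos ht, Finset.sum_eq_single (⟨_, hyC⟩ : C), if_pos ⟨hord, by
          rw [← hab, ← ht]; group⟩]
        · intro y _ hy
          rw [if_neg]
          rintro ⟨-, he⟩
          refine hy (Subtype.ext ?_)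
          have h1 : t * (x * (y : G)) * t⁻¹ = a * (t * (y : G) * t⁻¹) := by rw [← ht]; group
          rw [h1, ← hab] at he
          have h2 := mul_left_cancel he
          show (y : G) = t⁻¹ * b * t
          rw [← h2]; group
        · simp
      · rw [if_neg ht, Finset.sum_eq_zero]
        intro y _
        rw [if_neg]
        rintro ⟨hy, he⟩
        refine ht (pPart_unique (q := p) (a := t * x * t⁻¹) (a' := a) (b := t * (y : G) * t⁻¹) (b' := b)
          (by rw [hab, ← he]; group) ((hxC y).map (MulAut.conj t).toMonoidHom) hcab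
          ⟨k, by rw [← hk]; exact MulEquiv.orderOf_eq (MulAut.conj t) x⟩ ha ?_ hb).1
        rw [show orderOf (t * (y : G) * t⁻¹) = orderOf (y : G) from MulEquiv.orderOf_eq (MulAut.conj t) _,
          Subgroup.orderOf_coe]
        exact hy
    rw [Finset.sum_congr rfl fun t _ => hone t, ← Finset.card_filter, card_conjugators]
  -- compare the double counts
  have hCne : (Nat.card C : ℂ) ≠ 0 := Nat.cast_ne_zero.mpr Nat.card_pos.ne'
  apply mul_left_cancel₀ hCne
  have hG : (Nat.card C : ℂ) * (C.index : ℂ) = (Nat.card G : ℂ) := by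
    rw [← Nat.cast_mul, Subgroup.card_mul_index]
  rw [← mul_assoc, hG]
  calc (Nat.card C : ℂ) * ∑ g : G, (if ∃ a b : G, a * b = g ∧ Commute a b ∧
        (∃ k : ℕ, orderOf a = p ^ k) ∧ ¬ p ∣ orderOf b ∧ IsConj x a then F g else 0)
      = ∑ g : G, ((∑ t : G, ∑ y : C,
          if ¬ p ∣ orderOf y ∧ t * (x * (y : G)) * t⁻¹ = g then (1 : ℕ) else 0 : ℕ) : ℂ) * F g := by
        rw [Finset.mul_sum]
        refine Finset.sum_congr rfl fun g _ => ?_
        rw [hcount g]
        split_ifs <;> simp
    _ = ∑ t : G, ∑ y : C, ∑ g : G,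
          (if ¬ p ∣ orderOf y ∧ t * (x * (y : G)) * t⁻¹ = g then F g else 0) := by
        push_cast
        simp only [Finset.sum_mul, ite_mul, one_mul, zero_mul]
        rw [Finset.sum_comm]
        exact Finset.sum_congr rfl fun t _ => Finset.sum_comm
    _ = ∑ _t : G, ∑ y : C, (if p ∣ orderOf y then 0 else F (x * (y : G))) := by
        refine Finset.sum_congr rfl fun t _ => Finset.sum_congr rfl fun y _ => ?_
        by_cases hy : p ∣ orderOf y
        · simp [hy]
        · rw [if_neg hy, Finset.sum_eq_single (t * (x * (y : G)) * t⁻¹), if_pos ⟨hy, rfl⟩,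
            hF (x * (y : G)) t]
          · intro g _ hg; rw [if_neg fun h => hg h.2.symm]
          · simp
    _ = (Nat.card G : ℂ) * ∑ y : C, (if p ∣ orderOf y then 0 else F (x * (y : G))) := by
        rw [Finset.sum_const, Finset.card_univ, nsmul_eq_mul, Nat.card_eq_fintype_card]

theorem blocks_filter_indSet (hM : IsPModular p M) {H : Subgroup G} {B : Set (IrrCharacter G)} :
    (blocks H M).filter (· ⊆ indSet M H B) = (blocks H M).filter (fun b => IsInducedBlock M H b B) := by
  refine Finset.filter_congr fun b hb => ?_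
  have hbb := mem_blocks.mp hb
  constructor
  · intro h
    obtain ⟨ξ, hξ⟩ := IsPBlock.nonempty hbb
    have := h hξ
    rwa [indSet, Set.mem_setOf_eq, ← IsPBlock.eq_blockOf hbb hξ] at this
  · intro h ξ hξ
    show IsInducedBlock M H _ B
    rwa [← IsPBlock.eq_blockOf hbb hξ]

/-- The regular kernel over a section is the sum of the ranks of the inducing blocks. -/
theorem sum_section_kerB (hM : IsPModular p M) {B : Set (IrrCharacter G)} (hB : IsPBlock M B) {x : G}
    (hx : ∃ k : ℕ, orderOf x = p ^ k) :
    ∑ y : Subgroup.centralizer ({x} : Set G), (if p ∣ orderOf y then 0 else kerB B (x * (y : G)) (x * (y : G)))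
      = (Nat.card (Subgroup.centralizer ({x} : Set G)) : ℂ) *
        ∑ b ∈ (blocks (Subgroup.centralizer ({x} : Set G)) M).filter
          (fun b => IsInducedBlock M (Subgroup.centralizer ({x} : Set G)) b B), (blockRank p b : ℂ) := by
  rw [Finset.mul_sum, Finset.sum_congr rfl fun b hb =>
    card_mul_blockRank hM (mem_blocks.mp (Finset.mem_filter.mp hb).1), Finset.sum_comm]
  refine Finset.sum_congr rfl fun y _ => ?_
  split_ifs with hy
  · simp
  · rw [kerB_mul_eq hM hB hx rfl y y hy hy, kerB_eq_sum_blocks (isBlockUnion_indSet _ _),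
      blocks_filter_indSet hM]

end Cfsg.Lib.Blocks
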