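import Cfsg.Agent.Lib.Blocks.RegInner
import Cfsg.Agent.Lib.Blocks.Rank
import Cfsg.Agent.Lib.Blocks.Galois

/-!
# Contributions of a subsection
-/

namespace Cfsg.Lib.Blocks

open Cfsg.Lib.Characters Finset
open scoped ComplexConjugate Classical

set_option linter.unusedSectionVars false
set_option linter.style.haveILetI false
set_option linter.style.longLine false

variable {G : Type*} [Group G] [Fintype G]

/-- The coefficient of `ξ` in the `x`-translate of `χ`. -/
noncomputable def secCoeff (x : G) (H : Subgroup G) (χ : IrrCharacter G) (ξ : IrrCharacter H) : ℂ :=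
  classInner (fun c : H => (χ : G → ℂ) (x * (c : G))) (ξ : H → ℂ)

theorem isClassFunction_translate {x : G} {H : Subgroup G}
    (hH : H ≤ Subgroup.centralizer ({x} : Set G)) (χ : IrrCharacter G) :
    IsClassFunction H (fun c : H => (χ : G → ℂ) (x * (c : G))) := by
  intro a h
  have hc : Commute x (h : G) := (Subgroup.mem_centralizer_singleton_iff.mp (hH h.2)).symm
  refine (char_eq_of_isConj χ (isConj_iff.mpr ⟨(h : G), ?_⟩)).symm
  rw [Subgroup.coe_mul, Subgroup.coe_mul, Subgroup.coe_inv, ← mul_assoc (h : G) x, ← hc.eq]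
  group

theorem conj_secCoeff (x : G) (H : Subgroup G) (χ : IrrCharacter G) (ξ : IrrCharacter H)
    (hH : H ≤ Subgroup.centralizer ({x} : Set G)) :
    conj (secCoeff x H χ ξ) = secCoeff x⁻¹ H χ ξ := by
  simp only [secCoeff, classInner, map_mul, map_inv₀, map_natCast, map_sum]
  congr 1
  refine Fintype.sum_equiv (Equiv.inv H) _ _ fun c => ?_
  have hc : Commute x (c : G) := (Subgroup.mem_centralizer_singleton_iff.mp (hH c.2)).symm
  simp only [Equiv.inv_apply, Subgroup.coe_inv]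
  rw [Complex.conj_conj, ← char_inv_eq_conj χ.2.isCharacter, char_inv_eq_conj ξ.2.isCharacter,
    Complex.conj_conj, mul_inv_rev, (hc.inv_inv).eq]

theorem isIntegral_secCoeff {x : G} {H : Subgroup G} (hx : x ∈ H)
    (hH : H ≤ Subgroup.centralizer ({x} : Set G)) (χ : IrrCharacter G) (ξ : IrrCharacter H) :
    IsIntegral ℤ (secCoeff x H χ ξ) := by
  let diag : H →* H × H := (MonoidHom.id H).prod (MonoidHom.id H)
  have hdiag : Function.Injective diag := fun a b hab => congrArg Prod.fst hab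
  have hθ : IsCharacter (H × H) ((fun z : H × H => (χ : G → ℂ) ((MonoidHom.fst H H z : H) : G)) *
      (fun z : H × H => conj ((ξ : H → ℂ) (MonoidHom.snd H H z)))) :=
    isCharacter_mul (isCharacter_comp (isCharacter_restrict χ.2.isCharacter H) (MonoidHom.fst H H))
      (isCharacter_comp (isCharacter_conj ξ.2.isCharacter) (MonoidHom.snd H H))
  have h := isIntegral_average hθ ((⟨x, hx⟩ : H), (1 : H)) diag.range (by
    rintro _ ⟨c, rfl⟩
    exact Prod.ext (Subtype.ext (Subgroup.mem_centralizer_singleton_iff.mp (hH c.2)).symm)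
      ((Commute.one_left c).eq))
  have hcard : Nat.card diag.range = Nat.card H :=
    Nat.card_congr (MonoidHom.ofInjective hdiag).toEquiv.symm
  rw [hcard] at h
  rw [secCoeff, classInner]
  convert h using 2
  refine Finset.sum_equiv (MonoidHom.ofInjective hdiag).toEquiv (fun c => by simp) ?_
  intro c _
  show (χ : G → ℂ) (x * (c : G)) * conj ((ξ : H → ℂ) c)
    = (χ : G → ℂ) (((⟨x, hx⟩ : H) * c : H) : G) * conj ((ξ : H → ℂ) (1 * c))
  rw [one_mul]
  rfl

theorem secCoeff_mem_rootField {x : G} {H : Subgroup G} (χ : IrrCharacter G) (ξ : IrrCharacter H) :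
    secCoeff x H χ ξ ∈ rootField (Nat.card G) := by
  rw [secCoeff, classInner]
  refine mul_mem (inv_mem (natCast_mem _ _)) (sum_mem fun c _ => mul_mem ?_ ?_)
  · exact char_mem_rootField χ.2.isCharacter _ (orderOf_dvd_natCard _)
  · exact conj_mem_rootField (char_mem_rootField ξ.2.isCharacter _
      ((orderOf_dvd_natCard _).trans H.card_subgroup_dvd_card))

theorem blockPart_translate (x : G) (H : Subgroup G) (b : Set (IrrCharacter H)) (χ : IrrCharacter G)
    (s : H) :
    blockPart b (fun c : H => (χ : G → ℂ) (x * (c : G))) s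
      = ∑ ξ ∈ univ.filter (· ∈ b), secCoeff x H χ ξ * (ξ : H → ℂ) s := by
  rw [blockPart_eq_kerB]
  simp only [kerB_eq_filter, secCoeff, classInner, Finset.mul_sum, Finset.sum_mul]
  rw [Finset.sum_comm]
  refine Finset.sum_congr rfl fun ξ _ => ?_
  refine Finset.sum_congr rfl fun c _ => ?_
  rw [char_inv_eq_conj ξ.2.isCharacter]
  ring

variable {M : Ideal Cfsg.AlgInt} [M.IsPrime] {p : ℕ} [hp : Fact p.Prime]

/-- The block parts of translates, summed over a block, give the kernel of the inducing block. -/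
theorem sum_blockPart_mul (hM : IsPModular p M) {B : Set (IrrCharacter G)} {x : G}
    (hx : ∃ k : ℕ, orderOf x = p ^ k) {H : Subgroup G}
    (hH : H = Subgroup.centralizer ({x} : Set G)) {e : Set (IrrCharacter H)}
    (hind : IsInducedBlock M H e B) {s t : H} (hs : ¬ p ∣ orderOf s) (ht : ¬ p ∣ orderOf t) :
    ∑ χ ∈ univ.filter (· ∈ B), blockPart e (fun c : H => (χ : G → ℂ) (x * (c : G))) s *
        blockPart e (fun c : H => (χ : G → ℂ) (x⁻¹ * (c : G))) t⁻¹
      = kerB e s t := by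
  have he := hind.1
  have hB := hind.2.1
  have hcx : ∀ c : H, Commute x (c : G) := fun c =>
    (Subgroup.mem_centralizer_singleton_iff.mp (hH.le c.2)).symm
  have ht' : ¬ p ∣ orderOf t⁻¹ := by rwa [orderOf_inv]
  have hN : (Nat.card H : ℂ) ≠ 0 := Nat.cast_ne_zero.mpr Nat.card_pos.ne'
  have hsub : e ∩ indSet M H B = e := by
    refine Set.inter_eq_left.mpr fun ξ hξ => ?_
    show IsInducedBlock M _ _ B
    rw [← IsPBlock.eq_blockOf he hξ]
    exact hind
  rw [Finset.sum_congr rfl (g := fun χ : IrrCharacter G => (Nat.card H : ℂ)⁻¹ * (Nat.card H : ℂ)⁻¹ *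
      ∑ c, ∑ d, kerB e s c * kerB e t⁻¹ d * ((χ : G → ℂ) (x * c) * (χ : G → ℂ) (x⁻¹ * d))) fun χ _ => by
    rw [blockPart_eq_kerB, blockPart_eq_kerB, mul_mul_mul_comm, Finset.sum_mul_sum]
    congr 1
    exact Finset.sum_congr rfl fun c _ => Finset.sum_congr rfl fun d _ => by ring]
  rw [← Finset.mul_sum, Finset.sum_comm, Finset.sum_congr rfl fun c _ => Finset.sum_comm]
  have hinner : ∀ c d : H, ∑ χ ∈ univ.filter (· ∈ B),
      kerB e s c * kerB e t⁻¹ d * ((χ : G → ℂ) (x * c) * (χ : G → ℂ) (x⁻¹ * d))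
      = kerB e t⁻¹ d * (kerB e s c * kerB (indSet M H B) c d⁻¹) := by
    intro c d
    rw [← Finset.mul_sum]
    by_cases hc : p ∣ orderOf c
    · rw [kerB_eq_zero_of_regular hM he hs hc]; ring
    by_cases hd : p ∣ orderOf d
    · rw [kerB_eq_zero_of_regular hM he ht' hd]; ring
    rw [← kerB_mul_eq hM hB hx hH c d⁻¹ hc (by rwa [orderOf_inv]), kerB_eq_filter B]
    have hk : ∀ χ : IrrCharacter G, (χ : G → ℂ) (x * ((d⁻¹ : H) : G))⁻¹ = (χ : G → ℂ) (x⁻¹ * (d : G)) := by
      intro χ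
      rw [Subgroup.coe_inv, mul_inv_rev, inv_inv, ((hcx d).inv_left).eq]
    simp only [hk]
    ring
  rw [Finset.sum_congr rfl fun c _ => Finset.sum_congr rfl fun d _ => hinner c d, Finset.sum_comm,
    Finset.sum_congr rfl fun d _ => (Finset.mul_sum ..).symm]
  simp only [sum_kerB_mul, hsub]
  have hsym : ∀ d, kerB e t⁻¹ d = kerB e d⁻¹ t := fun d => by
    refine Finset.sum_congr rfl fun χ _ => ?_
    rw [mul_comm]
  rw [Finset.sum_congr rfl (g := fun d => (Nat.card H : ℂ) * (kerB e s d⁻¹ * kerB e d⁻¹ t))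
      fun d _ => by rw [hsym]; ring, ← Finset.mul_sum,
    Fintype.sum_equiv (Equiv.inv H) (fun d => kerB e s d⁻¹ * kerB e d⁻¹ t)
      (fun c => kerB e s c * kerB e c t) (fun d => rfl), sum_kerB_mul, Set.inter_self]
  field_simp

/-- The contribution of the subsection `(x, b)` to the pair `(χ, ψ)`, scaled by `p ^ d`. -/
noncomputable def contrib (p : ℕ) [Fact p.Prime] (x : G) (H : Subgroup G) (b : Set (IrrCharacter H))
    (χ ψ : IrrCharacter G) : ℂ :=
  ((p ^ blockDefect p b : ℕ) : ℂ) / (Nat.card H : ℂ) *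
    ∑ s : H, if p ∣ orderOf s then 0 else
      blockPart b (fun c : H => (χ : G → ℂ) (x * (c : G))) s *
        blockPart b (fun c : H => (ψ : G → ℂ) (x⁻¹ * (c : G))) s⁻¹

theorem contrib_eq (hM : IsPModular p M) (x : G) {H : Subgroup G} {b : Set (IrrCharacter H)}
    (hb : IsPBlock M b) (χ ψ : IrrCharacter G) :
    contrib p x H b χ ψ = ∑ ξ ∈ univ.filter (· ∈ b), ∑ ξ' ∈ univ.filter (· ∈ b),
      secCoeff x H χ ξ * secCoeff x⁻¹ H ψ ξ' * (blockC p b ξ ξ' : ℂ) := by
  obtain ⟨ξ₀, hξ₀⟩ := IsPBlock.nonempty hb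
  have hle := (inf_le_factorization p hξ₀).trans (charDegree_factorization_le ξ₀)
  have hp0 : (p : ℂ) ≠ 0 := Nat.cast_ne_zero.mpr hp.out.ne_zero
  have hC : ∀ ξ ∈ b, ∀ ξ' : IrrCharacter H, (blockC p b ξ ξ' : ℂ)
      = ((p ^ blockDefect p b : ℕ) : ℂ) / (Nat.card H : ℂ) * regInner p (ξ : H → ℂ) (ξ' : H → ℂ) := by
    intro ξ hξ ξ'
    rw [regN_spec, ← pPow_mul_ordCompl (G := H) (p := p), blockC_spec hM hb hξ ξ', blockDefect]
    have := ordCompl_ne_zero (G := H) (p := p)
    have hA : ((p ^ (Nat.card H).factorization p : ℕ) : ℂ) ≠ 0 :=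
      Nat.cast_ne_zero.mpr (pow_ne_zero _ hp.out.ne_zero)
    field_simp
    push_cast
    rw [mul_comm (blockC p b ξ ξ' : ℂ), ← mul_assoc, ← pow_add, Nat.sub_add_cancel hle]
  have hs : ∀ s : H, (if p ∣ orderOf s then (0 : ℂ) else
      blockPart b (fun c : H => (χ : G → ℂ) (x * (c : G))) s *
        blockPart b (fun c : H => (ψ : G → ℂ) (x⁻¹ * (c : G))) s⁻¹)
      = ∑ ξ ∈ univ.filter (· ∈ b), ∑ ξ' ∈ univ.filter (· ∈ b),
          secCoeff x H χ ξ * secCoeff x⁻¹ H ψ ξ' *
            (if p ∣ orderOf s then 0 else (ξ : H → ℂ) s * (ξ' : H → ℂ) s⁻¹) := by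
    intro s
    split_ifs
    · simp
    · rw [blockPart_translate, blockPart_translate, Finset.sum_mul_sum]
      exact Finset.sum_congr rfl fun ξ _ => Finset.sum_congr rfl fun ξ' _ => by ring
  rw [contrib, Finset.sum_congr rfl fun s _ => hs s, Finset.sum_comm, Finset.mul_sum]
  refine Finset.sum_congr rfl fun ξ hξ => ?_
  rw [Finset.sum_comm, Finset.mul_sum]
  refine Finset.sum_congr rfl fun ξ' _ => ?_
  rw [← Finset.mul_sum, hC ξ (Finset.mem_filter.mp hξ).2 ξ']
  simp only [regInner]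
  ring

theorem isIntegral_contrib (hM : IsPModular p M) {x : G} {H : Subgroup G}
    (hH : H = Subgroup.centralizer ({x} : Set G)) {b : Set (IrrCharacter H)} (hb : IsPBlock M b)
    (χ ψ : IrrCharacter G) : IsIntegral ℤ (contrib p x H b χ ψ) := by
  have hxH : x ∈ H := hH ▸ Subgroup.mem_centralizer_singleton_iff.mpr rfl
  have hH' : H ≤ Subgroup.centralizer ({x⁻¹} : Set G) := by
    rw [centralizer_inv_singleton, hH]
  rw [contrib_eq hM x hb]
  refine IsIntegral.sum _ fun ξ _ => IsIntegral.sum _ fun ξ' _ => ?_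
  refine ((isIntegral_secCoeff hxH hH.le χ ξ).mul
    (isIntegral_secCoeff (inv_mem hxH) hH' ψ ξ')).mul ?_
  exact isIntegral_algebraMap (R := ℤ) (x := blockC p b ξ ξ')

theorem contrib_mem_rootField (hM : IsPModular p M) (x : G) {H : Subgroup G}
    {b : Set (IrrCharacter H)} (hb : IsPBlock M b) (χ ψ : IrrCharacter G) :
    contrib p x H b χ ψ ∈ rootField (Nat.card G) := by
  rw [contrib_eq hM x hb]
  exact sum_mem fun ξ _ => sum_mem fun ξ' _ =>
    mul_mem (mul_mem (secCoeff_mem_rootField χ ξ) (secCoeff_mem_rootField ψ ξ')) (intCast_mem _ _)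

theorem conj_contrib (hM : IsPModular p M) {x : G} {H : Subgroup G}
    (hH : H ≤ Subgroup.centralizer ({x} : Set G)) {b : Set (IrrCharacter H)} (hb : IsPBlock M b)
    (χ ψ : IrrCharacter G) : conj (contrib p x H b χ ψ) = contrib p x H b ψ χ := by
  have hH' : H ≤ Subgroup.centralizer ({x⁻¹} : Set G) := by
    rwa [centralizer_inv_singleton]
  rw [contrib_eq hM x hb, contrib_eq hM x hb, map_sum]
  conv_rhs => rw [Finset.sum_comm]
  refine Finset.sum_congr rfl fun ξ _ => ?_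
  rw [map_sum]
  refine Finset.sum_congr rfl fun ξ' _ => ?_
  rw [map_mul, map_mul, conj_secCoeff x H χ ξ hH, conj_secCoeff x⁻¹ H ψ ξ' hH', inv_inv, map_intCast,
    blockC_comm (p := p) b ξ' ξ]
  ring

/-- The squared contributions add up to `p ^ 2d` times the regular rank. -/
theorem sum_contrib_mul (hM : IsPModular p M) {B : Set (IrrCharacter G)} {x : G}
    (hx : ∃ k : ℕ, orderOf x = p ^ k) {H : Subgroup G}
    (hH : H = Subgroup.centralizer ({x} : Set G)) {b : Set (IrrCharacter H)}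
    (hind : IsInducedBlock M H b B) :
    ∑ χ ∈ univ.filter (· ∈ B), ∑ ψ ∈ univ.filter (· ∈ B), contrib p x H b χ ψ * contrib p x H b ψ χ
      = ((p ^ blockDefect p b : ℕ) : ℂ) ^ 2 * (blockRank p b : ℂ) := by
  set q : ℂ := ((p ^ blockDefect p b : ℕ) : ℂ)
  set P : IrrCharacter G → H → ℂ := fun χ s => blockPart b (fun c : H => (χ : G → ℂ) (x * (c : G))) s
  set P' : IrrCharacter G → H → ℂ := fun χ s => blockPart b (fun c : H => (χ : G → ℂ) (x⁻¹ * (c : G))) s
  set R := univ.filter fun s : H => ¬ p ∣ orderOf s with hR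
  have hc : ∀ χ ψ, contrib p x H b χ ψ = q / (Nat.card H : ℂ) * ∑ s ∈ R, P χ s * P' ψ s⁻¹ := by
    intro χ ψ
    rw [contrib, hR, Finset.sum_filter]
    congr 1
    exact Finset.sum_congr rfl fun s _ => by split_ifs <;> rfl
  have key : ∀ χ ψ, contrib p x H b χ ψ * contrib p x H b ψ χ
      = q / (Nat.card H : ℂ) * (q / (Nat.card H : ℂ)) *
        ∑ s ∈ R, ∑ t ∈ R, (P χ s * P' χ t⁻¹) * (P ψ t * P' ψ s⁻¹) := by
    intro χ ψ
    rw [hc, hc, mul_mul_mul_comm, Finset.sum_mul_sum]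
    congr 1
    exact Finset.sum_congr rfl fun s _ => Finset.sum_congr rfl fun t _ => by ring
  rw [Finset.sum_congr rfl fun χ _ => Finset.sum_congr rfl fun ψ _ => key χ ψ]
  simp only [← Finset.mul_sum]
  have hb := hind.1
  have hswap : ∑ χ ∈ univ.filter (· ∈ B), ∑ ψ ∈ univ.filter (· ∈ B),
      ∑ s ∈ R, ∑ t ∈ R, (P χ s * P' χ t⁻¹) * (P ψ t * P' ψ s⁻¹)
      = ∑ s ∈ R, ∑ t ∈ R, kerB b s t * kerB b t s := by
    rw [Finset.sum_congr rfl fun χ _ => Finset.sum_comm, Finset.sum_comm]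
    refine Finset.sum_congr rfl fun s hs => ?_
    rw [Finset.sum_congr rfl fun χ _ => Finset.sum_comm, Finset.sum_comm]
    refine Finset.sum_congr rfl fun t ht => ?_
    rw [← Finset.sum_mul_sum, sum_blockPart_mul hM hx hH hind (Finset.mem_filter.mp hs).2
      (Finset.mem_filter.mp ht).2, sum_blockPart_mul hM hx hH hind (Finset.mem_filter.mp ht).2
      (Finset.mem_filter.mp hs).2]
  rw [hswap]
  have hN : (Nat.card H : ℂ) ≠ 0 := Nat.cast_ne_zero.mpr Nat.card_pos.ne'
  have h1 : ∀ s ∈ R, ∑ t ∈ R, kerB b s t * kerB b t s = (Nat.card H : ℂ) * kerB b s s := by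
    intro s hs
    rw [Finset.sum_subset (Finset.subset_univ R) fun t _ ht => by
      rw [kerB_eq_zero_of_regular hM hb (Finset.mem_filter.mp hs).2
        (by simpa [hR] using ht), zero_mul], sum_kerB_mul, Set.inter_self]
  rw [Finset.sum_congr rfl h1, ← Finset.mul_sum, hR, Finset.sum_filter,
    Finset.sum_congr rfl (g := fun s : H => if p ∣ orderOf s then 0 else kerB b s s)
      fun s _ => by split_ifs <;> rfl, ← card_mul_blockRank hM hb]
  field_simp

/-- For height zero characters the contributions are units modulo `M`. -/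
theorem red_contrib_ne_zero (hM : IsPModular p M) {B : Set (IrrCharacter G)} {x : G}
    (hx : ∃ k : ℕ, orderOf x = p ^ k) {H : Subgroup G}
    (hH : H = Subgroup.centralizer ({x} : Set G)) {b : Set (IrrCharacter H)}
    (hind : IsInducedBlock M H b B) {χ ψ : IrrCharacter G} (hχ : χ ∈ B) (hψ : ψ ∈ B)
    (hχ0 : blockHeight p B (χ : G → ℂ) = 0) (hψ0 : blockHeight p B (ψ : G → ℂ) = 0) :
    red M (contrib p x H b χ ψ) ≠ 0 := by
  have hb := hind.1
  have hB := hind.2.1
  have hxH : x ∈ H := hH ▸ Subgroup.mem_centralizer_singleton_iff.mpr rfl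
  have hH' : H ≤ Subgroup.centralizer ({x⁻¹} : Set G) := by
    rw [centralizer_inv_singleton, hH]
  obtain ⟨ξ₀, hξ₀, hmin⟩ := exists_height_zero p (IsPBlock.nonempty hb)
  set m := sInf ((fun χ : IrrCharacter H => (charDegree (χ : H → ℂ)).factorization p) '' b) with hm
  set F := univ.filter (fun ξ : IrrCharacter H => ξ ∈ b) with hF
  -- the translates detect height zero
  have hΛ : ∀ (z : G), z ∈ H → H ≤ Subgroup.centralizer ({z} : Set G) → (∃ k : ℕ, orderOf z = p ^ k) →
      ∀ θ : IrrCharacter G, θ ∈ B → blockHeight p B (θ : G → ℂ) = 0 →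
      ∀ ξ' ∈ b, ∑ ξ ∈ F, red M (secCoeff z H θ ξ) * lam M ξ' (redG M (zc p (ξ : H → ℂ)))
        = lam M θ (redG M (zc p (θ : G → ℂ))) := by
    intro z hz hzH hzp θ hθ _ ξ' hξ'
    set f : H → ℂ := fun c => (θ : G → ℂ) (z * (c : G)) with hf
    have hfc : IsClassFunction H f := isClassFunction_translate hzH θ
    have hzf : zc p f ∈ locCenter H M := by
      refine ⟨fun g a => ?_, fun g => ?_⟩
      · have h : orderOf (g * a * g⁻¹) = orderOf a := MulEquiv.orderOf_eq (MulAut.conj g) a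
        simp only [coeff_zc, h]
        split_ifs
        · rfl
        · rw [show (g * a * g⁻¹)⁻¹ = g * a⁻¹ * g⁻¹ by group, hfc a⁻¹ g]
      · rw [coeff_zc]
        split_ifs
        · exact zero_mem _
        · exact char_mem_locRing M θ _
    have hred : redG M (zc p (fun c : H => (θ : G → ℂ) c)) = redG M (zc p f) := by
      refine gr_ext fun c => ?_
      simp only [coeff_redG, coeff_zc]
      split_ifs with hc
      · rfl
      · refine (red_char_mul_pPart hM θ ?_ hzp ?_).symm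
        · exact (Subgroup.mem_centralizer_singleton_iff.mp (hzH (c⁻¹).2)).symm
        · rw [Subgroup.orderOf_coe, orderOf_inv]; exact hc
    have hsum : regInner p f (ξ' : H → ℂ) / (ξ' : H → ℂ) 1
        = ∑ ξ ∈ F, secCoeff z H θ ξ * (regInner p (ξ : H → ℂ) (ξ' : H → ℂ) / (ξ' : H → ℂ) 1) := by
      conv_lhs => rw [classFunction_expansion hfc, regInner_sum_left, Finset.sum_div]
      rw [← Finset.sum_subset (Finset.subset_univ F)]
      · exact Finset.sum_congr rfl fun ξ _ => mul_div_assoc _ _ _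
      · intro ξ _ hξ
        rw [regInner_eq_zero hM fun hs => hξ (Finset.mem_filter.mpr ⟨Finset.mem_univ _,
          IsPBlock.mem_of_sameBlock hb hξ' (sameBlock_symm M hs)⟩), mul_zero, zero_div]
    rw [← (isInducedBlock_iff hb hB hξ' hθ).mp hind _
        (isClassElt_redG M (zc_mem_locCenter (M := M) p θ.2.isCharacter).1),
      resSub_redG_zc p (θ : G → ℂ) H, hred, lam_redG M ξ' hzf, omega_zc, hsum,
      red_sum _ fun ξ _ => mul_mem (isIntegral_mem_locRing M (isIntegral_secCoeff hz hzH θ ξ))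
        (regInner_div_mem p ξ.2.isCharacter ξ')]
    refine Finset.sum_congr rfl fun ξ _ => ?_
    rw [red_mul (isIntegral_mem_locRing M (isIntegral_secCoeff hz hzH θ ξ))
      (regInner_div_mem p ξ.2.isCharacter ξ'), lam_zc p ξ.2.isCharacter]
  set u : ℂ := ((Nat.card H / p ^ (Nat.card H).factorization p : ℕ) : ℂ) with hu
  set t : IrrCharacter H → ℂ := fun ξ => (ξ : H → ℂ) 1 / ((p ^ m : ℕ) : ℂ) with ht
  have htmem : ∀ ξ ∈ b, t ξ ∈ locRing M := by
    intro ξ hξ
    have h := (natDiv_mem_iff hM (charDegree_pos ξ).ne' (pow_ne_zero m hp.out.ne_zero)).1.mpr (by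
      rw [hp.out.factorization_pow, Finsupp.single_eq_same]; exact inf_le_factorization p hξ)
    rwa [coe_charDegree] at h
  have ht0 : red M (t ξ₀) ≠ 0 := by
    intro h0
    have h := (natDiv_mem_iff hM (charDegree_pos ξ₀).ne' (pow_ne_zero m hp.out.ne_zero)).2.mp
      (by rw [coe_charDegree]; exact memLocalIdeal_iff.mpr ⟨htmem ξ₀ hξ₀, h0⟩)
    rw [hp.out.factorization_pow, Finsupp.single_eq_same, hmin] at h
    exact lt_irrefl _ h
  have hC : ∀ ξ ∈ b, ∀ ξ' ∈ b, red M u * red M (blockC p b ξ ξ' : ℂ)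
      = lam M ξ' (redG M (zc p (ξ : H → ℂ))) * red M (t ξ') := by
    intro ξ hξ ξ' hξ'
    rw [lam_zc p ξ.2.isCharacter, ← red_mul (regInner_div_mem p ξ.2.isCharacter ξ') (htmem ξ' hξ'),
      ← red_mul (natCast_mem _ _) (intCast_mem _ _)]
    congr 1
    rw [regN_spec, ← hu, blockC_spec hM hb hξ ξ', ht, ← hm]
    have h1 := ξ'.2.one_ne_zero
    have h2 : ((p ^ m : ℕ) : ℂ) ≠ 0 := Nat.cast_ne_zero.mpr (pow_ne_zero _ hp.out.ne_zero)
    push_cast at h2 ⊢
    field_simp
  intro h0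
  have hamem : ∀ ξ, secCoeff x H χ ξ ∈ locRing M := fun ξ =>
    isIntegral_mem_locRing M (isIntegral_secCoeff hxH hH.le χ ξ)
  have hbmem : ∀ ξ, secCoeff x⁻¹ H ψ ξ ∈ locRing M := fun ξ =>
    isIntegral_mem_locRing M (isIntegral_secCoeff (inv_mem hxH) hH' ψ ξ)
  have hΛχ := hΛ x hxH hH.le hx χ hχ hχ0
  have hΛψ := hΛ x⁻¹ (inv_mem hxH) hH' (by simpa using hx) ψ hψ hψ0
  set Λ := lam M χ (redG M (zc p (χ : G → ℂ))) with hΛdef
  have hΛne : Λ ≠ 0 := (lam_zc_ne_zero_iff hM hB hχ hχ).mpr hχ0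
  have hΛne' : lam M ψ (redG M (zc p (ψ : G → ℂ))) ≠ 0 := (lam_zc_ne_zero_iff hM hB hψ hψ).mpr hψ0
  have e1 : Λ * ∑ ξ' ∈ F, red M (secCoeff x⁻¹ H ψ ξ') * red M (t ξ') = 0 := by
    have h1 : red M u * red M (contrib p x H b χ ψ) = 0 := by rw [h0, mul_zero]
    rw [contrib_eq hM x hb, ← hF, red_sum _ fun ξ _ => sum_mem fun ξ' _ =>
      mul_mem (mul_mem (hamem ξ) (hbmem ξ')) (intCast_mem _ _)] at h1
    refine Eq.trans ?_ h1
    symm
    calc red M u * ∑ ξ ∈ F, red M (∑ ξ' ∈ F, secCoeff x H χ ξ * secCoeff x⁻¹ H ψ ξ' * (blockC p b ξ ξ' : ℂ))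
        = ∑ ξ ∈ F, ∑ ξ' ∈ F, red M (secCoeff x H χ ξ) *
            (red M (secCoeff x⁻¹ H ψ ξ') * (lam M ξ' (redG M (zc p (ξ : H → ℂ))) * red M (t ξ'))) := by
          rw [Finset.mul_sum]
          refine Finset.sum_congr rfl fun ξ hξ => ?_
          rw [red_sum _ fun ξ' _ => mul_mem (mul_mem (hamem ξ) (hbmem ξ')) (intCast_mem _ _), Finset.mul_sum]
          refine Finset.sum_congr rfl fun ξ' hξ' => ?_
          rw [red_mul (mul_mem (hamem ξ) (hbmem ξ')) (intCast_mem _ _), red_mul (hamem ξ) (hbmem ξ'),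
            ← hC ξ (Finset.mem_filter.mp hξ).2 ξ' (Finset.mem_filter.mp hξ').2]
          ring
      _ = _ := by
          rw [Finset.sum_comm, Finset.mul_sum]
          refine Finset.sum_congr rfl fun ξ' hξ' => ?_
          rw [← hΛχ ξ' (Finset.mem_filter.mp hξ').2, Finset.sum_mul]
          exact Finset.sum_congr rfl fun ξ _ => by ring
  have e2 := (mul_eq_zero.mp e1).resolve_left hΛne
  set L := lam M ξ₀ (redG M (zc p (ξ₀ : H → ℂ))) with hLdef
  have e3 : ∑ ξ' ∈ F, red M (secCoeff x⁻¹ H ψ ξ') *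
      (lam M ξ₀ (redG M (zc p (ξ' : H → ℂ))) * red M (t ξ₀)) = 0 := by
    rw [Finset.sum_congr rfl (g := fun ξ' => L * (red M (secCoeff x⁻¹ H ψ ξ') * red M (t ξ')))
      fun ξ' hξ' => ?_, ← Finset.mul_sum, e2, mul_zero]
    have hm' := (Finset.mem_filter.mp hξ').2
    rw [← hC ξ' hm' ξ₀ hξ₀, blockC_comm, hC ξ₀ hξ₀ ξ' hm', hLdef,
      lam_eq_of_sameBlock M (IsPBlock.sameBlock hb hm' hξ₀)]
    ring
  simp only [← mul_assoc, ← Finset.sum_mul] at e3
  rw [hΛψ ξ₀ hξ₀] at e3
  exact mul_ne_zero hΛne' ht0 e3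

theorem contrib_ne_zero (hM : IsPModular p M) {B : Set (IrrCharacter G)} {x : G}
    (hx : ∃ k : ℕ, orderOf x = p ^ k) {H : Subgroup G}
    (hH : H = Subgroup.centralizer ({x} : Set G)) {b : Set (IrrCharacter H)}
    (hind : IsInducedBlock M H b B) {χ ψ : IrrCharacter G} (hχ : χ ∈ B) (hψ : ψ ∈ B)
    (hχ0 : blockHeight p B (χ : G → ℂ) = 0) (hψ0 : blockHeight p B (ψ : G → ℂ) = 0) :
    contrib p x H b χ ψ ≠ 0 := fun h0 =>
  red_contrib_ne_zero hM hx hH hind hχ hψ hχ0 hψ0 (by rw [h0, red_zero])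

/-- If every character of the block has height zero, `k(B)² ≤ p ^ 2d l(b)`. -/
theorem card_sq_le (hM : IsPModular p M) {B : Set (IrrCharacter G)}
    (hh : ∀ χ ∈ B, blockHeight p B (χ : G → ℂ) = 0) {x : G}
    (hx : ∃ k : ℕ, orderOf x = p ^ k) {H : Subgroup G}
    (hH : H = Subgroup.centralizer ({x} : Set G)) {b : Set (IrrCharacter H)}
    (hind : IsInducedBlock M H b B) :
    Nat.card B ^ 2 ≤ p ^ (2 * blockDefect p b) * blockRank p b := by
  have h := card_le_of_sum_mul_conj (Nat.card_pos (α := G))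
    (fun z : B × B => contrib p x H b z.1.1 z.2.1)
    (fun z => contrib_mem_rootField hM x hind.1 _ _)
    (fun z => isIntegral_contrib hM hH hind.1 _ _)
    (fun z => contrib_ne_zero hM hx hH hind z.1.2 z.2.2 (hh _ z.1.2) (hh _ z.2.2))
    (p ^ (2 * blockDefect p b) * blockRank p b) ?_
  · rwa [Fintype.card_prod, ← Nat.card_eq_fintype_card, ← pow_two] at h
  rw [Finset.sum_congr rfl (g := fun z : B × B => contrib p x H b z.1.1 z.2.1 * contrib p x H b z.2.1 z.1.1)
    fun z _ => by rw [conj_contrib hM hH.le hind.1], Fintype.sum_prod_type]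
  have key : ∀ f : IrrCharacter G → ℂ, ∑ z : B, f z.1 = ∑ χ ∈ univ.filter (· ∈ B), f χ := fun f =>
    (Finset.sum_subtype (univ.filter (· ∈ B)) (fun χ => by simp) f).symm
  rw [key fun χ => ∑ z' : B, contrib p x H b χ z'.1 * contrib p x H b z'.1 χ]
  rw [Finset.sum_congr rfl fun χ _ => key fun ψ => contrib p x H b χ ψ * contrib p x H b ψ χ,
    sum_contrib_mul hM hx hH hind, Nat.cast_mul, mul_comm 2, pow_mul]
  push_cast; ring

end Cfsg.Lib.Blocks
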