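import Mathlib
import Cfsg.Agent.Lib.Characters.Integrality
import Cfsg.Agent.Lib.Characters.Galois
import Cfsg.Agent.Lib.Characters.PowerConj

/-!
# Averages of characters over cosets of a normal subgroup, and a Galois-product criterion
-/

set_option autoImplicit false
set_option linter.unusedSectionVars false

namespace Cfsg.Lib.Blocks

open Finset Cfsg Cfsg.Lib.Characters
open scoped ComplexConjugate

variable {G : Type*} [Group G] [Fintype G]

/-- The average of a function over the coset `N x`. -/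
noncomputable def cosetAvg (N : Subgroup G) [Fintype N] (f : G → ℂ) (x : G) : ℂ :=
  (Nat.card N : ℂ)⁻¹ * ∑ n : N, f ((n : G) * x)

theorem cosetAvg_irr (N : Subgroup G) [N.Normal] [Fintype N] (φ : IrrCharacter G) :
    cosetAvg N (φ : G → ℂ) = (φ : G → ℂ) ∨ cosetAvg N (φ : G → ℂ) = 0 := by
  classical
  obtain ⟨m, ρ, hρ, he⟩ := φ.2
  have hc : IsClassFunction G fun g => if g ∈ N then (1 : ℂ) else 0 := by
    intro g h
    have hiff : h * g * h⁻¹ ∈ N ↔ g ∈ N :=
      ⟨fun hh => by simpa [mul_assoc] using ‹N.Normal›.conj_mem _ hh h⁻¹,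
        fun hh => ‹N.Normal›.conj_mem _ hh h⟩
    simp only [hiff]
  obtain ⟨ω, hω⟩ := schur_scalar ρ _ (sum_smul_comm ρ hc)
  have hT : (∑ g, (if g ∈ N then (1 : ℂ) else 0) • ρ g) = ∑ n : N, ρ (n : G) := by
    simp only [ite_smul, one_smul, zero_smul]
    rw [← Finset.sum_filter]
    exact Finset.sum_subtype _ (fun g => by simp) _
  rw [hT] at hω
  have hN : (Nat.card N : ℂ) ≠ 0 := Nat.cast_ne_zero.2 Nat.card_pos.ne'
  have hidem : (∑ n : N, ρ (n : G)) * (∑ n : N, ρ (n : G)) = (Nat.card N : ℂ) • ∑ n : N, ρ (n : G) := by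
    rw [Finset.sum_mul, Finset.sum_congr rfl fun n _ => ?_, Finset.sum_const, Finset.card_univ,
      ← Nat.card_eq_fintype_card, Nat.cast_smul_eq_nsmul ℂ]
    rw [Finset.mul_sum]
    refine Fintype.sum_equiv (Equiv.mulLeft n) _ _ fun k => ?_
    rw [Equiv.coe_mulLeft, Subgroup.coe_mul, map_mul]
  have hm : LinearMap.trace ℂ (Fin m → ℂ) 1 ≠ 0 := by
    have h := φ.2.one_ne_zero
    simp only [← he, Representation.character, map_one] at h
    exact h
  have hω2 : ω * ω = (Nat.card N : ℂ) * ω := by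
    rw [hω, smul_smul, ← Module.End.one_eq_id, smul_mul_smul_comm, mul_one] at hidem
    have h := congrArg (LinearMap.trace ℂ (Fin m → ℂ)) hidem
    rw [map_smul, map_smul, smul_eq_mul, smul_eq_mul] at h
    exact mul_right_cancel₀ hm h
  have havg : ∀ x, cosetAvg N (φ : G → ℂ) x = (Nat.card N : ℂ)⁻¹ * ω * (φ : G → ℂ) x := by
    intro x
    rw [cosetAvg, mul_assoc]
    congr 1
    have h := congrArg (fun T => LinearMap.trace ℂ _ (T * ρ x)) hω
    simp only [Finset.sum_mul, map_sum, ← map_mul, ← Module.End.one_eq_id, smul_mul_assoc, one_mul,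
      map_smul, smul_eq_mul] at h
    simp only [← he, Representation.character]
    exact h
  rcases mul_eq_zero.1 (show (ω - (Nat.card N : ℂ)) * ω = 0 by rw [sub_mul, hω2, sub_self]) with h | h
  · left; funext x; rw [havg, sub_eq_zero.1 h, inv_mul_cancel₀ hN, one_mul]
  · right; funext x; rw [havg, h]; simp

/-- Coset averages of a character form a character. -/
theorem isCharacter_cosetAvg (N : Subgroup G) [N.Normal] [Fintype N] {f : G → ℂ}
    (hf : IsCharacter G f) : IsCharacter G (cosetAvg N f) := by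
  classical
  obtain ⟨m, rfl⟩ := exists_decomposition hf
  have he : cosetAvg N (∑ ψ : IrrCharacter G, (m ψ : ℂ) • (ψ : G → ℂ)) =
      ∑ ψ : IrrCharacter G, (m ψ : ℂ) • cosetAvg N (ψ : G → ℂ) := by
    funext x
    simp only [cosetAvg, Finset.sum_apply, Pi.smul_apply, smul_eq_mul, Finset.mul_sum]
    rw [Finset.sum_comm]
    refine Finset.sum_congr rfl fun ψ _ => Finset.sum_congr rfl fun n _ => ?_
    ring
  rw [he]
  refine isCharacter_sum _ _ fun ψ _ => isCharacter_nsmul ?_ _
  rcases cosetAvg_irr N ψ with h | h <;> rw [h]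
  · exact ψ.2.isCharacter
  · exact isCharacter_zero

/-- A character which is real and non-negative on a set stable under prime-to-order powers and
whose sum over that set is less than its cardinality vanishes somewhere on the set. -/
theorem exists_zero_of_sum_lt {f : G → ℂ} (hf : IsCharacter G f) (S : Finset G)
    (hS : ∀ k : ℕ, k.Coprime (Nat.card G) → ∀ x, x ^ k ∈ S ↔ x ∈ S)
    (r : G → ℝ) (hr : ∀ x ∈ S, f x = (r x : ℂ) ∧ 0 ≤ r x) (hlt : ∑ x ∈ S, r x < S.card) :
    ∃ x ∈ S, f x = 0 := by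
  classical
  haveI : NeZero (Nat.card G) := ⟨Nat.card_pos.ne'⟩
  set ζ := Complex.exp (2 * Real.pi * Complex.I / (Nat.card G : ℂ))
  have hζ : IsPrimitiveRoot ζ (Nat.card G) := Complex.isPrimitiveRoot_exp _ Nat.card_pos.ne'
  choose z hz hφ using fun x : G => char_galois hζ hf (g := x) pow_card_eq_one'
  have hcoe : ((∏ x ∈ S, z x : IntermediateField.adjoin ℚ {ζ}) : ℂ) = ∏ x ∈ S, f x := by
    rw [Finset.prod_congr rfl fun x _ => (hz x).symm]
    exact map_prod (IntermediateField.adjoin ℚ {ζ}).val z S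
  obtain ⟨q, hq⟩ := rat_of_fixed hζ (∏ x ∈ S, z x) (fun φ => by
    obtain ⟨k, hk, hk'⟩ := galois_hom_gen hζ φ
    rw [map_prod, Finset.prod_congr rfl fun x _ => hφ x φ k hk', hcoe]
    refine Finset.prod_equiv (powCoprime hk.symm) (fun x => ?_) (fun x _ => rfl)
    exact (hS k hk x).symm)
  rw [hcoe] at hq
  obtain ⟨n, hn⟩ := exists_int_of_isIntegral (q := q) (hq ▸ IsIntegral.prod _ fun x _ => char_isIntegral hf x)
  have hprod : (((∏ x ∈ S, r x : ℝ)) : ℂ) = (n : ℂ) := by
    rw [← hn, ← hq, Complex.ofReal_prod]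
    exact Finset.prod_congr rfl fun x hx => (hr x hx).1.symm
  have hprod' : ∏ x ∈ S, r x = (n : ℝ) := by exact_mod_cast hprod
  by_cases hc : S.card = 0
  · rw [Finset.card_eq_zero.1 hc] at hlt; simp at hlt
  have hS0 : (0 : ℝ) < S.card := by exact_mod_cast Nat.pos_of_ne_zero hc
  have hgm := Real.geom_mean_le_arith_mean S (fun _ => (1 : ℝ)) r (fun _ _ => zero_le_one)
    (by simpa using hS0) (fun x hx => (hr x hx).2)
  simp only [Real.rpow_one, one_mul, Finset.sum_const, nsmul_eq_mul, mul_one] at hgm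
  have hlt1 : (∏ x ∈ S, r x) ^ ((S.card : ℝ)⁻¹) < 1 :=
    lt_of_le_of_lt hgm ((div_lt_one hS0).2 hlt)
  have h0 : (0 : ℝ) ≤ ∏ x ∈ S, r x := Finset.prod_nonneg fun x hx => (hr x hx).2
  have hn0 : n = 0 := by
    rw [hprod'] at hlt1 h0
    rcases lt_trichotomy n 0 with h | h | h
    · exact absurd (show (n : ℝ) < 0 from by exact_mod_cast h) (not_lt.2 h0)
    · exact h
    · exact absurd hlt1 (not_lt.2 (Real.one_le_rpow (by exact_mod_cast h) (by positivity)))
  rw [hn0, Int.cast_zero] at hprod'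
  obtain ⟨x, hx, hx0⟩ := Finset.prod_eq_zero_iff.1 hprod'
  exact ⟨x, hx, by rw [(hr x hx).1, hx0, Complex.ofReal_zero]⟩

end Cfsg.Lib.Blocks
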