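import Cfsg.Agent.Lib.Blocks.Heights

/-!
# Counting blocks by conjugacy classes
-/

namespace Cfsg.Lib.Blocks

open Cfsg.Lib.Characters Finset
open scoped ComplexConjugate Classical

set_option linter.unusedSectionVars false
set_option linter.style.haveILetI false
set_option linter.style.longLine false

variable {G : Type*} [Group G] [Fintype G]
variable {M : Ideal Cfsg.AlgInt} [M.IsPrime] {p : ℕ} [hp : Fact p.Prime]

theorem le_blockDefect_of_coeff_ne (hM : IsPModular p M) {B : Set (IrrCharacter G)}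
    (hB : IsPBlock M B) {g : G} (hne : red M (blockCoeff B g) ≠ 0) :
    (Nat.card (Subgroup.centralizer ({g} : Set G))).factorization p ≤ blockDefect p B := by
  obtain ⟨D, hD⟩ := exists_defectGroup hM hB
  obtain ⟨Q, hQ⟩ := exists_isSylCent p g
  obtain ⟨x, hx⟩ := le_conj_of_coeff_ne hM hB hD hne hQ
  have h : Nat.card Q ≤ Nat.card D := card_conjSub x Q ▸ Subgroup.card_le_of_le hx
  rwa [hQ.card_eq, card_defectGroup hM hB hD,
    Nat.pow_le_pow_iff_right hp.out.one_lt] at h

theorem blockDefect_le_of_centralChar_ne (hM : IsPModular p M) {B : Set (IrrCharacter G)}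
    (hB : IsPBlock M B) {χ : IrrCharacter G} (hχ : χ ∈ B) {g : G}
    (hne : red M (centralChar (χ : G → ℂ) g) ≠ 0) :
    blockDefect p B ≤ (Nat.card (Subgroup.centralizer ({g} : Set G))).factorization p := by
  obtain ⟨D, hD⟩ := exists_defectGroup hM hB
  obtain ⟨Q, hQ⟩ := exists_isSylCent p g
  obtain ⟨x, hx⟩ := le_conj_of_centralChar_ne hM hB hD hχ hne hQ
  have h : Nat.card D ≤ Nat.card Q := card_conjSub x D ▸ Subgroup.card_le_of_le hx
  rwa [hQ.card_eq, card_defectGroup hM hB hD,
    Nat.pow_le_pow_iff_right hp.out.one_lt] at h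

/-- The classes that can separate blocks. -/
theorem sum_restricted_coeff_mul (hM : IsPModular p M) {B B' : Set (IrrCharacter G)}
    (hB : IsPBlock M B) (hB' : IsPBlock M B') {χ : IrrCharacter G} (hχ : χ ∈ B')
    (S : Finset (ConjClasses G))
    (hS : ∀ g : G, ¬ p ∣ orderOf g →
      blockDefect p B' ≤ (Nat.card (Subgroup.centralizer ({g} : Set G))).factorization p →
      (Nat.card (Subgroup.centralizer ({g} : Set G))).factorization p ≤ blockDefect p B →
      ConjClasses.mk g ∈ S) :
    ∑ C ∈ S, red M (blockCoeff B (cOut C)) * red M (centralChar (χ : G → ℂ) (cOut C))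
      = if χ ∈ B then 1 else 0 := by
  rw [← sum_classes_coeff_mul hB χ]
  refine Finset.sum_subset (Finset.subset_univ S) fun C _ hC => ?_
  by_contra h
  obtain ⟨h1, h2⟩ := mul_ne_zero_iff.mp h
  exact hC (mk_cOut C ▸ hS (cOut C) (not_dvd_of_coeff_ne hM hB h1)
    (blockDefect_le_of_centralChar_ne hM hB' hχ h2) (le_blockDefect_of_coeff_ne hM hB h1))

theorem card_blocks_le (hM : IsPModular p M) (P : Set (IrrCharacter G) → Prop)
    (Q : ConjClasses G → Prop)
    (h : ∀ B B', IsPBlock M B → IsPBlock M B' → P B → P B' → ∀ g : G, ¬ p ∣ orderOf g →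
      blockDefect p B' ≤ (Nat.card (Subgroup.centralizer ({g} : Set G))).factorization p →
      (Nat.card (Subgroup.centralizer ({g} : Set G))).factorization p ≤ blockDefect p B →
      Q (ConjClasses.mk g)) :
    Nat.card {B : Set (IrrCharacter G) // IsPBlock M B ∧ P B} ≤ Nat.card {C : ConjClasses G // Q C} := by
  choose χ hχ using fun B : {B : Set (IrrCharacter G) // IsPBlock M B ∧ P B} => IsPBlock.nonempty B.2.1
  let E : Matrix {B : Set (IrrCharacter G) // IsPBlock M B ∧ P B} {C : ConjClasses G // Q C} (ResF M) :=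
    fun B C => red M (blockCoeff B.1 (cOut C.1))
  let L : Matrix {C : ConjClasses G // Q C} {B : Set (IrrCharacter G) // IsPBlock M B ∧ P B} (ResF M) :=
    fun C B => red M (centralChar (χ B : G → ℂ) (cOut C.1))
  have hEL : E * L = 1 := by
    ext B B'
    rw [Matrix.mul_apply, ← Finset.sum_subtype (univ.filter fun C => Q C) (by simp)
      fun C => red M (blockCoeff B.1 (cOut C)) * red M (centralChar (χ B' : G → ℂ) (cOut C)),
      sum_restricted_coeff_mul hM B.2.1 B'.2.1 (hχ B') _ fun g h1 h2 h3 => Finset.mem_filter.mpr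
        ⟨Finset.mem_univ _, h B.1 B'.1 B.2.1 B'.2.1 B.2.2 B'.2.2 g h1 h2 h3⟩, Matrix.one_apply]
    have hiff : χ B' ∈ B.1 ↔ B = B' := ⟨fun hm =>
      Subtype.ext (IsPBlock.eq_of_mem B.2.1 B'.2.1 hm (hχ B')), fun he => he ▸ hχ B'⟩
    simp only [hiff]
  have h1 := Matrix.rank_mul_le_left E L
  rw [hEL, Matrix.rank_one] at h1
  have h2 := h1.trans (Matrix.rank_le_card_width E)
  rwa [Nat.card_eq_fintype_card, Nat.card_eq_fintype_card]

end Cfsg.Lib.Blocks
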