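import Cfsg.Agent.Lib.Blocks.Conjugate
import Cfsg.Agent.Lib.Blocks.Heights
import Cfsg.Agent.Lib.Blocks.Kernel
import Cfsg.Agent.Lib.Blocks.Principal
import Cfsg.Agent.Lib.Characters.Normal

/-!
# Blocks covering blocks of a normal subgroup
-/

namespace Cfsg.Lib.Blocks

open Cfsg.Lib.Characters Finset
open scoped ComplexConjugate Classical

set_option linter.unusedSectionVars false
set_option linter.style.haveILetI false
set_option linter.style.longLine false

universe u

variable {G : Type u} [Group G] [Fintype G] {M : Ideal Cfsg.AlgInt} [M.IsPrime]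
variable {N : Subgroup G} [N.Normal] [Fintype N]

/-- The conjugate of a character of a normal subgroup. -/
noncomputable def cjIrr (θ : IrrCharacter N) (g : G) : IrrCharacter N :=
  irrPull (MulAut.conjNormal g : N ≃* N) θ

theorem coe_cjIrr (θ : IrrCharacter N) (g : G) : (cjIrr θ g : N → ℂ) = conjFn N (θ : N → ℂ) g := by
  rw [conjFn_eq_comp]; rfl

theorem cjIrr_cjIrr (θ : IrrCharacter N) (g h : G) : cjIrr (cjIrr θ g) h = cjIrr θ (g * h) :=
  Subtype.ext (by rw [coe_cjIrr, coe_cjIrr, coe_cjIrr, conjFn_conjFn])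

theorem cjIrr_one (θ : IrrCharacter N) : cjIrr θ 1 = θ :=
  Subtype.ext (by rw [coe_cjIrr, conjFn_one])

theorem sameBlock_cjIrr {θ ψ : IrrCharacter N} (h : SameBlock M (θ : N → ℂ) (ψ : N → ℂ)) (g : G) :
    SameBlock M (cjIrr θ g : N → ℂ) (cjIrr ψ g : N → ℂ) :=
  IsPBlock.sameBlock (isPBlock_pull (MulAut.conjNormal g : N ≃* N) ⟨θ, rfl⟩)
    ((mem_pullBlock _ _ θ).mpr (mem_blockOf_self M θ)) ((mem_pullBlock _ _ ψ).mpr h)

theorem classInner_res_cjIrr (χ : IrrCharacter G) (θ : IrrCharacter N) (g : G) :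
    classInner (fun n : N => (χ : G → ℂ) n) (cjIrr θ g : N → ℂ)
      = classInner (fun n : N => (χ : G → ℂ) n) (θ : N → ℂ) := by
  rw [coe_cjIrr, classInner_res_conjFn χ.2.isClassFunction]

theorem exists_cjIrr_of_constituents (χ : IrrCharacter G) {θ ψ : IrrCharacter N}
    (h₁ : classInner (fun n : N => (χ : G → ℂ) n) (θ : N → ℂ) ≠ 0)
    (h₂ : classInner (fun n : N => (χ : G → ℂ) n) (ψ : N → ℂ) ≠ 0) : ∃ g, ψ = cjIrr θ g := by
  obtain ⟨g, hg⟩ := exists_conjFn_eq χ.2 θ.2 ψ.2 h₁ h₂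
  exact ⟨g, Subtype.ext (by rw [coe_cjIrr, hg])⟩

theorem exists_res_constituent (χ : IrrCharacter G) :
    ∃ θ : IrrCharacter N, classInner (fun n : N => (χ : G → ℂ) n) (θ : N → ℂ) ≠ 0 := by
  obtain ⟨θ, hθ, h⟩ := classInner_res_ne_zero (N := N) χ.2
  exact ⟨⟨θ, hθ⟩, h⟩

theorem exists_irr_over (θ : IrrCharacter N) :
    ∃ χ : IrrCharacter G, classInner (fun n : N => (χ : G → ℂ) n) (θ : N → ℂ) ≠ 0 := by
  by_contra hh
  push Not at hh
  have h := eq_zero_of_forall_classInner (isClassFunction_indFun N (θ : N → ℂ)) fun χ => by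
    rw [classInner_indFun N _ χ.2.isClassFunction, ← conj_classInner, hh χ, map_zero]
  have h1 := congrFun h 1
  rw [indFun_one_apply, Pi.zero_apply, mul_eq_zero] at h1
  exact h1.elim (Nat.cast_ne_zero.mpr Subgroup.index_ne_zero_of_finite) θ.2.one_ne_zero

/-- Central characters seen on invariant elements supported in `N`. -/
theorem omega_eq_omega_res (χ : IrrCharacter G) (θ : IrrCharacter N)
    (hne : classInner (fun n : N => (χ : G → ℂ) n) (θ : N → ℂ) ≠ 0) {z : MonoidAlgebra ℂ G}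
    (hz : IsClassElt z) (hsupp : ∀ g, g ∉ N → z.coeff g = 0) :
    omega χ z = omega θ (resSub N z) := by
  have hcl := clifford χ.2 θ.2 hne
  set c := classInner (fun n : N => (χ : G → ℂ) n) (θ : N → ℂ)
  set O := orbitFinset N (θ : N → ℂ)
  set S := ∑ n : N, z.coeff (n : G) * (θ : N → ℂ) n
  have hψ : ∀ ψ ∈ O, (∑ n : N, z.coeff (n : G) * ψ n = S) ∧ ψ 1 = (θ : N → ℂ) 1 := by
    intro ψ h
    obtain ⟨g, rfl⟩ := mem_orbitFinset.mp h
    refine ⟨?_, ?_⟩
    · rw [conjFn_eq_comp]
      refine Fintype.sum_equiv (MulAut.conjNormal g : N ≃* N).toEquiv _ _ fun n => ?_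
      show _ = z.coeff ((MulAut.conjNormal g n : N) : G) * _
      rw [MulAut.conjNormal_apply, hz g]
      rfl
    · rw [conjFn_eq_comp]; simp
  have hO : (O.card : ℂ) ≠ 0 := Nat.cast_ne_zero.mpr
    (Finset.card_pos.mpr ⟨_, mem_orbitFinset.mpr ⟨1, (conjFn_one _).symm⟩⟩).ne'
  have h1 : (χ : G → ℂ) 1 = c * ((O.card : ℂ) * (θ : N → ℂ) 1) := by
    have h := congrFun hcl (1 : N)
    rw [Pi.smul_apply, Finset.sum_apply, Finset.sum_congr rfl fun ψ h' => (hψ ψ h').2, Finset.sum_const,
      nsmul_eq_mul, smul_eq_mul] at h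
    exact h
  have h2 : ∑ g, z.coeff g * (χ : G → ℂ) g = c * ((O.card : ℂ) * S) := by
    rw [← Finset.sum_subset (Finset.subset_univ (univ.filter (· ∈ N))) fun g _ hg => by
      rw [hsupp g (by simpa using hg), zero_mul], Finset.sum_subtype (p := (· ∈ N))
        (univ.filter (· ∈ N)) fun x => by simp]
    calc ∑ n : N, z.coeff (n : G) * (χ : G → ℂ) n
        = ∑ n : N, z.coeff (n : G) * (c * ∑ ψ ∈ O, ψ n) := Finset.sum_congr rfl fun n _ => by
          have h := congrFun hcl n
          rw [Pi.smul_apply, Finset.sum_apply, smul_eq_mul] at h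
          rw [h]
      _ = c * ∑ ψ ∈ O, ∑ n : N, z.coeff (n : G) * ψ n := by
          rw [Finset.sum_comm, Finset.mul_sum]
          refine Finset.sum_congr rfl fun n _ => ?_
          rw [← Finset.mul_sum]
          ring
      _ = _ := by rw [Finset.sum_congr rfl fun ψ h => (hψ ψ h).1, Finset.sum_const, nsmul_eq_mul]
  rw [omega, omega, h1, h2]
  simp only [coeff_resSub]
  rw [mul_div_mul_left _ _ hne, mul_div_mul_left _ _ hO]

/-- A set of characters of `N` stable under conjugation. -/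
def CjStable (U : Set (IrrCharacter N)) : Prop := ∀ g : G, ∀ θ ∈ U, cjIrr θ g ∈ U

theorem isClassElt_incSub_blockE_cj {U : Set (IrrCharacter N)} (hU : CjStable U) :
    IsClassElt (incSub N (blockE U)) := by
  intro a x
  by_cases hx : x ∈ N
  · rw [coeff_incSub_mem N (blockE U) ⟨x, hx⟩,
      coeff_incSub_mem N (blockE U) ⟨a * x * a⁻¹, ‹N.Normal›.conj_mem x hx a⟩,
      coeff_blockE, coeff_blockE, blockCoeff_eq, blockCoeff_eq]
    congr 1
    refine Fintype.sum_equiv ⟨fun θ => cjIrr θ a, fun θ => cjIrr θ a⁻¹,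
      fun θ => by simp [cjIrr_cjIrr, cjIrr_one], fun θ => by simp [cjIrr_cjIrr, cjIrr_one]⟩ _ _ fun θ => ?_
    have hiff : cjIrr θ a ∈ U ↔ θ ∈ U :=
      ⟨fun h => by simpa [cjIrr_cjIrr, cjIrr_one] using hU a⁻¹ _ h, fun h => hU a θ h⟩
    simp only [Equiv.coe_fn_mk, hiff, coe_cjIrr, conjFn_apply]
    congr 2
    · exact congrArg (θ : N → ℂ) (Subtype.ext (show (1 : G) = a * ((1 : N) : G) * a⁻¹ by simp))
  · rw [coeff_incSub_notMem _ _ hx, coeff_incSub_notMem _ _ fun h => hx (by
      simpa [mul_assoc] using ‹N.Normal›.conj_mem _ h a⁻¹)]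

theorem omega_incSub_blockE {U : Set (IrrCharacter N)} (hU : CjStable U) (χ : IrrCharacter G)
    (θ : IrrCharacter N) (hne : classInner (fun n : N => (χ : G → ℂ) n) (θ : N → ℂ) ≠ 0) :
    omega χ (incSub N (blockE U)) = if θ ∈ U then 1 else 0 := by
  rw [omega_eq_omega_res χ θ hne (isClassElt_incSub_blockE_cj hU) fun g hg => coeff_incSub_notMem _ _ hg,
    resSub_incSub, omega_blockE]

theorem incSub_blockE_mem {U : Set (IrrCharacter N)} (hU : CjStable U) (hb : IsBlockUnion M U) :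
    incSub N (blockE U) ∈ locCenter G M := by
  refine ⟨isClassElt_incSub_blockE_cj hU, fun g => ?_⟩
  by_cases hg : g ∈ N
  · rw [coeff_incSub_mem N (blockE U) ⟨g, hg⟩]
    exact hb.blockE_mem.2 _
  · rw [coeff_incSub_notMem _ _ hg]
    exact zero_mem _

/-- Characters in one block see the same unions of blocks of `N`. -/
theorem mem_iff_of_sameBlock {U : Set (IrrCharacter N)} (hU : CjStable U) (hb : IsBlockUnion M U)
    {χ χ' : IrrCharacter G} (hs : SameBlock M (χ : G → ℂ) (χ' : G → ℂ)) {θ θ' : IrrCharacter N}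
    (hθ : classInner (fun n : N => (χ : G → ℂ) n) (θ : N → ℂ) ≠ 0)
    (hθ' : classInner (fun n : N => (χ' : G → ℂ) n) (θ' : N → ℂ) ≠ 0) : θ ∈ U ↔ θ' ∈ U := by
  have h := lam_eq_of_sameBlock M hs (redG M (incSub N (blockE U)))
  rw [lam_redG M χ (incSub_blockE_mem hU hb), lam_redG M χ' (incSub_blockE_mem hU hb),
    omega_incSub_blockE hU χ θ hθ, omega_incSub_blockE hU χ' θ' hθ'] at h
  split_ifs at h with h1 h2 h2
  · exact iff_of_true h1 h2
  · rw [red_one, red_zero] at h; exact absurd h one_ne_zero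
  · rw [red_one, red_zero] at h; exact absurd h.symm one_ne_zero
  · exact iff_of_false h1 h2

/-- The union of the conjugates of a block of `N`. -/
def cjUnion (b : Set (IrrCharacter N)) : Set (IrrCharacter N) := {ψ | ∃ g : G, cjIrr ψ g ∈ b}

theorem cjStable_cjUnion (b : Set (IrrCharacter N)) : CjStable (cjUnion b) := by
  rintro a θ ⟨g, hg⟩
  exact ⟨a⁻¹ * g, by rwa [cjIrr_cjIrr, ← mul_assoc, mul_inv_cancel, one_mul]⟩

theorem isBlockUnion_cjUnion {b : Set (IrrCharacter N)} (hb : IsPBlock M b) :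
    IsBlockUnion M (cjUnion b) := fun _ _ h ⟨g, hg⟩ =>
  ⟨g, IsPBlock.mem_of_sameBlock hb hg (sameBlock_cjIrr h g)⟩

theorem subset_cjUnion (b : Set (IrrCharacter N)) : b ⊆ cjUnion b := fun θ h => ⟨1, by rwa [cjIrr_one]⟩

/-- All constituents of a covering block lie in the conjugates of the covered block. -/
theorem covered_mem_cjUnion {b : Set (IrrCharacter N)} (hb : IsPBlock M b) {χ χ' : IrrCharacter G}
    (hs : SameBlock M (χ : G → ℂ) (χ' : G → ℂ)) {θ ψ : IrrCharacter N} (hθb : θ ∈ b)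
    (hθ : classInner (fun n : N => (χ : G → ℂ) n) (θ : N → ℂ) ≠ 0)
    (hψ : classInner (fun n : N => (χ' : G → ℂ) n) (ψ : N → ℂ) ≠ 0) : ψ ∈ cjUnion b :=
  (mem_iff_of_sameBlock (cjStable_cjUnion b) (isBlockUnion_cjUnion hb) hs hθ hψ).mp (subset_cjUnion b hθb)

/-- A covering block has a character over each character of the covered block's conjugates. -/
theorem exists_constituent_in_block {b : Set (IrrCharacter N)} (hb : IsPBlock M b) {χ χ' : IrrCharacter G}
    (hs : SameBlock M (χ : G → ℂ) (χ' : G → ℂ)) {θ : IrrCharacter N} (hθb : θ ∈ b)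
    (hθ : classInner (fun n : N => (χ : G → ℂ) n) (θ : N → ℂ) ≠ 0) :
    ∃ ψ ∈ b, classInner (fun n : N => (χ' : G → ℂ) n) (ψ : N → ℂ) ≠ 0 := by
  obtain ⟨ψ, hψ⟩ := exists_res_constituent (N := N) χ'
  obtain ⟨g, hg⟩ := covered_mem_cjUnion hb hs hθb hθ hψ
  exact ⟨cjIrr ψ g, hg, by rwa [classInner_res_cjIrr]⟩

/-- Blocks whose idempotent lives on `N` are determined by any block they cover. -/
theorem sameBlock_of_support {b : Set (IrrCharacter N)} (hb : IsPBlock M b)
    {χ χ' : IrrCharacter G} (hsupp : ∀ g, g ∉ N → blockCoeff (blockOf M (χ : G → ℂ)) g = 0)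
    {θ θ' : IrrCharacter N} (hθb : θ ∈ b) (hθb' : θ' ∈ b)
    (hθ : classInner (fun n : N => (χ : G → ℂ) n) (θ : N → ℂ) ≠ 0)
    (hθ' : classInner (fun n : N => (χ' : G → ℂ) n) (θ' : N → ℂ) ≠ 0) :
    SameBlock M (χ : G → ℂ) (χ' : G → ℂ) := by
  set B := blockOf M (χ : G → ℂ)
  have hB : IsPBlock M B := ⟨χ, rfl⟩
  have hz := blockE_mem_locCenter hB
  have hs : ∀ g, g ∉ N → (blockE B).coeff g = 0 := fun g hg => by rw [coeff_blockE]; exact hsupp g hg
  have e1 := omega_eq_omega_res χ θ hθ (isClassElt_blockE B) hs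
  have e2 := omega_eq_omega_res χ' θ' hθ' (isClassElt_blockE B) hs
  have hres : resSub N (blockE B) ∈ locCenter N M :=
    ⟨(isClassElt_blockE B).resSub _, fun n => by rw [coeff_resSub]; exact hz.2 _⟩
  have h := lam_eq_of_sameBlock M (IsPBlock.sameBlock hb hθb hθb') (redG M (resSub N (blockE B)))
  rw [lam_redG M θ hres, lam_redG M θ' hres, ← e1, ← e2, omega_blockE, omega_blockE,
    if_pos (mem_blockOf_self M χ)] at h
  by_contra hc
  rw [if_neg (show χ' ∉ B from hc), red_one, red_zero] at h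
  exact one_ne_zero h

/-- Regular elements lie in a normal subgroup of `p`-power index. -/
theorem regular_mem_of_index_pPow {p : ℕ} [Fact p.Prime] {k : ℕ} (hN : N.index = p ^ k) {g : G}
    (hg : ¬ p ∣ orderOf g) : g ∈ N := by
  rw [← QuotientGroup.eq_one_iff]
  have h1 : orderOf (g : G ⧸ N) ∣ p ^ k := by
    rw [← hN, Subgroup.index_eq_card]; exact orderOf_dvd_natCard _
  have h2 : orderOf (g : G ⧸ N) ∣ orderOf g := orderOf_map_dvd (QuotientGroup.mk' N) g
  obtain ⟨j, -, hj⟩ := (Nat.dvd_prime_pow (Fact.out : p.Prime)).mp h1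
  exact eq_one_of_pPow_regular hj fun hd => hg (hd.trans h2)

theorem sameBlock_of_pPow_index {p : ℕ} [Fact p.Prime] (hM : IsPModular p M)
    (hN : ∃ k : ℕ, N.index = p ^ k) {b : Set (IrrCharacter N)} (hb : IsPBlock M b)
    {χ χ' : IrrCharacter G} {θ θ' : IrrCharacter N} (hθb : θ ∈ b) (hθb' : θ' ∈ b)
    (hθ : classInner (fun n : N => (χ : G → ℂ) n) (θ : N → ℂ) ≠ 0)
    (hθ' : classInner (fun n : N => (χ' : G → ℂ) n) (θ' : N → ℂ) ≠ 0) :
    SameBlock M (χ : G → ℂ) (χ' : G → ℂ) := by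
  obtain ⟨k, hk⟩ := hN
  refine sameBlock_of_support hb (fun g hg => ?_) hθb hθb' hθ hθ'
  refine blockCoeff_eq_zero_of_singular hM ⟨χ, rfl⟩ ?_
  by_contra hd
  exact hg (regular_mem_of_index_pPow hk hd)

theorem blockOf_eq_singleton_of_not_dvd {p : ℕ} [Fact p.Prime] (hM : IsPModular p M)
    (hN : ¬ p ∣ Nat.card N) {θ θ' : IrrCharacter N} (h : SameBlock M (θ : N → ℂ) (θ' : N → ℂ)) : θ' = θ := by
  have h1 := blockOf_eq_singleton hM θ (by
    rw [Nat.factorization_eq_zero_of_not_dvd hN]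
    refine Nat.factorization_eq_zero_of_not_dvd fun hd => hN (hd.trans ?_)
    exact degree_dvd_card θ.2 (coe_charDegree θ).symm)
  exact Set.mem_singleton_iff.mp (h1 ▸ ((mem_blockOf M).mpr h))

theorem constituent_iff_of_sameBlock {p : ℕ} [Fact p.Prime] (hM : IsPModular p M)
    (hN : ¬ p ∣ Nat.card N) {χ χ' : IrrCharacter G} (hs : SameBlock M (χ : G → ℂ) (χ' : G → ℂ))
    (θ : IrrCharacter N) :
    classInner (fun n : N => (χ : G → ℂ) n) (θ : N → ℂ) ≠ 0 ↔
      classInner (fun n : N => (χ' : G → ℂ) n) (θ : N → ℂ) ≠ 0 := by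
  have key : ∀ {χ χ' : IrrCharacter G}, SameBlock M (χ : G → ℂ) (χ' : G → ℂ) →
      classInner (fun n : N => (χ : G → ℂ) n) (θ : N → ℂ) ≠ 0 →
      classInner (fun n : N => (χ' : G → ℂ) n) (θ : N → ℂ) ≠ 0 := by
    intro χ χ' hs h
    obtain ⟨ψ, hψb, hψ⟩ := exists_constituent_in_block (b := blockOf M (θ : N → ℂ)) ⟨θ, rfl⟩ hs
      (mem_blockOf_self M θ) h
    rwa [blockOf_eq_singleton_of_not_dvd hM hN hψb] at hψ
  exact ⟨key hs, key (sameBlock_symm M hs)⟩

theorem isConj_mem_normal {n : N} {g : G} (h : IsConj (n : G) g) : g ∈ N := by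
  obtain ⟨c, hc⟩ := isConj_iff.mp h
  rw [← hc]
  exact ‹N.Normal›.conj_mem _ n.2 c

theorem inducedCentralChar_eq_omega (θ : IrrCharacter N) (g : G) :
    inducedCentralChar N (θ : N → ℂ) g = omega θ (resSub N (classSum ℂ g)) := by
  rw [inducedCentralChar, finsum_mem_def, finsum_eq_sum_of_fintype, omega, Finset.sum_div]
  refine Finset.sum_congr rfl fun h _ => ?_
  simp only [Set.indicator_apply, Set.mem_setOf_eq, coeff_resSub, coeff_classSum]
  split_ifs <;> simp

/-- Constituents are detected by central characters on the classes inside `N`. -/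
theorem constituent_iff_centralChar (χ : IrrCharacter G) (θ : IrrCharacter N) :
    classInner (fun n : N => (χ : G → ℂ) n) (θ : N → ℂ) ≠ 0 ↔
      ∀ n : N, centralChar (χ : G → ℂ) (n : G) = inducedCentralChar N (θ : N → ℂ) (n : G) := by
  have hsupp : ∀ n : N, ∀ g, g ∉ N → (classSum ℂ (n : G)).coeff g = 0 := fun n g hg => by
    rw [coeff_classSum, if_neg fun h => hg (isConj_mem_normal h)]
  constructor
  · intro h n
    rw [inducedCentralChar_eq_omega, ← omega_classSum,
      omega_eq_omega_res χ θ h (isClassElt_classSum ℂ _) (hsupp n)]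
  · intro h
    by_contra h0
    obtain ⟨ψ, hψ⟩ := exists_res_constituent (N := N) χ
    set U : Set (IrrCharacter N) := {φ | ∃ g : G, φ = cjIrr θ g} with hUdef
    have hU : CjStable U := by
      rintro a φ ⟨g, rfl⟩
      exact ⟨g * a, cjIrr_cjIrr θ g a⟩
    set z := incSub N (blockE U) with hzdef
    have hzc : IsClassElt z := isClassElt_incSub_blockE_cj hU
    have hzs : ∀ g, g ∉ N → z.coeff g = 0 := fun g hg => coeff_incSub_notMem _ _ hg
    have h1 : omega χ z = omega θ (resSub N z) := by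
      rw [omega_eq_sum_classes χ hzc, omega]
      simp only [coeff_resSub]
      have hterm : ∀ C : ConjClasses G, z.coeff (cOut C) * centralChar (χ : G → ℂ) (cOut C)
          = z.coeff (cOut C) * omega θ (resSub N (classSum ℂ (cOut C))) := by
        intro C
        by_cases hC : cOut C ∈ N
        · rw [h ⟨_, hC⟩, inducedCentralChar_eq_omega]
        · rw [hzs _ hC, zero_mul, zero_mul]
      rw [Finset.sum_congr rfl fun C _ => hterm C]
      simp only [omega, coeff_resSub, ← mul_div_assoc, ← Finset.sum_div, Finset.mul_sum]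
      rw [Finset.sum_comm]
      congr 1
      refine Finset.sum_congr rfl fun n _ => ?_
      rw [Finset.sum_eq_single (ConjClasses.mk (n : G))]
      · rw [coeff_classSum, if_pos (out_isConj (n : G)), one_mul,
          hzc.eq_of_isConj (out_isConj (n : G))]
      · intro C _ hC
        rw [coeff_classSum, if_neg fun hh => hC (by
          rw [← mk_cOut C]; exact ConjClasses.mk_eq_mk_iff_isConj.mpr hh), zero_mul, mul_zero]
      · simp
    rw [omega_incSub_blockE hU χ ψ hψ, hzdef, resSub_incSub, omega_blockE,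
      if_pos (show θ ∈ U from ⟨1, (cjIrr_one θ).symm⟩)] at h1
    split_ifs at h1 with hm
    · obtain ⟨g, rfl⟩ := hm
      exact hψ (by rw [classInner_res_cjIrr, h0])
    · exact zero_ne_one h1

/-- Passman's criterion. -/
theorem covers_iff_centralChar {B : Set (IrrCharacter G)} (hB : IsPBlock M B) {b : Set (IrrCharacter N)}
    (hb : IsPBlock M b) :
    (∃ χ ∈ B, ∃ θ ∈ b, classInner (fun n : N => (χ : G → ℂ) n) (θ : N → ℂ) ≠ 0) ↔
      ∀ χ ∈ B, ∀ θ ∈ b, ∀ n : N,
        MemLocalIdeal M (centralChar (χ : G → ℂ) (n : G) - inducedCentralChar N (θ : N → ℂ) (n : G)) := by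
  have hloc : ∀ (n : N), resSub N (classSum ℂ (n : G)) ∈ locCenter N M := fun n =>
    ⟨(isClassElt_classSum ℂ _).resSub _, fun m => by rw [coeff_resSub]; exact isLoc_classSum M _ _⟩
  constructor
  · rintro ⟨χ, hχ, θ, hθ, hne⟩ χ' hχ' θ' hθ' n
    obtain ⟨ψ, hψb, hψ⟩ := exists_constituent_in_block hb (IsPBlock.sameBlock hB hχ hχ') hθ hne
    rw [(constituent_iff_centralChar χ' ψ).mp hψ n, inducedCentralChar_eq_omega, inducedCentralChar_eq_omega,
      memLocalIdeal_sub_iff (omega_mem_locRing M ψ (hloc n)) (omega_mem_locRing M θ' (hloc n)),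
      ← lam_redG M ψ (hloc n), ← lam_redG M θ' (hloc n)]
    exact lam_eq_of_sameBlock M (IsPBlock.sameBlock hb hψb hθ') _
  · intro h
    obtain ⟨χ, hχ⟩ := IsPBlock.nonempty hB
    obtain ⟨θ, hθ⟩ := IsPBlock.nonempty hb
    obtain ⟨ψ, hψ⟩ := exists_res_constituent (N := N) χ
    have hU := cjStable_cjUnion (G := G) b
    have hbu := isBlockUnion_cjUnion (G := G) hb
    set z := incSub N (blockE (cjUnion b)) with hzdef
    have hz := incSub_blockE_mem (M := M) hU hbu
    have hred : red M (omega χ z) = red M (omega θ (resSub N z)) := by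
      have hr : resSub N z = blockE (cjUnion b) := resSub_incSub _ _
      rw [omega_eq_sum_classes χ hz.1, red_sum _ fun C _ =>
        mul_mem (hz.2 _) (centralChar_mem_locRing M χ _)]
      have hsum : omega θ (resSub N z) = ∑ C : ConjClasses G, z.coeff (cOut C) *
          omega θ (resSub N (classSum ℂ (cOut C))) := by
        simp only [omega, coeff_resSub, ← mul_div_assoc, ← Finset.sum_div, Finset.mul_sum]
        rw [Finset.sum_comm]
        congr 1
        refine Finset.sum_congr rfl fun n _ => ?_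
        rw [Finset.sum_eq_single (ConjClasses.mk (n : G))]
        · rw [coeff_classSum, if_pos (out_isConj (n : G)), one_mul,
            hz.1.eq_of_isConj (out_isConj (n : G))]
        · intro C _ hC
          rw [coeff_classSum, if_neg fun hh => hC (by
            rw [← mk_cOut C]; exact ConjClasses.mk_eq_mk_iff_isConj.mpr hh), zero_mul, mul_zero]
        · simp
      have hl2 : ∀ C : ConjClasses G, omega θ (resSub N (classSum ℂ (cOut C))) ∈ locRing M := fun C =>
        omega_mem_locRing M θ ⟨(isClassElt_classSum ℂ _).resSub _, fun m => by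
          rw [coeff_resSub]; exact isLoc_classSum M _ _⟩
      rw [hsum, red_sum _ fun C _ => mul_mem (hz.2 _) (hl2 C)]
      refine Finset.sum_congr rfl fun C _ => ?_
      rw [red_mul (hz.2 _) (centralChar_mem_locRing M χ _), red_mul (hz.2 _) (hl2 C)]
      by_cases hC : cOut C ∈ N
      · have h1 := h χ hχ θ hθ ⟨_, hC⟩
        rw [inducedCentralChar_eq_omega, memLocalIdeal_sub_iff (centralChar_mem_locRing M χ _) (hl2 C)] at h1
        rw [h1]
      · rw [coeff_incSub_notMem _ _ hC, red_zero, zero_mul, zero_mul]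
    rw [omega_incSub_blockE hU χ ψ hψ, hzdef, resSub_incSub, omega_blockE,
      if_pos (subset_cjUnion b hθ)] at hred
    split_ifs at hred with hm
    · obtain ⟨g, hg⟩ := hm
      exact ⟨χ, hχ, _, hg, by rwa [classInner_res_cjIrr]⟩
    · rw [red_zero, red_one] at hred; exact absurd hred zero_ne_one

end Cfsg.Lib.Blocks
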