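import Cfsg.Agent.Lib.Blocks.SubpairMax

/-!
# Defect groups of the local blocks attached to a pair
-/

namespace Cfsg.Lib.Blocks

open Cfsg.Lib.Characters Finset
open scoped ComplexConjugate Classical

set_option linter.unusedSectionVars false
set_option linter.style.haveILetI false
set_option linter.style.longLine false

universe u

variable {G : Type u} [Group G] [Fintype G] {M : Ideal Cfsg.AlgInt} [M.IsPrime]
variable {p : ℕ} [Fact p.Prime]

local notation "𝐂" Q:max => Subgroup.centralizer ((Q : Subgroup G) : Set G)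

/-! ### Defect groups read in the ambient group -/

/-- `S` is a largest `p`-subgroup of `H` whose Brauer map keeps `a`. -/
def IsBrMax (p : ℕ) (H : Subgroup G) (a : MonoidAlgebra (ResF M) G) (S : Subgroup G) : Prop :=
  IsPGroup p S ∧ S ≤ H ∧ BrNe S a ∧
    ∀ S' : Subgroup G, IsPGroup p S' → S' ≤ H → BrNe S' a → Nat.card S' ≤ Nat.card S

theorem brNe_subgroupOf_iff {H S : Subgroup G} (hS : S ≤ H) {a : MonoidAlgebra (ResF M) G}
    (ha : ∀ g, g ∉ H → a.coeff g = 0) {b : MonoidAlgebra (ResF M) H}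
    (hb : ∀ t : H, b.coeff t = a.coeff (t : G)) : BrNe (S.subgroupOf H) b ↔ BrNe S a := by
  constructor
  · rintro ⟨c, hc, hne⟩
    refine ⟨(c : G), Subgroup.mem_centralizer_iff.mpr fun s hs => ?_, by rwa [← hb]⟩
    exact congrArg Subtype.val (Subgroup.mem_centralizer_iff.mp hc ⟨s, hS hs⟩ hs)
  · rintro ⟨c, hc, hne⟩
    have hcH : c ∈ H := by_contra fun h => hne (ha c h)
    refine ⟨⟨c, hcH⟩, Subgroup.mem_centralizer_iff.mpr fun s hs => ?_, by rwa [hb]⟩
    exact Subtype.ext (Subgroup.mem_centralizer_iff.mp hc (s : G) hs)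

theorem card_subgroupOf {H S : Subgroup G} (hS : S ≤ H) : Nat.card (S.subgroupOf H) = Nat.card S :=
  Nat.card_congr (Subgroup.subgroupOfEquivOfLe hS).toEquiv

/-- A defect group of a block of `H` is a largest subgroup kept by the Brauer map. -/
theorem isDefectGroup_iff_isBrMax (hM : IsPModular p M) {H : Subgroup G}
    {F : Set (IrrCharacter H)} (hF : IsPBlock M F) {a : MonoidAlgebra (ResF M) G}
    (ha : ∀ g, g ∉ H → a.coeff g = 0) (hb : ∀ t : H, (bIdem M F).coeff t = a.coeff (t : G))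
    {S : Subgroup G} (hS : S ≤ H) :
    IsDefectGroup p M F (S.subgroupOf H) ↔ IsBrMax p H a S := by
  constructor
  · intro hD
    have hp := isPGroup_defectGroup hD
    refine ⟨hp.of_equiv (Subgroup.subgroupOfEquivOfLe hS), hS,
      (brNe_subgroupOf_iff hS ha hb).mp (brNe_defectGroup hD), fun S' hS'p hS' hbr => ?_⟩
    obtain ⟨x, hx⟩ := (brNe_bIdem_iff hM hF hD (hS'p.of_equiv (Subgroup.subgroupOfEquivOfLe hS').symm)).mp
      ((brNe_subgroupOf_iff hS' ha hb).mpr hbr)
    rw [← card_subgroupOf hS', ← card_subgroupOf hS, ← card_conjSub x (S'.subgroupOf H)]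
    exact Subgroup.card_le_of_le hx
  · rintro ⟨hp, -, hbr, hmax⟩
    obtain ⟨D, hD⟩ := exists_defectGroup hM hF
    have hDS : (D.map H.subtype).subgroupOf H = D :=
      Subgroup.comap_map_eq_self_of_injective H.subtype_injective D
    have h1 : Nat.card D ≤ Nat.card (S.subgroupOf H) := by
      rw [card_subgroupOf hS, ← hDS, card_subgroupOf (Subgroup.map_subtype_le D)]
      refine hmax _ ((isPGroup_defectGroup hD).map _) (Subgroup.map_subtype_le D) ?_
      rw [← brNe_subgroupOf_iff (Subgroup.map_subtype_le D) ha hb, hDS]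
      exact brNe_defectGroup hD
    obtain ⟨x, hx⟩ := (brNe_bIdem_iff hM hF hD (hp.of_equiv (Subgroup.subgroupOfEquivOfLe hS).symm)).mp
      ((brNe_subgroupOf_iff hS ha hb).mpr hbr)
    have h2 : conjSub x (S.subgroupOf H) = D :=
      Subgroup.eq_of_le_of_card_ge hx (by rw [card_conjSub]; exact h1)
    have h3 := IsDefectGroup.conjSub hF (h2 ▸ hD) x⁻¹
    rwa [conjSub_conjSub, inv_mul_cancel, conjSub_one] at h3

theorem exists_conj_isBrMax (hM : IsPModular p M) {H : Subgroup G}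
    {F : Set (IrrCharacter H)} (hF : IsPBlock M F) {a : MonoidAlgebra (ResF M) G}
    (ha : ∀ g, g ∉ H → a.coeff g = 0) (hb : ∀ t : H, (bIdem M F).coeff t = a.coeff (t : G))
    {S U : Subgroup G} (hS : IsBrMax p H a S) (hUp : IsPGroup p U) (hU : U ≤ H) (hbr : BrNe U a) :
    ∃ t ∈ H, conjSub t U ≤ S := by
  obtain ⟨x, hx⟩ := (brNe_bIdem_iff hM hF ((isDefectGroup_iff_isBrMax hM hF ha hb hS.2.1).mpr hS)
    (hUp.of_equiv (Subgroup.subgroupOfEquivOfLe hU).symm)).mp ((brNe_subgroupOf_iff hU ha hb).mpr hbr)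
  refine ⟨(x : G), x.2, fun g hg => ?_⟩
  rw [mem_conjSub] at hg
  have h1 : x * ⟨(x : G)⁻¹ * g * x, hU hg⟩ * x⁻¹ ∈ conjSub x (U.subgroupOf H) := by
    rw [mem_conjSub]
    simpa [Subgroup.mem_subgroupOf, mul_assoc] using hg
  simpa [Subgroup.mem_subgroupOf, mul_assoc] using hx h1

theorem coeff_subE_notMem (Q : Subgroup G) (f : Set (IrrCharacter (𝐂 Q))) {g : G} (hg : g ∉ 𝐂 Q) :
    (subE M Q f).coeff g = 0 := coeff_incSub_notMem _ _ hg

theorem bIdem_eq_subE (Q : Subgroup G) (f : Set (IrrCharacter (𝐂 Q))) (c : 𝐂 Q) :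
    (bIdem M f).coeff c = (subE M Q f).coeff (c : G) := (coeff_incSub_mem _ _ c).symm

/-- Defect groups of the block of a centralizer. -/
theorem isDefectGroup_centralizer_iff (hM : IsPModular p M) {Q : Subgroup G}
    {f : Set (IrrCharacter (𝐂 Q))} (hf : IsPBlock M f) {S : Subgroup G} (hS : S ≤ 𝐂 Q) :
    IsDefectGroup p M f (S.subgroupOf (𝐂 Q)) ↔ IsBrMax p (𝐂 Q) (subE M Q f) S :=
  isDefectGroup_iff_isBrMax hM hf (fun _ hg => coeff_subE_notMem Q f hg) (bIdem_eq_subE Q f) hS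

theorem exists_isBrMax (hM : IsPModular p M) {H : Subgroup G}
    {F : Set (IrrCharacter H)} (hF : IsPBlock M F) {a : MonoidAlgebra (ResF M) G}
    (ha : ∀ g, g ∉ H → a.coeff g = 0) (hb : ∀ t : H, (bIdem M F).coeff t = a.coeff (t : G)) :
    ∃ S, IsBrMax p H a S := by
  obtain ⟨D, hD⟩ := exists_defectGroup hM hF
  refine ⟨D.map H.subtype, (isDefectGroup_iff_isBrMax hM hF ha hb (Subgroup.map_subtype_le D)).mp ?_⟩
  rwa [show (D.map H.subtype).subgroupOf H = D from
    Subgroup.comap_map_eq_self_of_injective H.subtype_injective D]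

/-! ### The block of the stabilizer -/

theorem resSub_mul_supp {R : Type*} [CommRing R] (T : Subgroup G) {u v : MonoidAlgebra R G}
    (hu : ∀ g, g ∉ T → u.coeff g = 0) : resSub T (u * v) = resSub T u * resSub T v := by
  refine gr_ext fun t => ?_
  rw [coeff_resSub, gr_mul_apply, gr_mul_apply]
  simp only [coeff_resSub, Subgroup.coe_mul, Subgroup.coe_inv]
  rw [← Finset.sum_subset (Finset.subset_univ (univ.filter fun g => g ∈ T))
    (fun g _ hg => by rw [hu g fun h => hg (by simp [h]), zero_mul])]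
  exact (Finset.sum_bij (fun (k : T) _ => (k : G)) (fun k _ => by simp)
    (fun a _ b _ h => Subtype.ext h)
    (fun g hg => ⟨⟨g, (Finset.mem_filter.mp hg).2⟩, Finset.mem_univ _, rfl⟩)
    fun k _ => rfl).symm

theorem pairStab_le_normalizer {H Q : Subgroup G} (f : Set (IrrCharacter (𝐂 Q))) :
    pairStab M H Q f ≤ Subgroup.normalizer (Q : Set G) := fun _ h => h.2.1

theorem centralizer_le_pairStab (Q : Subgroup G) (f : Set (IrrCharacter (𝐂 Q))) :
    𝐂 Q ≤ pairStab M ⊤ Q f := fun c hc =>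
  ⟨trivial, le_normalizer_centralizer_self Q hc,
    isStableUnder_iff_cjE.mp (isStableUnder_centralizer_subE Q f) c hc⟩

/-- The idempotent of `f` is a block idempotent of its stabilizer. -/
theorem exists_block_stab (hM : IsPModular p M) {Q : Subgroup G} {f : Set (IrrCharacter (𝐂 Q))}
    (hf : IsBrauerPair p M Q f) {T : Subgroup G} (hCT : 𝐂 Q ≤ T) (hQT : Q ≤ T)
    (hT : T ≤ pairStab M ⊤ Q f) :
    ∃ F : Set (IrrCharacter T), IsPBlock M F ∧
      (∀ t : T, blockCoeff F t = subgroupBlockCoeff (𝐂 Q) f (t : G)) ∧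
      ∀ t : T, (bIdem M F).coeff t = (subE M Q f).coeff (t : G) := by
  set β := subgroupBlockCoeff (𝐂 Q) f
  set zG : MonoidAlgebra ℂ G := incSub (𝐂 Q) (blockE f) with hzG
  have hcoe : ∀ g, zG.coeff g = β g := by
    intro g
    by_cases hg : g ∈ 𝐂 Q
    · obtain ⟨c, rfl⟩ : ∃ c : 𝐂 Q, (c : G) = g := ⟨⟨g, hg⟩, rfl⟩
      rw [hzG, coeff_incSub_mem, coeff_blockE]
      exact (PrincipalPairs.coe_subgroupBlockCoeff f c).symm
    · rw [hzG, coeff_incSub_notMem _ _ hg]
      simp [β, subgroupBlockCoeff, hg]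
  set z := resSub T zG
  have hzmem : z ∈ locCenter T M := by
    refine ⟨fun g a => ?_, fun g => ?_⟩
    · simp only [z, coeff_resSub, hcoe, Subgroup.coe_mul, Subgroup.coe_inv]
      exact PrincipalPairs.subgroupBlockCoeff_conj ((stabilizesBlock_iff_cjE hf.2 (hT g.2).2.1).mpr (hT g.2).2.2) _
    · simp only [z, coeff_resSub, hcoe]
      exact PrincipalPairs.subgroupBlockCoeff_mem hf.2 _
  have hzz : z * z = z := by
    rw [← resSub_mul_supp T (fun g hg => coeff_incSub_notMem _ _ fun h => hg (hCT h)), hzG, ← map_mul,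
      blockE_sq]
  set F₀ : Set (IrrCharacter T) := {ψ | omega ψ z = 1}
  have hval : ∀ ψ : IrrCharacter T, omega ψ z = if ψ ∈ F₀ then 1 else 0 := by
    intro ψ
    split_ifs with h
    · exact h
    · have h1 := omega_mul ψ hzmem.1 hzmem.1
      rw [hzz] at h1
      by_contra h0
      exact h (mul_left_cancel₀ h0 (h1.symm.trans (mul_one _).symm))
  have hzE : z = blockE F₀ := ext_omega hzmem.1 (isClassElt_blockE _) fun ψ => by
    rw [hval, omega_blockE]
  have hlam : ∀ ψ : IrrCharacter T, lam M ψ (redG M z) = if ψ ∈ F₀ then 1 else 0 := by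
    intro ψ
    by_cases h : ψ ∈ F₀
    · rw [if_pos h, lam_redG M ψ hzmem, show omega ψ z = 1 from h, red_one]
    · rw [if_neg h, lam_redG M ψ hzmem, (hval ψ).trans (if_neg h), red_zero]
  have hzred : ∀ t : T, (redG M z).coeff t = (subE M Q f).coeff (t : G) := fun t => by
    rw [coeff_redG, coeff_subE]
    simp only [z, coeff_resSub, hcoe]
    rfl
  have hsq : redG M z * redG M z = redG M z := by rw [← redG_mul M hzmem.2 hzmem.2, hzz]
  have hunion : IsBlockUnion M F₀ := fun χ ψ h hχ => by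
    have h1 := hlam ψ
    rw [← lam_eq_of_sameBlock M h, hlam, if_pos hχ] at h1
    by_contra hne
    rw [if_neg hne] at h1
    exact one_ne_zero h1
  obtain ⟨ψ₀, hψ₀⟩ : F₀.Nonempty := by
    by_contra hne
    have h0 : redG M z = 0 := idem_eq_of_lam (isClassElt_redG M hzmem.1) IsClassElt.zero hsq (zero_mul _)
      fun ψ => by rw [hlam, if_neg fun h => hne ⟨ψ, h⟩, lam_zero]
    obtain ⟨η, hη⟩ := IsPBlock.nonempty hf.2
    have h2 := lam_bIdem hf.2 η
    rw [if_pos hη, show bIdem M f = 0 from gr_ext fun c => by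
      rw [bIdem_eq_subE, show (c : G) = ((⟨c, hCT c.2⟩ : T) : G) from rfl, ← hzred, h0]
      simp, lam_zero] at h2
    exact zero_ne_one h2
  haveI : (Q.subgroupOf T).Normal :=
    (Subgroup.normal_subgroupOf_iff_le_normalizer hQT).mpr (hT.trans (pairStab_le_normalizer f))
  have hQ' : IsPGroup p (Q.subgroupOf T) := hf.1.comap_of_injective T.subtype T.subtype_injective
  -- every block inside `F₀` restricts to `f`
  have hkey : ∀ b, IsPBlock M b → b ⊆ F₀ → resSub (𝐂 Q) (incSub T (bIdem M b)) = bIdem M f := by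
    intro b hb hsub
    set w := resSub (𝐂 Q) (incSub T (bIdem M b)) with hw
    have hst : IsStableUnder T (incSub T (bIdem M b)) := isStableUnder_incSub (isClassElt_bIdem b)
    have hstQ := hst.mono hQT
    have hwc : IsClassElt w := (hst.mono hCT).isClassElt_resSub
    have hwsq : w * w = w := by
      rw [hw, ← resSub_mul (red_p hM) hf.1 hstQ hstQ, ← map_mul, bIdem_sq hb]
    obtain ⟨ψ, hψ⟩ := IsPBlock.nonempty hb
    have hb0 : bIdem M b * redG M z = bIdem M b := by
      refine idem_eq_of_lam ((isClassElt_bIdem b).mul (isClassElt_redG M hzmem.1)) (isClassElt_bIdem b)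
        ?_ (bIdem_sq hb) fun χ => ?_
      · rw [mul_assoc, ← mul_assoc (redG M z), ← (isClassElt_bIdem b).mul_comm (redG M z), mul_assoc,
          hsq, ← mul_assoc, bIdem_sq hb]
      · rw [lam_mul M χ (isClassElt_bIdem b) (isClassElt_redG M hzmem.1), lam_bIdem hb, hlam]
        by_cases hχ : χ ∈ b
        · rw [if_pos hχ, if_pos (hsub hχ), mul_one]
        · rw [if_neg hχ, zero_mul]
    have hwf : w * bIdem M f = w := by
      have hinc : incSub T (redG M z) = subE M Q f := gr_ext fun g => by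
        by_cases hg : g ∈ T
        · rw [show g = ((⟨g, hg⟩ : T) : G) from rfl, coeff_incSub_mem, hzred]
        · rw [coeff_incSub_notMem _ _ hg, coeff_subE_notMem Q f fun h => hg (hCT h)]
      rw [← resSub_incSub (𝐂 Q) (bIdem M f), hw,
        ← resSub_mul (red_p hM) hf.1 hstQ
          ((isStableUnder_iff_cjE.mpr fun x hx => (hT (hQT hx)).2.2 : IsStableUnder Q (incSub (𝐂 Q) (bIdem M f))))]
      show resSub (𝐂 Q) (incSub T (bIdem M b) * subE M Q f) = _
      rw [← hinc, ← map_mul, hb0]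
    have hw01 : ∀ η, lam M η w = 0 ∨ lam M η w = 1 := fun η => by
      have h1 := congrArg (lam M η) hwsq
      rw [lam_mul M η hwc hwc] at h1
      by_cases h0 : lam M η w = 0
      · exact Or.inl h0
      · exact Or.inr (mul_left_cancel₀ h0 (h1.trans (mul_one _).symm))
    refine idem_eq_of_lam hwc (isClassElt_bIdem f) hwsq (bIdem_sq hf.2) fun η => ?_
    have hmul : lam M η w * lam M η (bIdem M f) = lam M η w := by
      rw [← lam_mul M η hwc (isClassElt_bIdem f), hwf]
    rw [lam_bIdem hf.2] at hmul ⊢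
    split_ifs at hmul ⊢ with hη
    · refine (hw01 η).resolve_left fun h0 => ?_
      have hw0 : w = 0 := by
        refine idem_eq_of_lam hwc IsClassElt.zero hwsq (zero_mul _) fun η' => ?_
        rw [lam_zero]
        have h3 : lam M η' w * lam M η' (bIdem M f) = lam M η' w := by
          rw [← lam_mul M η' hwc (isClassElt_bIdem f), hwf]
        rw [lam_bIdem hf.2] at h3
        by_cases hη' : η' ∈ f
        · rw [IsPBlock.lam_eq hf.2 hη' hη, h0]
        · rw [if_neg hη', mul_zero] at h3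
          exact h3.symm
      have h4 := lam_bIdem hb ψ
      rw [if_pos hψ, lam_eq_zero_of_support ψ fun t ht => red_centralChar_eq_zero_of_notMem hM hQ' ψ fun hc => ?_] at h4
      · exact zero_ne_one h4
      · have hcG : (t : G) ∈ 𝐂 Q := Subgroup.mem_centralizer_iff.mpr fun q hq =>
          congrArg Subtype.val (Subgroup.mem_centralizer_iff.mp hc ⟨q, hQT hq⟩ hq)
        apply ht
        have h5 := congrArg (fun v : MonoidAlgebra (ResF M) (𝐂 Q) => v.coeff ⟨t, hcG⟩) hw0
        simp only [hw, coeff_resSub, coeff_incSub_mem] at h5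
        simpa using h5
    · rw [mul_zero] at hmul; exact hmul.symm
  have hone : F₀ = blockOf M (ψ₀ : T → ℂ) := by
    ext χ
    refine ⟨fun hχ => ?_, fun hχ => hunion ψ₀ χ hχ hψ₀⟩
    by_contra hne
    set b := blockOf M (ψ₀ : T → ℂ)
    set b' := blockOf M (χ : T → ℂ)
    have hb : IsPBlock M b := ⟨ψ₀, rfl⟩
    have hb' : IsPBlock M b' := ⟨χ, rfl⟩
    have h1 := hkey b hb fun ξ hξ => hunion ψ₀ ξ hξ hψ₀
    have h2 := hkey b' hb' fun ξ hξ => hunion χ ξ hξ hχ
    have h3 : bIdem M f * bIdem M f = 0 := by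
      conv_lhs => arg 1; rw [← h1]
      conv_lhs => arg 2; rw [← h2]
      rw [← resSub_mul (red_p hM) hf.1 ((isStableUnder_incSub (isClassElt_bIdem b)).mono hQT)
        ((isStableUnder_incSub (isClassElt_bIdem b')).mono hQT), ← map_mul, bIdem_mul hb hb',
        if_neg fun h : b = b' => hne (h.symm ▸ mem_blockOf_self M χ), map_zero, map_zero]
    rw [bIdem_sq hf.2] at h3
    obtain ⟨η, hη⟩ := IsPBlock.nonempty hf.2
    have h4 := lam_bIdem hf.2 η
    rw [if_pos hη, h3, lam_zero] at h4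
    exact zero_ne_one h4
  have hcoeff : ∀ t : T, blockCoeff F₀ t = β (t : G) := fun t => by
    rw [← coeff_blockE, ← hzE]
    simp only [z, coeff_resSub, hcoe]
  exact ⟨F₀, ⟨ψ₀, hone⟩, hcoeff, fun t => by rw [coeff_bIdem, hcoeff, coeff_subE]⟩

theorem isDefectGroup_stab_iff (hM : IsPModular p M) {Q : Subgroup G} {f : Set (IrrCharacter (𝐂 Q))}
    {T : Subgroup G} (hCT : 𝐂 Q ≤ T) {F : Set (IrrCharacter T)} (hF : IsPBlock M F)
    (hFf : ∀ t : T, blockCoeff F t = subgroupBlockCoeff (𝐂 Q) f (t : G)) {S : Subgroup G} (hS : S ≤ T) :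
    IsDefectGroup p M F (S.subgroupOf T) ↔ IsBrMax p T (subE M Q f) S :=
  isDefectGroup_iff_isBrMax hM hF (fun _ hg => coeff_subE_notMem Q f fun h => hg (hCT h))
    (fun t => by rw [coeff_bIdem, hFf, coeff_subE]) hS

/-! ### Conjugation and Brauer maps -/

theorem brNe_cjE {R : Type*} [CommRing R] {S : Subgroup G} {u : MonoidAlgebra R G} (x : G)
    (h : BrNe S u) : BrNe (conjSub x S) (cjE x u) := by
  obtain ⟨c, hc, hne⟩ := h
  refine ⟨x * c * x⁻¹, (mem_centralizer_map_conj S x c).mp hc, ?_⟩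
  simpa [mul_assoc] using hne

theorem brNe_of_normalSubpair (hM : IsPModular p M) {Q P : Subgroup G} {f : Set (IrrCharacter (𝐂 Q))}
    {e : Set (IrrCharacter (𝐂 P))} (h : IsNormalSubpair p M Q f P e) : BrNe P (subE M Q f) := by
  obtain ⟨-, he, -, -, -, hone⟩ := (isNormalSubpair_iff hM).mp h
  obtain ⟨ξ, hξ⟩ := IsPBlock.nonempty he.2
  refine (brNe_iff _ _).mpr fun h0 => ?_
  have := hone ξ hξ
  rw [h0, lam_zero] at this
  exact zero_ne_one this

theorem pairStab_mono {Q : Subgroup G} {f : Set (IrrCharacter (𝐂 Q))} {y : G}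
    (h : y ∈ pairStab M ⊤ Q f) : StabilizesBlock (𝐂 Q) f y → y ∈ Subgroup.normalizer (Q : Set G) :=
  fun _ => h.2.1

/-- The stabilizer of a pair in the normalizer of its subgroup. -/
theorem eq_pairStab {Q : Subgroup G} {f : Set (IrrCharacter (𝐂 Q))} (hf : IsPBlock M f) {T : Subgroup G}
    (hT : ∀ y : G, y ∈ T ↔ y ∈ Subgroup.normalizer (Q : Set G) ∧ StabilizesBlock (𝐂 Q) f y) :
    T = pairStab M ⊤ Q f := by
  ext y
  rw [hT, mem_pairStab]
  exact ⟨fun h => ⟨trivial, h.1, (stabilizesBlock_iff_cjE hf h.1).mp h.2⟩,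
    fun h => ⟨h.2.1, (stabilizesBlock_iff_cjE hf h.2.1).mpr h.2.2⟩⟩

theorem le_pairStab_of_le (hM : IsPModular p M) {Q P : Subgroup G} {f : Set (IrrCharacter (𝐂 Q))}
    {e : Set (IrrCharacter (𝐂 P))} (he : IsBrauerPair p M P e) (hle : SubpairLE p M Q f P e) :
    P ⊓ Subgroup.normalizer (Q : Set G) ≤ pairStab M ⊤ Q f ∧
      BrNe (P ⊓ Subgroup.normalizer (Q : Set G) : Subgroup G) (subE M Q f) := by
  obtain ⟨β, hβ, hβP⟩ := exists_subpair hM he
    (inf_le_left : P ⊓ Subgroup.normalizer (Q : Set G) ≤ P)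
  have hQN : Q ≤ P ⊓ Subgroup.normalizer (Q : Set G) := le_inf (subpairLE_le hle) Subgroup.le_normalizer
  have h := isNormalSubpair_of_le hM hβ (subpair_le_of_le hM he hQN hle hβP) inf_le_right
  refine ⟨fun x hx => ⟨trivial, hx.2, ?_⟩, brNe_of_normalSubpair hM h⟩
  exact isStableUnder_iff_cjE.mp ((isNormalSubpair_iff hM).mp h).2.2.2.2.1 x hx

theorem brNe_centralizer_of_le (hM : IsPModular p M) {Q P : Subgroup G} {f : Set (IrrCharacter (𝐂 Q))}
    {e : Set (IrrCharacter (𝐂 P))} (he : IsBrauerPair p M P e) (hle : SubpairLE p M Q f P e) :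
    BrNe (P ⊓ 𝐂 Q : Subgroup G) (subE M Q f) :=
  (le_pairStab_of_le hM he hle).2.mono (inf_le_inf_left _ (le_normalizer_centralizer_self Q))

theorem mem_pairStab_conj {Q : Subgroup G} {f : Set (IrrCharacter (𝐂 Q))} (hf : IsPBlock M f) (x : G) {y : G}
    (hy : y ∈ pairStab M ⊤ (Q.map (MulAut.conj x).toMonoidHom) (conjBlock Q x f)) :
    x⁻¹ * y * x ∈ pairStab M ⊤ Q f := by
  refine ⟨trivial, ?_, ?_⟩
  · rw [mem_normalizer_map_conj Q x, show x * (x⁻¹ * y * x) * x⁻¹ = y by group]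
    exact hy.2.1
  · have h := hy.2.2
    rw [subE_conjBlock hf, cjE_cjE] at h
    rw [← cjE_cjE, ← cjE_cjE, cjE_cjE (x⁻¹) y]
    rw [cjE_cjE, show x⁻¹ * y * x = x⁻¹ * (y * x) by group, ← cjE_cjE, h, cjE_cjE, inv_mul_cancel, cjE_one]

theorem card_le_of_conj (hM : IsPModular p M) {Q : Subgroup G} {f : Set (IrrCharacter (𝐂 Q))}
    (hf : IsPBlock M f) {D : Subgroup G} (hD : IsBrMax p (pairStab M ⊤ Q f) (subE M Q f) D) (x : G)
    {S : Subgroup G} (hS : IsPGroup p S)
    (hST : S ≤ pairStab M ⊤ (Q.map (MulAut.conj x).toMonoidHom) (conjBlock Q x f))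
    (hbr : BrNe S (subE M (Q.map (MulAut.conj x).toMonoidHom) (conjBlock Q x f))) :
    Nat.card S ≤ Nat.card D := by
  rw [← card_conjSub x⁻¹ S]
  refine hD.2.2.2 _ (isPGroup_conjSub hS _) (fun y hy => ?_) ?_
  · rw [mem_conjSub, inv_inv] at hy
    have := mem_pairStab_conj hf x (hST hy)
    rwa [show x⁻¹ * (x * y * x⁻¹) * x = y by group] at this
  · have := brNe_cjE x⁻¹ hbr
    rwa [subE_conjBlock hf, cjE_cjE, inv_mul_cancel, cjE_one] at this

theorem card_le_of_conj_centralizer {Q : Subgroup G} {f : Set (IrrCharacter (𝐂 Q))}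
    (hf : IsPBlock M f) {D : Subgroup G} (hD : IsBrMax p (𝐂 Q) (subE M Q f) D) (x : G)
    {S : Subgroup G} (hS : IsPGroup p S) (hSC : S ≤ 𝐂 (Q.map (MulAut.conj x).toMonoidHom))
    (hbr : BrNe S (subE M (Q.map (MulAut.conj x).toMonoidHom) (conjBlock Q x f))) :
    Nat.card S ≤ Nat.card D := by
  rw [← card_conjSub x⁻¹ S]
  refine hD.2.2.2 _ (isPGroup_conjSub hS _) (fun y hy => ?_) ?_
  · rw [mem_conjSub, inv_inv] at hy
    exact (mem_centralizer_map_conj Q x y).mpr (hSC hy)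
  · have := brNe_cjE x⁻¹ hbr
    rwa [subE_conjBlock hf, cjE_cjE, inv_mul_cancel, cjE_one] at this

theorem exists_isBrMax_centralizer (hM : IsPModular p M) {Q : Subgroup G}
    {f : Set (IrrCharacter (𝐂 Q))} (hf : IsPBlock M f) : ∃ D, IsBrMax p (𝐂 Q) (subE M Q f) D :=
  exists_isBrMax hM hf (fun _ hg => coeff_subE_notMem Q f hg) (bIdem_eq_subE Q f)

theorem exists_isBrMax_stab (hM : IsPModular p M) {Q : Subgroup G} {f : Set (IrrCharacter (𝐂 Q))}
    (hf : IsBrauerPair p M Q f) : ∃ D, IsBrMax p (pairStab M ⊤ Q f) (subE M Q f) D ∧ Q ≤ D := by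
  have hCT := centralizer_le_pairStab (M := M) Q f
  have hQT := le_pairStab_self (M := M) (le_top : Q ≤ ⊤) f
  obtain ⟨F, hF, -, hb⟩ := exists_block_stab hM hf hCT hQT le_rfl
  obtain ⟨D, hD⟩ := exists_isBrMax hM hF (fun _ hg => coeff_subE_notMem Q f fun h => hg (hCT h)) hb
  refine ⟨D, hD, ?_⟩
  have hbr : BrNe (Q ⊔ D : Subgroup G) (subE M Q f) := by
    obtain ⟨c, hc, hne⟩ := hD.2.2.1
    have hcQ : c ∈ 𝐂 Q := by_contra fun h => hne (coeff_subE_notMem Q f h)
    exact ⟨c, mem_centralizer_iff_le.mpr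
      (sup_le (mem_centralizer_iff_le.mp hcQ) (mem_centralizer_iff_le.mp hc)), hne⟩
  have h1 := hD.2.2.2 (Q ⊔ D) (hf.1.to_sup_of_normal_left' hD.1 fun x hx => (hD.2.1 hx).2.1)
    (sup_le hQT hD.2.1) hbr
  exact (Subgroup.eq_of_le_of_card_ge le_sup_right h1).symm ▸ le_sup_left

/-- A Brauer-map survivor inside the stabilizer carries a pair above. -/
theorem exists_pair_above_sup (hM : IsPModular p M) {Q : Subgroup G} {f : Set (IrrCharacter (𝐂 Q))}
    (hf : IsBrauerPair p M Q f) {D : Subgroup G} (hD : IsPGroup p D) (hDT : D ≤ pairStab M ⊤ Q f)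
    (hbr : BrNe D (subE M Q f)) :
    ∃ g : Set (IrrCharacter (𝐂 (Q ⊔ D : Subgroup G))), IsNormalSubpair p M Q f (Q ⊔ D) g := by
  have hle : Q ⊔ D ≤ pairStab M ⊤ Q f := sup_le (le_pairStab_self (le_top : Q ≤ ⊤) f) hDT
  refine exists_normal_above hM hf (hf.1.to_sup_of_normal_left' hD fun x hx => (hDT hx).2.1) le_sup_left
    (fun x hx => (hle hx).2.1) (isStableUnder_iff_cjE.mpr fun x hx => (hle hx).2.2) ?_
  obtain ⟨c, hc, hne⟩ := hbr
  have hcQ : c ∈ 𝐂 Q := by_contra fun h => hne (coeff_subE_notMem Q f h)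
  exact ⟨c, mem_centralizer_iff_le.mpr
    (sup_le (mem_centralizer_iff_le.mp hcQ) (mem_centralizer_iff_le.mp hc)), hne⟩

/-- A conjugate of the pair below `(P, e)` having the defect group of the centralizer inside `P`. -/
theorem exists_conj_brMax_centralizer (hM : IsPModular p M) {B : Set (IrrCharacter G)}
    {P Q : Subgroup G} {e : Set (IrrCharacter (𝐂 P))} {f : Set (IrrCharacter (𝐂 Q))}
    (hmax : IsMaximalBrauerPair p M B P e) (hfB : IsBrauerPairOf p M B Q f) :
    ∃ x : G, SubpairLE p M (Q.map (MulAut.conj x).toMonoidHom) (conjBlock Q x f) P e ∧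
      IsBrMax p (𝐂 (Q.map (MulAut.conj x).toMonoidHom))
        (subE M (Q.map (MulAut.conj x).toMonoidHom) (conjBlock Q x f))
        (P ⊓ 𝐂 (Q.map (MulAut.conj x).toMonoidHom)) ∧
      ∀ D, IsBrMax p (𝐂 Q) (subE M Q f) D →
        Nat.card D = Nat.card (P ⊓ 𝐂 (Q.map (MulAut.conj x).toMonoidHom) : Subgroup G) := by
  obtain ⟨D, hD⟩ := exists_isBrMax_centralizer (p := p) hM hfB.1.2
  obtain ⟨g, hg⟩ := exists_pair_above_sup hM hfB.1 hD.1
    (hD.2.1.trans (centralizer_le_pairStab Q f)) hD.2.2.1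
  have hle : SubpairLE p M Q f (Q ⊔ D) g := Relation.ReflTransGen.single
    (show NormalSubpairRel p M (⟨Q, f⟩ : BrauerPairIdx G) ⟨Q ⊔ D, g⟩ from hg)
  obtain ⟨x, hx⟩ := exists_conj_le_maximal hM hmax
    ((isBrauerPairOf_of_subpairLE hM hg.2.1 hle).mp hfB)
  have hxle := subpairLE_trans (subpairLE_conj hM hle x) hx
  have hge : Nat.card D ≤ Nat.card (P ⊓ 𝐂 (Q.map (MulAut.conj x).toMonoidHom) : Subgroup G) := by
    rw [← card_conjSub x D]
    refine Subgroup.card_le_of_le (le_inf ((conjSub_mono le_sup_right x).trans (subpairLE_le hx)) fun y hy => ?_)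
    have := (mem_centralizer_map_conj Q x _).mp (hD.2.1 (mem_conjSub.mp hy))
    rwa [show x * (x⁻¹ * y * x) * x⁻¹ = y by group] at this
  refine ⟨x, hxle, ⟨hmax.1.1.1.to_le inf_le_left, inf_le_right,
    brNe_centralizer_of_le hM hmax.1.1 hxle, fun S hS hSC hbr => ?_⟩, fun D' hD' => ?_⟩
  · exact (card_le_of_conj_centralizer hfB.1.2 hD x hS hSC hbr).trans hge
  · refine le_antisymm ((hD.2.2.2 D' hD'.1 hD'.2.1 hD'.2.2.1).trans hge) ?_
    exact card_le_of_conj_centralizer hfB.1.2 hD' x (hmax.1.1.1.to_le inf_le_left) inf_le_right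
      (brNe_centralizer_of_le hM hmax.1.1 hxle)

/-- A conjugate of the pair below `(P, e)` having the defect group of the stabilizer inside `P`. -/
theorem exists_conj_brMax_stab (hM : IsPModular p M) {B : Set (IrrCharacter G)}
    {P Q : Subgroup G} {e : Set (IrrCharacter (𝐂 P))} {f : Set (IrrCharacter (𝐂 Q))}
    (hmax : IsMaximalBrauerPair p M B P e) (hfB : IsBrauerPairOf p M B Q f) :
    ∃ x : G, SubpairLE p M (Q.map (MulAut.conj x).toMonoidHom) (conjBlock Q x f) P e ∧
      IsBrMax p (pairStab M ⊤ (Q.map (MulAut.conj x).toMonoidHom) (conjBlock Q x f))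
        (subE M (Q.map (MulAut.conj x).toMonoidHom) (conjBlock Q x f))
        (P ⊓ Subgroup.normalizer ((Q.map (MulAut.conj x).toMonoidHom : Subgroup G) : Set G)) ∧
      ∀ D, IsBrMax p (pairStab M ⊤ Q f) (subE M Q f) D → Nat.card D =
        Nat.card (P ⊓ Subgroup.normalizer ((Q.map (MulAut.conj x).toMonoidHom : Subgroup G) : Set G) : Subgroup G) := by
  obtain ⟨D, hD, hQD⟩ := exists_isBrMax_stab (p := p) hM hfB.1
  obtain ⟨g, hg⟩ := exists_normal_above hM hfB.1 hD.1 hQD (fun y hy => (hD.2.1 hy).2.1)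
    (isStableUnder_iff_cjE.mpr fun y hy => (hD.2.1 hy).2.2) hD.2.2.1
  have hle : SubpairLE p M Q f D g := Relation.ReflTransGen.single
    (show NormalSubpairRel p M (⟨Q, f⟩ : BrauerPairIdx G) ⟨D, g⟩ from hg)
  obtain ⟨x, hx⟩ := exists_conj_le_maximal hM hmax
    ((isBrauerPairOf_of_subpairLE hM hg.2.1 hle).mp hfB)
  have hxle := subpairLE_trans (subpairLE_conj hM hle x) hx
  have hge : Nat.card D ≤
      Nat.card (P ⊓ Subgroup.normalizer ((Q.map (MulAut.conj x).toMonoidHom : Subgroup G) : Set G) : Subgroup G) := by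
    rw [← card_conjSub x D]
    refine Subgroup.card_le_of_le (le_inf (subpairLE_le hx) fun y hy => ?_)
    have := (mem_normalizer_map_conj Q x _).mp (hD.2.1 (mem_conjSub.mp hy)).2.1
    rwa [show x * (x⁻¹ * y * x) * x⁻¹ = y by group] at this
  obtain ⟨h1, h2⟩ := le_pairStab_of_le hM hmax.1.1 hxle
  refine ⟨x, hxle, ⟨hmax.1.1.1.to_le inf_le_left, h1, h2, fun S hS hST hbr =>
    (card_le_of_conj hM hfB.1.2 hD x hS hST hbr).trans hge⟩, fun D' hD' => ?_⟩
  exact le_antisymm ((hD.2.2.2 D' hD'.1 hD'.2.1 hD'.2.2.1).trans hge)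
    (card_le_of_conj hM hfB.1.2 hD' x (hmax.1.1.1.to_le inf_le_left) h1 h2)

end Cfsg.Lib.Blocks
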