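import Cfsg.Agent.Lib.Blocks.Principal
import Cfsg.Agent.Lib.Blocks.Defect
import Cfsg.Prelude.Def_BlockFusion
import Mathlib.GroupTheory.Nilpotent

/-!
# Brauer pairs of the principal block
-/

namespace Cfsg.Lib.PrincipalPairs

open Cfsg Cfsg.Lib.Blocks Cfsg.Lib.Characters Finset
open scoped ComplexConjugate Classical

set_option linter.unusedSectionVars false
set_option linter.style.longLine false

universe u

variable {G : Type u} [Group G] [Fintype G] {p : ℕ} [Fact p.Prime]
variable {M : Ideal Cfsg.AlgInt} [M.IsPrime]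

/-- Fixed point congruence for functions invariant under conjugation. -/
theorem red_sum_centralizer (hM : IsPModular p M) {P : Subgroup G} (hP : IsPGroup p P) (β : G → ℂ)
    (hloc : ∀ g, β g ∈ locRing M) (hinv : ∀ x ∈ P, ∀ g : G, β (x * g * x⁻¹) = β g) :
    red M (∑ c : Subgroup.centralizer (P : Set G), β (c : G)) = red M (∑ g : G, β g) := by
  rw [red_sum _ fun c _ => hloc _, red_sum _ fun g _ => hloc g]
  let act : MulAction P G := MulAction.compHom G ((MulAut.conj : G →* MulAut G).comp P.subtype)
  have hact : ∀ (q : P) (g : G), q • g = (q : G) * g * (q : G)⁻¹ := fun q g => rfl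
  rw [sum_eq_sum_fixed (R := ResF M) hP (red_p hM) (fun g => red M (β g))
    (fun q g => by rw [hact, hinv q q.2])]
  refine Finset.sum_bij (fun c _ => (c : G)) (fun c _ => ?_) (fun a _ b _ h => Subtype.ext h)
    (fun g hg => ?_) (fun c _ => rfl)
  · refine Finset.mem_filter.mpr ⟨Finset.mem_univ _, fun q => ?_⟩
    rw [hact, Subgroup.mem_centralizer_iff.mp c.2 q q.2, mul_inv_cancel_right]
  · refine ⟨⟨g, Subgroup.mem_centralizer_iff.mpr fun q hq => ?_⟩, Finset.mem_univ _, rfl⟩
    have h2 := (Finset.mem_filter.mp hg).2 ⟨q, hq⟩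
    rwa [hact, mul_inv_eq_iff_eq_mul] at h2

theorem coe_subgroupBlockCoeff {K : Subgroup G} (f : Set (IrrCharacter K)) (k : K) :
    subgroupBlockCoeff K f (k : G) = blockCoeff f k := by
  simp [subgroupBlockCoeff, k.2]

theorem subgroupBlockCoeff_mem {K : Subgroup G} {f : Set (IrrCharacter K)} (hf : IsPBlock M f) (g : G) :
    subgroupBlockCoeff K f g ∈ locRing M := by
  unfold subgroupBlockCoeff
  split_ifs with h
  · exact blockCoeff_mem_locRing hf _
  · exact zero_mem _

theorem sum_subgroupBlockCoeff {K : Subgroup G} {f : Set (IrrCharacter K)} :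
    ∑ g : G, subgroupBlockCoeff K f g = if trivChar K ∈ f then 1 else 0 := by
  rw [← omega_blockE f (trivChar K), omega]
  simp only [trivChar_apply, mul_one, div_one, coeff_blockE]
  rw [← Finset.sum_subset (Finset.subset_univ (univ.filter fun g => g ∈ K))
    (fun g _ hg => by simp [subgroupBlockCoeff, show g ∉ K from fun h => hg (by simp [h])])]
  refine (Finset.sum_bij (fun (k : K) _ => (k : G)) (fun k _ => by simp)
    (fun a _ b _ h => Subtype.ext h) (fun g hg => ⟨⟨g, (Finset.mem_filter.mp hg).2⟩, Finset.mem_univ _, rfl⟩)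
    fun k _ => (coe_subgroupBlockCoeff f k).symm).symm

/-- A stabilized block has invariant coefficients. -/
theorem subgroupBlockCoeff_conj {K : Subgroup G} {f : Set (IrrCharacter K)} {x : G}
    (hx : StabilizesBlock K f x) (g : G) :
    subgroupBlockCoeff K f (x * g * x⁻¹) = subgroupBlockCoeff K f g := by
  have hmem : x * g * x⁻¹ ∈ K ↔ g ∈ K := ((Subgroup.mem_normalizer_iff.mp hx.1) g).symm
  by_cases hg : g ∈ K
  · obtain ⟨k, rfl⟩ : ∃ k : K, (k : G) = g := ⟨⟨g, hg⟩, rfl⟩
    obtain ⟨k', hk'⟩ : ∃ k' : K, (k' : G) = x * k * x⁻¹ := ⟨⟨_, hmem.mpr hg⟩, rfl⟩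
    rw [← hk', coe_subgroupBlockCoeff, coe_subgroupBlockCoeff, blockCoeff_eq, blockCoeff_eq,
      ← Finset.sum_filter, ← Finset.sum_filter]
    congr 1
    choose Φ hΦf hΦ using hx.2
    set S := univ.filter fun χ : IrrCharacter K => χ ∈ f
    have hmap : ∀ χ (h : χ ∈ S), Φ χ (Finset.mem_filter.mp h).2 ∈ S := fun χ h =>
      Finset.mem_filter.mpr ⟨Finset.mem_univ _, hΦf _ _⟩
    have hinj : Function.Injective fun χ : S => (⟨Φ χ.1 (Finset.mem_filter.mp χ.2).2, hmap _ χ.2⟩ : S) := by
      intro a b hab
      have hab' := congrArg Subtype.val hab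
      refine Subtype.ext (Subtype.ext (funext fun l => ?_))
      obtain ⟨l', hl'⟩ : ∃ l' : K, (l' : G) = x * l * x⁻¹ :=
        ⟨⟨_, ((Subgroup.mem_normalizer_iff.mp hx.1) (l : G)).mp l.2⟩, rfl⟩
      rw [← hΦ a.1 (Finset.mem_filter.mp a.2).2 l l' hl', ← hΦ b.1 (Finset.mem_filter.mp b.2).2 l l' hl']
      exact congrArg (fun χ : IrrCharacter K => (χ : K → ℂ) l') hab'
    rw [← Finset.sum_coe_sort S, ← Finset.sum_coe_sort S]
    refine (Fintype.sum_bijective _ ((Fintype.bijective_iff_injective_and_card _).mpr ⟨hinj, rfl⟩)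
      _ _ fun χ => ?_).symm
    have h1 : ((Φ χ.1 (Finset.mem_filter.mp χ.2).2 : IrrCharacter K) : K → ℂ) 1 = (χ.1 : K → ℂ) 1 :=
      hΦ χ.1 (Finset.mem_filter.mp χ.2).2 1 1 (by simp)
    simp only
    rw [h1, hΦ χ.1 (Finset.mem_filter.mp χ.2).2 k k' hk']
  · simp [subgroupBlockCoeff, hg, show x * g * x⁻¹ ∉ K from fun h => hg (hmem.mp h)]

/-- The Brauer map at a trivial character. -/
theorem red_brauerOmega_triv (hM : IsPModular p M) {P K : Subgroup G} (hP : IsPGroup p P)
    {f : Set (IrrCharacter K)} (hf : IsPBlock M f) (hstab : ∀ x ∈ P, StabilizesBlock K f x) :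
    red M (brauerOmega P (subgroupBlockCoeff K f)
      (trivChar (Subgroup.centralizer (P : Set G)) : Subgroup.centralizer (P : Set G) → ℂ))
      = if trivChar K ∈ f then 1 else 0 := by
  rw [brauerOmega, finsum_eq_sum_of_fintype]
  simp only [trivChar_apply, mul_one, div_one]
  rw [red_sum_centralizer hM hP _ (subgroupBlockCoeff_mem hf)
    fun x hx g => subgroupBlockCoeff_conj (hstab x hx) g, sum_subgroupBlockCoeff]
  split_ifs <;> simp

/-- Conjugation carries principal blocks to principal blocks. -/
theorem principal_conj {K L : Subgroup G} (e : L ≃* K) {χ : IrrCharacter K}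
    (hχ : χ ∈ principalBlock M K) :
    ∃ χ' : IrrCharacter L, χ' ∈ principalBlock M L ∧ ∀ l, (χ' : L → ℂ) l = (χ : K → ℂ) (e l) := by
  refine ⟨⟨_, isIrrCharacter_comp_surjective χ.2 e.toMonoidHom e.surjective⟩, fun c => ?_, fun l => rfl⟩
  have h1 := hχ (e c)
  rw [centralChar, centralChar] at h1 ⊢
  simp only [div_one, mul_one] at h1 ⊢
  have hidx : (Subgroup.centralizer ({c} : Set L)).index = (Subgroup.centralizer ({e c} : Set K)).index := by
    rw [← Subgroup.index_map_equiv (Subgroup.centralizer ({c} : Set L)) e,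
      Subgroup.map_equiv_eq_comap_symm]
    congr 1
    ext y
    rw [Subgroup.mem_comap, Subgroup.mem_centralizer_singleton_iff, Subgroup.mem_centralizer_singleton_iff]
    constructor
    · intro hh; simpa using congrArg e hh
    · intro hh; simpa using congrArg e.symm hh
  rw [hidx]
  simpa using h1

theorem mem_centralizer_conj {Q : Subgroup G} {x k : G}
    (hk : k ∈ Subgroup.centralizer (Q : Set G)) :
    x * k * x⁻¹ ∈ Subgroup.centralizer ((Q.map (MulAut.conj x).toMonoidHom : Subgroup G) : Set G) := by
  rw [Subgroup.mem_centralizer_iff]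
  rintro _ ⟨q, hq, rfl⟩
  have h := Subgroup.mem_centralizer_iff.mp hk q hq
  show x * q * x⁻¹ * (x * k * x⁻¹) = x * k * x⁻¹ * (x * q * x⁻¹)
  calc x * q * x⁻¹ * (x * k * x⁻¹) = x * (q * k) * x⁻¹ := by group
    _ = x * (k * q) * x⁻¹ := by rw [h]
    _ = x * k * x⁻¹ * (x * q * x⁻¹) := by group

/-- The isomorphism of centralizers induced by conjugation. -/
noncomputable def centConj (Q : Subgroup G) (x : G) :
    Subgroup.centralizer ((Q.map (MulAut.conj x).toMonoidHom : Subgroup G) : Set G) ≃*
      Subgroup.centralizer (Q : Set G) :=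
  ((MulEquiv.subgroupMap (MulAut.conj x) (Subgroup.centralizer (Q : Set G))).trans
    (MulEquiv.subgroupCongr (by
      refine le_antisymm ?_ fun l hl => ?_
      · rintro _ ⟨k, hk, rfl⟩
        exact mem_centralizer_conj hk
      · refine ⟨x⁻¹ * l * x, Subgroup.mem_centralizer_iff.mpr fun q hq => ?_, ?_⟩
        · have h := Subgroup.mem_centralizer_iff.mp hl (x * q * x⁻¹) ⟨q, hq, rfl⟩
          calc q * (x⁻¹ * l * x) = x⁻¹ * ((x * q * x⁻¹) * l) * x := by group
            _ = x⁻¹ * (l * (x * q * x⁻¹)) * x := by rw [h]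
            _ = x⁻¹ * l * x * q := by group
        · show x * (x⁻¹ * l * x) * x⁻¹ = l
          group))).symm

theorem coe_centConj (Q : Subgroup G) (x : G)
    (l : Subgroup.centralizer ((Q.map (MulAut.conj x).toMonoidHom : Subgroup G) : Set G)) :
    (l : G) = x * (centConj Q x l : G) * x⁻¹ := by
  obtain ⟨k, rfl⟩ := (centConj Q x).symm.surjective l
  rw [MulEquiv.apply_symm_apply]
  rfl

theorem conjBlock_principal (Q : Subgroup G) (x : G) :
    conjBlock Q x (principalBlock M (Subgroup.centralizer (Q : Set G))) =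
      principalBlock M (Subgroup.centralizer ((Q.map (MulAut.conj x).toMonoidHom : Subgroup G) : Set G)) := by
  ext ξ
  constructor
  · rintro ⟨χ, hχ, hξ⟩
    obtain ⟨χ', hχ', hval⟩ := principal_conj (centConj Q x) hχ
    have : ξ = χ' := Subtype.ext (funext fun l => by
      rw [hval, hξ (centConj Q x l) l (coe_centConj Q x l)])
    rwa [this]
  · intro hξ
    obtain ⟨χ, hχ, hval⟩ := principal_conj (centConj Q x).symm hξ
    refine ⟨χ, hχ, fun c c' hc => ?_⟩
    have : c' = (centConj Q x).symm c := by
      apply (centConj Q x).injective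
      rw [MulEquiv.apply_symm_apply]
      refine Subtype.ext (mul_left_cancel (mul_right_cancel ((coe_centConj Q x c').symm.trans hc)))
    rw [hval, this]

theorem stabilizes_principal {Q : Subgroup G} {x : G} (hx : x ∈ Subgroup.normalizer (Q : Set G)) :
    StabilizesBlock (Subgroup.centralizer (Q : Set G))
      (principalBlock M (Subgroup.centralizer (Q : Set G))) x := by
  have hmap : ∀ y ∈ Subgroup.normalizer (Q : Set G), Q.map (MulAut.conj y).toMonoidHom = Q := by
    intro y hy
    ext q
    constructor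
    · rintro ⟨r, hr, rfl⟩; exact (Subgroup.mem_normalizer_iff.mp hy r).mp hr
    · intro hq
      refine ⟨y⁻¹ * q * y, (Subgroup.mem_normalizer_iff.mp hy _).mpr ?_, ?_⟩
      · simpa [mul_assoc] using hq
      · show y * (y⁻¹ * q * y) * y⁻¹ = q
        group
  have hmem : ∀ y ∈ Subgroup.normalizer (Q : Set G), ∀ k, k ∈ Subgroup.centralizer (Q : Set G) →
      y * k * y⁻¹ ∈ Subgroup.centralizer (Q : Set G) := fun y hy k hk => by
    have := mem_centralizer_conj (x := y) hk
    rwa [hmap y hy] at this
  refine ⟨?_, fun χ hχ => ?_⟩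
  · rw [Subgroup.mem_normalizer_iff]
    refine fun k => ⟨hmem x hx k, fun hk => ?_⟩
    have := hmem x⁻¹ (inv_mem hx) _ hk
    simpa [mul_assoc] using this
  · let f : Subgroup.centralizer (Q : Set G) ≃* Subgroup.centralizer (Q : Set G) :=
      { toFun := fun k => ⟨x⁻¹ * (k : G) * x, by
          have := hmem x⁻¹ (inv_mem hx) _ k.2; simpa using this⟩
        invFun := fun k => ⟨x * (k : G) * x⁻¹, hmem x hx _ k.2⟩
        left_inv := fun k => Subtype.ext (show x * (x⁻¹ * (k : G) * x) * x⁻¹ = k by group)
        right_inv := fun k => Subtype.ext (show x⁻¹ * (x * (k : G) * x⁻¹) * x = k by group)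
        map_mul' := fun a b => Subtype.ext
          (show x⁻¹ * ((a : G) * b) * x = (x⁻¹ * a * x) * (x⁻¹ * b * x) by group) }
    obtain ⟨χ', hχ', hval⟩ := principal_conj f hχ
    refine ⟨χ', hχ', fun k k' hk => ?_⟩
    rw [hval]
    refine congrArg (χ : Subgroup.centralizer (Q : Set G) → ℂ) (Subtype.ext ?_)
    show x⁻¹ * (k' : G) * x = k
    rw [hk]; group

theorem lam_brauer_eq {P : Subgroup G} {β : G → ℂ} (hloc : ∀ g, β g ∈ locRing M)
    (hinv : ∀ c ∈ Subgroup.centralizer (P : Set G), ∀ g : G, β (c * g * c⁻¹) = β g)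
    {ξ ξ' : IrrCharacter (Subgroup.centralizer (P : Set G))}
    (hs : SameBlock M (ξ : Subgroup.centralizer (P : Set G) → ℂ) (ξ' : Subgroup.centralizer (P : Set G) → ℂ)) :
    red M (brauerOmega P β (ξ : Subgroup.centralizer (P : Set G) → ℂ))
      = red M (brauerOmega P β (ξ' : Subgroup.centralizer (P : Set G) → ℂ)) ∧
      brauerOmega P β (ξ : Subgroup.centralizer (P : Set G) → ℂ) ∈ locRing M := by
  set z : MonoidAlgebra ℂ (Subgroup.centralizer (P : Set G)) :=
    gOfFun fun c : Subgroup.centralizer (P : Set G) => β (c : G) with hz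
  have hcoeff : ∀ c, z.coeff c = β (c : G) := fun c => by simp [hz]
  have hzc : z ∈ locCenter (Subgroup.centralizer (P : Set G)) M :=
    ⟨fun a b => by simp only [hcoeff]; exact hinv a a.2 b, fun c => by rw [hcoeff]; exact hloc _⟩
  have hom : ∀ η : IrrCharacter (Subgroup.centralizer (P : Set G)),
      brauerOmega P β (η : Subgroup.centralizer (P : Set G) → ℂ) = omega η z := by
    intro η
    rw [brauerOmega, finsum_eq_sum_of_fintype, omega, Finset.sum_div]
    exact Finset.sum_congr rfl fun c _ => by rw [hcoeff]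
  rw [hom, hom]
  refine ⟨?_, omega_mem_locRing M ξ hzc⟩
  rw [← lam_redG M ξ hzc, ← lam_redG M ξ' hzc, lam_eq_of_sameBlock M hs]

theorem centralizer_antitone {Q P : Subgroup G} (h : Q ≤ P) :
    Subgroup.centralizer (P : Set G) ≤ Subgroup.centralizer (Q : Set G) :=
  fun _ hc => Subgroup.mem_centralizer_iff.mpr fun q hq => Subgroup.mem_centralizer_iff.mp hc q (h hq)

/-- A normal step between principal blocks. -/
theorem normalSubpair_principal (hM : IsPModular p M) {Q P : Subgroup G} (hP : IsPGroup p P)
    (hle : Q ≤ P) (hn : P ≤ Subgroup.normalizer (Q : Set G)) :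
    IsNormalSubpair p M Q (principalBlock M (Subgroup.centralizer (Q : Set G))) P
      (principalBlock M (Subgroup.centralizer (P : Set G))) := by
  refine ⟨⟨hP.to_le hle, isPBlock_principal⟩, ⟨hP, isPBlock_principal⟩, hle, hn,
    fun x hx => stabilizes_principal (hn hx), fun ξ hξ => ?_⟩
  have hstab : ∀ x ∈ P, StabilizesBlock _ (principalBlock M (Subgroup.centralizer (Q : Set G))) x :=
    fun x hx => stabilizes_principal (hn hx)
  have hinv : ∀ c ∈ Subgroup.centralizer (P : Set G), ∀ g : G,
      subgroupBlockCoeff (Subgroup.centralizer (Q : Set G)) (principalBlock M (Subgroup.centralizer (Q : Set G)))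
        (c * g * c⁻¹) = subgroupBlockCoeff _ (principalBlock M (Subgroup.centralizer (Q : Set G))) g :=
    fun c hc => subgroupBlockCoeff_conj (stabilizes_principal
      (Subgroup.centralizer_le_normalizer _ (centralizer_antitone hle hc)))
  obtain ⟨h1, h2⟩ := lam_brauer_eq (subgroupBlockCoeff_mem isPBlock_principal) hinv
    (sameBlock_symm M (show SameBlock M (trivChar (Subgroup.centralizer (P : Set G)) :
      Subgroup.centralizer (P : Set G) → ℂ) (ξ : Subgroup.centralizer (P : Set G) → ℂ) from hξ))
  rw [memLocalIdeal_sub_iff h2 (one_mem _), h1, red_brauerOmega_triv hM hP isPBlock_principal hstab,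
    if_pos trivChar_mem_principal, red_one]

/-- Below a principal pair only principal pairs occur. -/
theorem eq_principal_of_normalSubpair (hM : IsPModular p M) {Q P : Subgroup G}
    {f : Set (IrrCharacter (Subgroup.centralizer (Q : Set G)))}
    (h : IsNormalSubpair p M Q f P (principalBlock M (Subgroup.centralizer (P : Set G)))) :
    f = principalBlock M (Subgroup.centralizer (Q : Set G)) := by
  obtain ⟨⟨-, hf⟩, ⟨hP, -⟩, -, -, hstab, hval⟩ := h
  obtain ⟨h1, h2⟩ := memLocalIdeal_iff.mp (hval _ trivChar_mem_principal)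
  have hmem := add_mem h1 (one_mem (locRing M))
  rw [sub_add_cancel] at hmem
  rw [red_sub hmem (one_mem _), red_brauerOmega_triv hM hP hf hstab, red_one] at h2
  by_cases ht : trivChar (Subgroup.centralizer (Q : Set G)) ∈ f
  · exact IsPBlock.eq_of_mem hf isPBlock_principal ht trivChar_mem_principal
  · rw [if_neg ht, zero_sub, neg_eq_zero] at h2
    exact absurd h2 one_ne_zero

theorem eq_principal_of_subpair (hM : IsPModular p M) {Q P : Subgroup G}
    {f : Set (IrrCharacter (Subgroup.centralizer (Q : Set G)))}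
    (h : SubpairLE p M Q f P (principalBlock M (Subgroup.centralizer (P : Set G)))) :
    f = principalBlock M (Subgroup.centralizer (Q : Set G)) := by
  have key : ∀ a : BrauerPairIdx G, Relation.ReflTransGen (NormalSubpairRel p M) a
      ⟨P, principalBlock M (Subgroup.centralizer (P : Set G))⟩ →
      a.2 = principalBlock M (Subgroup.centralizer (a.1 : Set G)) := by
    intro a ha
    induction ha using Relation.ReflTransGen.head_induction_on with
    | refl => rfl
    | head hab _ ih =>
      unfold NormalSubpairRel at hab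
      rw [ih] at hab
      exact eq_principal_of_normalSubpair hM hab
  exact key ⟨Q, f⟩ h

theorem subpair_principal (hM : IsPModular p M) {P : Subgroup G} (hP : IsPGroup p P) :
    ∀ Q : Subgroup G, Q ≤ P → SubpairLE p M Q (principalBlock M (Subgroup.centralizer (Q : Set G))) P
      (principalBlock M (Subgroup.centralizer (P : Set G))) := by
  intro Q
  induction Q using WellFoundedGT.induction with
  | _ Q ih =>
    intro hle
    rcases hle.eq_or_lt with rfl | hlt
    · exact Relation.ReflTransGen.refl
    · set R := P ⊓ Subgroup.normalizer (Q : Set G) with hR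
      have hQR : Q < R := by
        haveI : Group.IsNilpotent P := hP.isNilpotent
        have h1 : Q.subgroupOf P < ⊤ := lt_top_iff_ne_top.mpr fun h =>
          hlt.ne (le_antisymm hle (Subgroup.subgroupOf_eq_top.mp h))
        have h2 := normalizerCondition_of_isNilpotent (Q.subgroupOf P) h1
        refine lt_of_le_of_ne (le_inf hle Subgroup.le_normalizer) fun he => h2.not_ge ?_
        intro y hy
        rw [Subgroup.mem_subgroupOf, he]
        refine ⟨y.2, Subgroup.mem_normalizer_iff.mpr fun q => ?_⟩
        constructor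
        · intro hq
          have := (Subgroup.mem_normalizer_iff.mp hy ⟨q, hle hq⟩).mp hq
          exact this
        · intro hq
          have hqP : q ∈ P := by
            have := P.mul_mem (P.mul_mem (P.inv_mem y.2) (hle hq)) y.2
            simpa [mul_assoc] using this
          exact (Subgroup.mem_normalizer_iff.mp hy ⟨q, hqP⟩).mpr hq
      exact Relation.ReflTransGen.head (b := (⟨R, principalBlock M (Subgroup.centralizer (R : Set G))⟩ : BrauerPairIdx G))
        (normalSubpair_principal hM (hP.to_le inf_le_left) hQR.le inf_le_right)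
        (ih R hQR inf_le_left)

theorem brauerPairOf_principal (hM : IsPModular p M) {Q : Subgroup G} (hQ : IsPGroup p Q) :
    IsBrauerPairOf p M (principalBlock M G) Q (principalBlock M (Subgroup.centralizer (Q : Set G))) := by
  refine ⟨⟨hQ, isPBlock_principal⟩, isPBlock_principal, fun ξ hξ => ?_⟩
  have hinv : ∀ x g : G, blockCoeff (principalBlock M G) (x * g * x⁻¹) = blockCoeff (principalBlock M G) g :=
    fun x g => by simpa using isClassElt_blockE (principalBlock M G) x g
  obtain ⟨h1, h2⟩ := lam_brauer_eq (P := Q) (blockCoeff_mem_locRing isPBlock_principal) (fun c _ => hinv c)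
    (sameBlock_symm M (show SameBlock M (trivChar (Subgroup.centralizer (Q : Set G)) :
      Subgroup.centralizer (Q : Set G) → ℂ) (ξ : Subgroup.centralizer (Q : Set G) → ℂ) from hξ))
  rw [memLocalIdeal_sub_iff h2 (one_mem _), h1]
  have h3 : red M (omega (trivChar G) (blockE (principalBlock M G))) = red M 1 := by
    rw [omega_blockE, if_pos trivChar_mem_principal]
  rw [← h3, brauerOmega, finsum_eq_sum_of_fintype, omega]
  simp only [trivChar_apply, mul_one, div_one, coeff_blockE]
  exact red_sum_centralizer hM hQ _ (blockCoeff_mem_locRing isPBlock_principal) fun x _ => hinv x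

theorem le_of_subpair {Q P : Subgroup G} {f : Set (IrrCharacter (Subgroup.centralizer (Q : Set G)))}
    {e : Set (IrrCharacter (Subgroup.centralizer (P : Set G)))} (h : SubpairLE p M Q f P e) : Q ≤ P := by
  have key : ∀ a b : BrauerPairIdx G, Relation.ReflTransGen (NormalSubpairRel p M) a b → a.1 ≤ b.1 := by
    intro a b hab
    induction hab with
    | refl => exact le_rfl
    | tail _ hbc ih => exact ih.trans hbc.2.2.1
  exact key ⟨Q, f⟩ ⟨P, e⟩ h

end Cfsg.Lib.PrincipalPairs
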