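import Cfsg.Agent.Lib.Blocks.Conjugate
import Cfsg.Agent.Lib.Blocks.PrincipalPairs
import Cfsg.Prelude.Def_BrauerPairs

/-!
# Inclusion of Brauer pairs

Below a given pair there is exactly one pair on each subgroup (Alperin–Broué); inclusion is
compatible with conjugation and with the reduced central characters.
-/

namespace Cfsg.Lib.Blocks

open Cfsg.Lib.Characters Finset
open scoped ComplexConjugate Classical

set_option linter.unusedSectionVars false
set_option linter.style.haveILetI false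
set_option linter.style.longLine false

universe u

variable {G : Type u} [Group G] [Fintype G] {M : Ideal Cfsg.AlgInt} [M.IsPrime]
variable {p : ℕ} [Fact p.Prime]

/-- Notation for the centralizer of a subgroup. -/
local notation "𝐂" Q:max => Subgroup.centralizer ((Q : Subgroup G) : Set G)

/-! ### Generalities -/

theorem IsStableUnder.mono {R : Type*} [CommRing R] {P Q : Subgroup G} {x : MonoidAlgebra R G}
    (h : IsStableUnder P x) (hle : Q ≤ P) : IsStableUnder Q x := fun g hg a => h g (hle hg) a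

theorem IsStableUnder.one {R : Type*} [CommRing R] (P : Subgroup G) :
    IsStableUnder P (1 : MonoidAlgebra R G) := IsClassElt.one.stable P

theorem IsStableUnder.sub {R : Type*} [CommRing R] {P : Subgroup G} {x y : MonoidAlgebra R G}
    (hx : IsStableUnder P x) (hy : IsStableUnder P y) : IsStableUnder P (x - y) := fun g hg a => by
  simp [gr_sub_apply, hx g hg a, hy g hg a]

theorem IsStableUnder.smul {R : Type*} [CommRing R] {P : Subgroup G} {x : MonoidAlgebra R G} (r : R)
    (hx : IsStableUnder P x) : IsStableUnder P (r • x) := fun g hg a => by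
  simp [hx g hg a]

theorem IsStableUnder.pow {R : Type*} [CommRing R] {P : Subgroup G} {x : MonoidAlgebra R G}
    (hx : IsStableUnder P x) : ∀ n : ℕ, IsStableUnder P (x ^ n)
  | 0 => by simpa using IsStableUnder.one P
  | n + 1 => by rw [pow_succ]; exact (hx.pow n).mul hx

theorem IsStableUnder.isClassElt_resSub {R : Type*} [CommRing R] {H : Subgroup G}
    {x : MonoidAlgebra R G} (h : IsStableUnder H x) : IsClassElt (resSub H x) := fun g a => by
  simp only [coeff_resSub, Subgroup.coe_mul, Subgroup.coe_inv]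
  exact h g g.2 a

theorem isStableUnder_incSub {R : Type*} [CommRing R] {H : Subgroup G} {w : MonoidAlgebra R H}
    (hw : IsClassElt w) : IsStableUnder H (incSub H w) := by
  intro g hg a
  by_cases ha : a ∈ H
  · obtain ⟨b, rfl⟩ : ∃ b : H, (b : G) = a := ⟨⟨a, ha⟩, rfl⟩
    rw [show g * (b : G) * g⁻¹ = ((⟨g, hg⟩ * b * ⟨g, hg⟩⁻¹ : H) : G) from rfl,
      coeff_incSub_mem, coeff_incSub_mem, hw]
  · rw [coeff_incSub_notMem _ _ ha, coeff_incSub_notMem]
    intro h
    apply ha
    simpa [mul_assoc] using H.mul_mem (H.mul_mem (H.inv_mem hg) h) hg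

theorem resSub_incSub_resSub {R : Type*} [CommRing R] {H K : Subgroup G} (hKH : K ≤ H)
    (u : MonoidAlgebra R G) : resSub K (incSub H (resSub H u)) = resSub K u :=
  gr_ext fun k => by
    rw [coeff_resSub, coeff_resSub,
      show (k : G) = (((⟨k, hKH k.2⟩ : H)) : G) from rfl, coeff_incSub_mem, coeff_resSub]

theorem centralizer_le' {Q P : Subgroup G} (h : Q ≤ P) :
    Subgroup.centralizer (P : Set G) ≤ Subgroup.centralizer (Q : Set G) :=
  Subgroup.centralizer_le (SetLike.coe_subset_coe.mpr h)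

theorem le_normalizer_centralizer_self (Q : Subgroup G) :
    Subgroup.centralizer (Q : Set G) ≤ Subgroup.normalizer (Q : Set G) := fun c hc =>
  Subgroup.mem_normalizer_iff.mpr fun q => by
    have h := Subgroup.mem_centralizer_iff.mp hc
    constructor
    · intro hq
      rwa [← h q hq, mul_inv_cancel_right]
    · intro hq
      have h2 := h _ hq
      rw [inv_mul_cancel_right] at h2
      rwa [mul_left_cancel (h2.symm.trans rfl) ] at hq

theorem lam_finset_sum {H : Type*} [Group H] [Fintype H] (χ : IrrCharacter H) {ι : Type*}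
    (s : Finset ι) (x : ι → MonoidAlgebra (ResF M) H) :
    lam M χ (∑ i ∈ s, x i) = ∑ i ∈ s, lam M χ (x i) := by
  induction s using Finset.induction_on with
  | empty => simp
  | insert a s ha ih => rw [Finset.sum_insert ha, Finset.sum_insert ha, lam_add, ih]

theorem IsPBlock.lam_eq {H : Type*} [Group H] [Fintype H] {e : Set (IrrCharacter H)}
    (he : IsPBlock M e) {ξ ξ' : IrrCharacter H} (hξ : ξ ∈ e) (hξ' : ξ' ∈ e)
    (x : MonoidAlgebra (ResF M) H) : lam M ξ x = lam M ξ' x :=
  lam_eq_of_sameBlock M (IsPBlock.sameBlock he hξ hξ') x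

/-- Conjugation of group ring elements. -/
noncomputable def cjE {R : Type*} [CommRing R] (x : G) (u : MonoidAlgebra R G) : MonoidAlgebra R G :=
  gOfFun fun g => u.coeff (x⁻¹ * g * x)

@[simp] theorem coeff_cjE {R : Type*} [CommRing R] (x : G) (u : MonoidAlgebra R G) (g : G) :
    (cjE x u).coeff g = u.coeff (x⁻¹ * g * x) := by simp [cjE]

theorem cjE_cjE {R : Type*} [CommRing R] (x y : G) (u : MonoidAlgebra R G) :
    cjE x (cjE y u) = cjE (x * y) u := gr_ext fun g => by simp [mul_assoc]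

theorem cjE_one {R : Type*} [CommRing R] (u : MonoidAlgebra R G) : cjE 1 u = u :=
  gr_ext fun g => by simp

theorem isStableUnder_iff_cjE {R : Type*} [CommRing R] {P : Subgroup G} {u : MonoidAlgebra R G} :
    IsStableUnder P u ↔ ∀ x ∈ P, cjE x u = u := by
  constructor
  · intro h x hx
    exact gr_ext fun g => by simpa using h x⁻¹ (inv_mem hx) g
  · intro h x hx a
    have := congrArg (fun w : MonoidAlgebra R G => w.coeff a) (h x⁻¹ (inv_mem hx))
    simpa [mul_assoc] using this

theorem coeff_cjE_centralizer {R : Type*} [CommRing R] {P : Subgroup G} {x : G} (hx : x ∈ P)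
    (u : MonoidAlgebra R G) {c : G} (hc : c ∈ 𝐂 P) : (cjE x u).coeff c = u.coeff c := by
  rw [coeff_cjE, mul_assoc, ← Subgroup.mem_centralizer_iff.mp hc x hx, inv_mul_cancel_left]

theorem pullElt_mul {A B R : Type*} [Group A] [Group B] [Fintype A] [Fintype B] [CommRing R]
    (f : A ≃* B) (u v : MonoidAlgebra R B) : pullElt f (u * v) = pullElt f u * pullElt f v := by
  refine gr_ext fun a => ?_
  rw [coeff_pullElt, gr_mul_apply, gr_mul_apply]
  refine (Fintype.sum_equiv f.toEquiv _ _ fun b => ?_).symm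
  simp [coeff_pullElt]

theorem bIdem_pull {A B : Type*} [Group A] [Group B] [Fintype A] [Fintype B]
    (f : A ≃* B) {S : Set (IrrCharacter B)} (hS : IsPBlock M S) :
    bIdem M (pullBlock f S) = pullElt f (bIdem M S) := by
  refine idem_eq_of_lam (isClassElt_bIdem _) (isClassElt_pullElt f (isClassElt_bIdem S))
    (bIdem_sq (isPBlock_pull f hS)) (by rw [← pullElt_mul, bIdem_sq hS]) fun ξ => ?_
  conv_rhs => rw [← irrPull_symm f ξ, lam_pull f _ (isClassElt_bIdem S), lam_bIdem hS]
  rw [lam_bIdem (isPBlock_pull f hS)]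
  congr 1

theorem eq_of_bIdem_eq {H : Type*} [Group H] [Fintype H] {f f' : Set (IrrCharacter H)}
    (hf : IsPBlock M f) (hf' : IsPBlock M f') (h : bIdem M f = bIdem M f') : f = f' := by
  obtain ⟨ξ, hξ⟩ := IsPBlock.nonempty hf
  have h1 := lam_bIdem hf ξ
  rw [if_pos hξ, h, lam_bIdem hf'] at h1
  by_contra hne
  rw [if_neg fun h' => hne (IsPBlock.eq_of_mem hf hf' hξ h')] at h1
  exact zero_ne_one h1

/-! ### The idempotent of a pair in the group ring of `G` -/

variable (M) in
/-- The idempotent of a block of a centralizer, read in the group ring of `G`. -/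
noncomputable def subE (Q : Subgroup G) (f : Set (IrrCharacter (𝐂 Q))) :
    MonoidAlgebra (ResF M) G :=
  incSub (𝐂 Q) (bIdem M f)

theorem coeff_subE (Q : Subgroup G) (f : Set (IrrCharacter (𝐂 Q))) (g : G) :
    (subE M Q f).coeff g = red M (subgroupBlockCoeff (𝐂 Q) f g) := by
  by_cases hg : g ∈ 𝐂 Q
  · obtain ⟨c, rfl⟩ : ∃ c : 𝐂 Q, (c : G) = g := ⟨⟨g, hg⟩, rfl⟩
    rw [subE, coeff_incSub_mem, coeff_bIdem, PrincipalPairs.coe_subgroupBlockCoeff]
  · rw [subE, coeff_incSub_notMem _ _ hg]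
    simp [subgroupBlockCoeff, hg]

theorem subE_inj {Q : Subgroup G} {f f' : Set (IrrCharacter (𝐂 Q))}
    (hf : IsPBlock M f) (hf' : IsPBlock M f') (h : subE M Q f = subE M Q f') : f = f' := by
  refine eq_of_bIdem_eq hf hf' ?_
  rw [← resSub_incSub (𝐂 Q) (bIdem M f), ← resSub_incSub (𝐂 Q) (bIdem M f')]
  exact congrArg _ h

theorem isStableUnder_centralizer_subE (Q : Subgroup G) (f : Set (IrrCharacter (𝐂 Q))) :
    IsStableUnder (𝐂 Q) (subE M Q f) :=
  isStableUnder_incSub (isClassElt_bIdem f)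

theorem subE_sq {Q : Subgroup G} {f : Set (IrrCharacter (𝐂 Q))} (hf : IsPBlock M f) :
    subE M Q f * subE M Q f = subE M Q f := by
  rw [subE, ← map_mul, bIdem_sq hf]

theorem subE_mul {Q : Subgroup G} {f f' : Set (IrrCharacter (𝐂 Q))} (hf : IsPBlock M f)
    (hf' : IsPBlock M f') (hne : f ≠ f') : subE M Q f * subE M Q f' = 0 := by
  rw [subE, subE, ← map_mul, bIdem_mul hf hf', if_neg hne, map_zero]

/-- Conjugation by a normalizing element permutes the idempotents. -/
theorem cjE_subE_normalizer {Q : Subgroup G} {f : Set (IrrCharacter (𝐂 Q))} (hf : IsPBlock M f)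
    {x : G} (hx : x ∈ Subgroup.normalizer (Q : Set G)) :
    cjE x (subE M Q f) = subE M Q
      (pullBlock (normConj (𝐂 Q) (inv_mem (normalizer_le_normalizer_centralizer' Q hx))) f) := by
  have hxC := normalizer_le_normalizer_centralizer' Q hx
  refine gr_ext fun g => ?_
  rw [coeff_cjE, subE, subE, bIdem_pull _ hf]
  by_cases hg : g ∈ 𝐂 Q
  · obtain ⟨c, rfl⟩ : ∃ c : 𝐂 Q, (c : G) = g := ⟨⟨g, hg⟩, rfl⟩
    rw [coeff_incSub_mem, coeff_pullElt, ← coeff_incSub_mem, coe_conjEquiv, inv_inv]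
  · rw [coeff_incSub_notMem _ _ hg, coeff_incSub_notMem]
    intro h
    exact hg (by simpa [mul_assoc] using (Subgroup.mem_normalizer_iff.mp hxC _).mp h)

theorem stabilizesBlock_iff_cjE {Q : Subgroup G} {f : Set (IrrCharacter (𝐂 Q))} (hf : IsPBlock M f)
    {x : G} (hx : x ∈ Subgroup.normalizer (Q : Set G)) :
    StabilizesBlock (𝐂 Q) f x ↔ cjE x (subE M Q f) = subE M Q f := by
  constructor
  · intro h
    refine gr_ext fun g => ?_
    rw [coeff_cjE, coeff_subE, coeff_subE, ← PrincipalPairs.subgroupBlockCoeff_conj h (x⁻¹ * g * x)]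
    congr 2
    group
  · intro h
    have hxC := normalizer_le_normalizer_centralizer' Q hx
    refine (stabilizesBlock_iff f x).mpr ⟨hxC, ?_⟩
    have h' : cjE x⁻¹ (subE M Q f) = subE M Q f := by
      conv_lhs => rw [← h, cjE_cjE, inv_mul_cancel, cjE_one]
    rw [cjE_subE_normalizer hf (inv_mem hx)] at h'
    have := subE_inj (isPBlock_pull _ hf) hf h'
    simpa using this

/-! ### The Brauer map at the upper pair -/

theorem resSub_isClassElt {P : Subgroup G} {u : MonoidAlgebra (ResF M) G}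
    (h : IsStableUnder (𝐂 P) u) : IsClassElt (resSub (𝐂 P) u) := h.isClassElt_resSub

theorem lam_resSub_mul (hM : IsPModular p M) {P : Subgroup G} (hP : IsPGroup p P)
    (ξ : IrrCharacter (𝐂 P)) {u v : MonoidAlgebra (ResF M) G}
    (hu : IsStableUnder P u) (hv : IsStableUnder P v)
    (hu' : IsStableUnder (𝐂 P) u) (hv' : IsStableUnder (𝐂 P) v) :
    lam M ξ (resSub (𝐂 P) (u * v)) = lam M ξ (resSub (𝐂 P) u) * lam M ξ (resSub (𝐂 P) v) := by
  rw [resSub_mul (red_p hM) hP hu hv, lam_mul M ξ hu'.isClassElt_resSub hv'.isClassElt_resSub]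

theorem lam_resSub_pow (hM : IsPModular p M) {P : Subgroup G} (hP : IsPGroup p P)
    (ξ : IrrCharacter (𝐂 P)) {u : MonoidAlgebra (ResF M) G}
    (hu : IsStableUnder P u) (hu' : IsStableUnder (𝐂 P) u) :
    ∀ n : ℕ, lam M ξ (resSub (𝐂 P) (u ^ n)) = lam M ξ (resSub (𝐂 P) u) ^ n
  | 0 => by rw [pow_zero, pow_zero, resSub_one, lam_one]
  | n + 1 => by
    rw [pow_succ, pow_succ, lam_resSub_mul hM hP ξ (hu.pow n) hu (hu'.pow n) hu',
      lam_resSub_pow hM hP ξ hu hu' n]

/-- Normal inclusion in terms of idempotents. -/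
theorem isNormalSubpair_iff (hM : IsPModular p M) {Q P : Subgroup G} {f : Set (IrrCharacter (𝐂 Q))}
    {e : Set (IrrCharacter (𝐂 P))} :
    IsNormalSubpair p M Q f P e ↔ IsBrauerPair p M Q f ∧ IsBrauerPair p M P e ∧ Q ≤ P ∧
      P ≤ Subgroup.normalizer (Q : Set G) ∧ IsStableUnder P (subE M Q f) ∧
      ∀ ξ ∈ e, lam M ξ (resSub (𝐂 P) (subE M Q f)) = 1 := by
  refine and_congr_right fun hf => and_congr_right fun he => and_congr_right fun hle =>
    and_congr_right fun hN => and_congr ?_ (forall₂_congr fun ξ _ => ?_)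
  · rw [isStableUnder_iff_cjE]
    exact forall₂_congr fun x hx => stabilizesBlock_iff_cjE hf.2 (hN hx)
  · set z : MonoidAlgebra ℂ (𝐂 P) :=
      resSub (𝐂 P) (gOfFun (subgroupBlockCoeff (𝐂 Q) f)) with hz
    have hzmem : z ∈ locCenter (𝐂 P) M := by
      refine ⟨fun g a => ?_, fun g => ?_⟩
      · simp only [hz, coeff_resSub, coeff_gOfFun, Subgroup.coe_mul, Subgroup.coe_inv]
        have hgQ : (g : G) ∈ 𝐂 Q := centralizer_le' hle g.2
        by_cases ha : (a : G) ∈ 𝐂 Q
        · obtain ⟨b, hb⟩ : ∃ b : 𝐂 Q, (b : G) = (a : G) := ⟨⟨a, ha⟩, rfl⟩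
          rw [← hb, show (g : G) * b * (g : G)⁻¹ = ((⟨g, hgQ⟩ * b * ⟨g, hgQ⟩⁻¹ : 𝐂 Q) : G) from rfl,
            PrincipalPairs.coe_subgroupBlockCoeff, PrincipalPairs.coe_subgroupBlockCoeff]
          rw [← coeff_blockE, ← coeff_blockE]
          exact isClassElt_blockE f _ _
        · have : (g : G) * a * (g : G)⁻¹ ∉ 𝐂 Q := fun h => ha (by
            simpa [mul_assoc] using mul_mem (mul_mem (inv_mem hgQ) h) hgQ)
          simp [subgroupBlockCoeff, ha, this]
      · simp only [hz, coeff_resSub, coeff_gOfFun]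
        exact PrincipalPairs.subgroupBlockCoeff_mem hf.2 _
    have hw := omega_mem_locRing M ξ hzmem
    have hbr : brauerOmega P (subgroupBlockCoeff (𝐂 Q) f) (ξ : 𝐂 P → ℂ) = omega ξ z := by
      rw [brauerOmega, finsum_eq_sum_of_fintype, omega, Finset.sum_div]
      exact Finset.sum_congr rfl fun x _ => by rw [hz, coeff_resSub, coeff_gOfFun]
    have hlam : lam M ξ (resSub (𝐂 P) (subE M Q f)) = red M (omega ξ z) := by
      rw [← lam_redG M ξ hzmem]
      congr 1
      exact gr_ext fun h => by simp only [hz, coeff_resSub, coeff_redG, coeff_gOfFun, coeff_subE]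
    rw [hbr, hlam, memLocalIdeal_iff, red_sub hw (one_mem _), red_one, sub_eq_zero]
    exact ⟨fun h => h.2, fun h => ⟨sub_mem hw (one_mem _), h⟩⟩

theorem isBrauerPair_of_isNormalSubpair {Q P : Subgroup G} {f : Set (IrrCharacter (𝐂 Q))}
    {e : Set (IrrCharacter (𝐂 P))} (h : IsNormalSubpair p M Q f P e) :
    IsBrauerPair p M Q f ∧ IsBrauerPair p M P e ∧ Q ≤ P := ⟨h.1, h.2.1, h.2.2.1⟩

/-- Below a pair there is exactly one pair on each normal subgroup. -/
theorem existsUnique_normalSubpair (hM : IsPModular p M) {Q P : Subgroup G}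
    {e : Set (IrrCharacter (𝐂 P))} (he : IsBrauerPair p M P e) (hle : Q ≤ P)
    (hN : P ≤ Subgroup.normalizer (Q : Set G)) :
    ∃! f : Set (IrrCharacter (𝐂 Q)), IsNormalSubpair p M Q f P e := by
  obtain ⟨hP, he'⟩ := he
  have hQ : IsPGroup p Q := hP.to_le hle
  obtain ⟨ξ, hξ⟩ := IsPBlock.nonempty he'
  have hCP : 𝐂 P ≤ 𝐂 Q := centralizer_le' hle
  let X : Finset (MonoidAlgebra (ResF M) G) := (blocks (𝐂 Q) M).image (subE M Q)
  have hX : ∀ x ∈ P, ∀ a ∈ X, cjE x a ∈ X := by
    intro x hx a ha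
    obtain ⟨f, hf, rfl⟩ := Finset.mem_image.mp ha
    rw [cjE_subE_normalizer (mem_blocks.mp hf) (hN hx)]
    exact Finset.mem_image_of_mem _ (mem_blocks.mpr (isPBlock_pull _ (mem_blocks.mp hf)))
  let act : MulAction P X :=
    { smul := fun x a => ⟨cjE (x : G) a.1, hX x x.2 a.1 a.2⟩
      one_smul := fun a => Subtype.ext (cjE_one a.1)
      mul_smul := fun x y a => Subtype.ext (cjE_cjE (x : G) (y : G) a.1).symm }
  have hsum : ∑ a ∈ (univ : Finset X).filter (fun a => ∀ g : P, g • a = a),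
      resSub (𝐂 P) a.1 = 1 := by
    refine gr_ext fun c => ?_
    have h1 := sum_eq_sum_fixed (R := ResF M) hP (red_p hM) (fun a : X => a.1.coeff (c : G))
      (fun g a => coeff_cjE_centralizer g.2 a.1 c.2)
    have h2 : ∑ a : X, a.1.coeff (c : G) = (1 : MonoidAlgebra (ResF M) (𝐂 P)).coeff c := by
      rw [Finset.sum_coe_sort X (fun a => a.coeff (c : G)), ← gr_sum_apply,
        Finset.sum_image fun f hf f' hf' h => subE_inj (mem_blocks.mp hf) (mem_blocks.mp hf') h]
      simp only [subE]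
      rw [← map_sum, sum_bIdem, map_one, ← coeff_resSub, resSub_one]
    rw [gr_sum_apply, ← h2, h1]
    simp only [coeff_resSub]
  obtain ⟨a, ha, hne⟩ : ∃ a ∈ (univ : Finset X).filter (fun a => ∀ g : P, g • a = a),
      lam M ξ (resSub (𝐂 P) a.1) ≠ 0 := by
    by_contra hh
    push Not at hh
    have h3 := congrArg (lam M ξ) hsum
    rw [lam_finset_sum, Finset.sum_eq_zero hh, lam_one] at h3
    exact zero_ne_one h3
  obtain ⟨f, hf, hfa⟩ := Finset.mem_image.mp a.2
  rw [← hfa] at hne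
  have hfB := mem_blocks.mp hf
  have hstab : IsStableUnder P (subE M Q f) := isStableUnder_iff_cjE.mpr fun x hx => by
    rw [hfa]; exact congrArg Subtype.val ((Finset.mem_filter.mp ha).2 ⟨x, hx⟩)
  have hone : lam M ξ (resSub (𝐂 P) (subE M Q f)) = 1 := by
    have h4 := lam_resSub_mul hM hP ξ hstab hstab
      ((isStableUnder_centralizer_subE Q f).mono hCP) ((isStableUnder_centralizer_subE Q f).mono hCP)
    rw [subE_sq hfB] at h4
    exact mul_left_cancel₀ hne (h4.symm.trans (mul_one _).symm)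
  refine ⟨f, (isNormalSubpair_iff hM).mpr ⟨⟨hQ, hfB⟩, ⟨hP, he'⟩, hle, hN, hstab, fun ξ' hξ' => by
    rw [IsPBlock.lam_eq he' hξ' hξ, hone]⟩, fun f' hf' => ?_⟩
  obtain ⟨⟨-, hfB'⟩, -, -, -, hstab', hone'⟩ := (isNormalSubpair_iff hM).mp hf'
  by_contra hne'
  have h5 := lam_resSub_mul hM hP ξ hstab' hstab
    ((isStableUnder_centralizer_subE Q f').mono hCP) ((isStableUnder_centralizer_subE Q f).mono hCP)
  rw [subE_mul hfB' hfB hne', map_zero, lam_zero, hone' ξ hξ, hone, mul_one] at h5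
  exact zero_ne_one h5

/-- The Brauer map at the upper pair factors through the reduced central character of the lower. -/
theorem lam_resSub_incSub (hM : IsPModular p M) {Q P : Subgroup G} {f : Set (IrrCharacter (𝐂 Q))}
    {e : Set (IrrCharacter (𝐂 P))} (h : IsNormalSubpair p M Q f P e)
    {w : MonoidAlgebra (ResF M) (𝐂 Q)} (hw : IsClassElt w) (hwP : IsStableUnder P (incSub (𝐂 Q) w))
    {ξ : IrrCharacter (𝐂 P)} (hξ : ξ ∈ e) {η : IrrCharacter (𝐂 Q)} (hη : η ∈ f) :
    lam M ξ (resSub (𝐂 P) (incSub (𝐂 Q) w)) = lam M η w := by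
  obtain ⟨⟨-, hf⟩, ⟨hP, -⟩, hle, -, hstab, hone⟩ := (isNormalSubpair_iff hM).mp h
  have hCP : 𝐂 P ≤ 𝐂 Q := centralizer_le' hle
  set c := lam M η w with hc
  let Y : classRing (𝐂 Q) (ResF M) :=
    ⟨w * bIdem M f - c • bIdem M f, (hw.mul (isClassElt_bIdem f)).sub ((isClassElt_bIdem f).smul c)⟩
  have hnil : IsNilpotent Y := isNilpotent_of_lam_eq_zero fun ψ => by
    show lam M ψ (w * bIdem M f - c • bIdem M f) = 0
    rw [lam_sub, lam_mul M ψ hw (isClassElt_bIdem f), lam_smul, lam_bIdem hf]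
    split_ifs with hψ
    · rw [IsPBlock.lam_eq hf hψ hη, hc, sub_self]
    · simp
  obtain ⟨n, hn⟩ := hnil
  have hn' : (w * bIdem M f - c • bIdem M f) ^ n = 0 := congrArg Subtype.val hn
  have hinc : incSub (𝐂 Q) (w * bIdem M f - c • bIdem M f)
      = incSub (𝐂 Q) w * subE M Q f - c • subE M Q f := by
    rw [map_sub, map_mul]
    congr 1
    refine gr_ext fun g => ?_
    rw [gr_smul_apply]
    by_cases hg : g ∈ 𝐂 Q
    · rw [show g = ((⟨g, hg⟩ : 𝐂 Q) : G) from rfl, subE, coeff_incSub_mem, coeff_incSub_mem,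
        gr_smul_apply]
    · rw [subE, coeff_incSub_notMem _ _ hg, coeff_incSub_notMem _ _ hg, mul_zero]
  set v := incSub (𝐂 Q) w * subE M Q f - c • subE M Q f with hv
  have hw' : IsStableUnder (𝐂 P) (incSub (𝐂 Q) w) := (isStableUnder_incSub hw).mono hCP
  have hf' : IsStableUnder (𝐂 P) (subE M Q f) := (isStableUnder_centralizer_subE Q f).mono hCP
  have hvP : IsStableUnder P v := (hwP.mul hstab).sub (hstab.smul c)
  have hvC : IsStableUnder (𝐂 P) v := (hw'.mul hf').sub (hf'.smul c)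
  have h0 : lam M ξ (resSub (𝐂 P) v) ^ n = 0 := by
    rw [← lam_resSub_pow hM hP ξ hvP hvC, ← hinc, ← map_pow, hn', map_zero, map_zero, lam_zero]
  have h1 := eq_zero_of_pow_eq_zero h0
  rw [hv, map_sub, lam_sub, lam_resSub_mul hM hP ξ hwP hstab hw' hf',
    show resSub (𝐂 P) (c • subE M Q f) = c • resSub (𝐂 P) (subE M Q f) from
      gr_ext fun g => by simp, lam_smul, hone ξ hξ, mul_one, mul_one, sub_eq_zero] at h1
  exact h1

/-- Normal inclusions compose when the bottom subgroup is normal in the top one. -/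
theorem normalSubpair_trans (hM : IsPModular p M) {Q R P : Subgroup G}
    {f : Set (IrrCharacter (𝐂 Q))} {g : Set (IrrCharacter (𝐂 R))} {e : Set (IrrCharacter (𝐂 P))}
    (h1 : IsNormalSubpair p M Q f R g) (h2 : IsNormalSubpair p M R g P e)
    (hN : P ≤ Subgroup.normalizer (Q : Set G)) : IsNormalSubpair p M Q f P e := by
  obtain ⟨hf, hg, hQR, hRN, hfR, hfone⟩ := (isNormalSubpair_iff hM).mp h1
  obtain ⟨-, he, hRP, hPN, hgP, -⟩ := (isNormalSubpair_iff hM).mp h2
  have hCR : 𝐂 R ≤ 𝐂 Q := centralizer_le' hQR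
  have hCP : 𝐂 P ≤ 𝐂 R := centralizer_le' hRP
  have hfP : IsStableUnder P (subE M Q f) := isStableUnder_iff_cjE.mpr fun x hx => by
    set f' := pullBlock (normConj (𝐂 Q) (inv_mem (normalizer_le_normalizer_centralizer' Q (hN hx)))) f
    have hf' : subE M Q f' = cjE x (subE M Q f) := (cjE_subE_normalizer hf.2 (hN hx)).symm
    have h3 : IsNormalSubpair p M Q f' R g := by
      refine (isNormalSubpair_iff hM).mpr ⟨⟨hf.1, isPBlock_pull _ hf.2⟩, hg, hQR, hRN,
        isStableUnder_iff_cjE.mpr fun r hr => ?_, fun ζ hζ => ?_⟩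
      · rw [hf']
        have hr' : x⁻¹ * r * x ∈ R := by
          simpa using (Subgroup.mem_normalizer_iff.mp (hPN (inv_mem hx)) r).mp hr
        conv_rhs => rw [← isStableUnder_iff_cjE.mp hfR _ hr', cjE_cjE]
        rw [cjE_cjE]
        congr 1
        group
      · rw [hf']
        have hxR : x ∈ Subgroup.normalizer (R : Set G) := hPN hx
        have hxC := normalizer_le_normalizer_centralizer' R hxR
        have e1 : resSub (𝐂 R) (cjE x (subE M Q f))
            = pullElt (normConj (𝐂 R) (inv_mem hxC)) (resSub (𝐂 R) (subE M Q f)) :=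
          gr_ext fun k => by
            rw [coeff_resSub, coeff_cjE, coeff_pullElt, coeff_resSub, coe_conjEquiv, inv_inv]
        obtain ⟨hxC', hstabg⟩ := (stabilizesBlock_iff g x⁻¹).mp
          ((stabilizesBlock_iff_cjE hg.2 (inv_mem hxR)).mpr
            (isStableUnder_iff_cjE.mp hgP _ (inv_mem hx)))
        rw [e1, ← irrPull_symm (normConj (𝐂 R) (inv_mem hxC)) ζ,
          lam_pull _ _ ((isStableUnder_centralizer_subE Q f).mono hCR).isClassElt_resSub]
        refine hfone _ ?_
        rw [← hstabg] at hζ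
        exact hζ
    rw [← hf', (existsUnique_normalSubpair hM hg hQR hRN).unique h3 h1]
  refine (isNormalSubpair_iff hM).mpr ⟨hf, he, hQR.trans hRP, hN, hfP, fun ξ hξ => ?_⟩
  obtain ⟨η, hη⟩ := IsPBlock.nonempty hg.2
  have hw : IsClassElt (resSub (𝐂 R) (subE M Q f)) :=
    ((isStableUnder_centralizer_subE Q f).mono hCR).isClassElt_resSub
  have hwP : IsStableUnder P (incSub (𝐂 R) (resSub (𝐂 R) (subE M Q f))) := by
    intro x hx a
    have hxC := normalizer_le_normalizer_centralizer' R (hPN hx)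
    have hm : a ∈ 𝐂 R ↔ x * a * x⁻¹ ∈ 𝐂 R := Subgroup.mem_normalizer_iff.mp hxC a
    by_cases ha : a ∈ 𝐂 R
    · rw [show a = ((⟨a, ha⟩ : 𝐂 R) : G) from rfl, coeff_incSub_mem,
        show x * a * x⁻¹ = ((⟨_, hm.mp ha⟩ : 𝐂 R) : G) from rfl, coeff_incSub_mem,
        coeff_resSub, coeff_resSub]
      exact hfP x hx a
    · rw [coeff_incSub_notMem _ _ ha, coeff_incSub_notMem _ _ fun h => ha (hm.mpr h)]
  rw [← resSub_incSub_resSub hCP, lam_resSub_incSub hM h2 hw hwP hξ hη, hfone η hη]

/-! ### Inclusion of pairs -/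

theorem subpairLE_le {Q P : Subgroup G} {f : Set (IrrCharacter (𝐂 Q))}
    {e : Set (IrrCharacter (𝐂 P))} (h : SubpairLE p M Q f P e) : Q ≤ P := by
  suffices ∀ a b : BrauerPairIdx G, Relation.ReflTransGen (NormalSubpairRel p M) a b → a.1 ≤ b.1 from
    this _ _ h
  intro a b hab
  induction hab with
  | refl => exact le_rfl
  | tail _ h2 ih => exact ih.trans h2.2.2.1

theorem subpairLE_isBrauerPair {Q P : Subgroup G} {f : Set (IrrCharacter (𝐂 Q))}
    {e : Set (IrrCharacter (𝐂 P))} (h : SubpairLE p M Q f P e) (he : IsBrauerPair p M P e) :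
    IsBrauerPair p M Q f := by
  rcases Relation.ReflTransGen.cases_head h with h | ⟨c, hc, -⟩
  · obtain ⟨rfl, h'⟩ := Sigma.mk.inj_iff.mp h
    rw [eq_of_heq h']; exact he
  · exact hc.1

theorem subpairLE_trans {Q R P : Subgroup G} {f : Set (IrrCharacter (𝐂 Q))}
    {g : Set (IrrCharacter (𝐂 R))} {e : Set (IrrCharacter (𝐂 P))}
    (h : SubpairLE p M Q f R g) (h' : SubpairLE p M R g P e) : SubpairLE p M Q f P e :=
  Relation.ReflTransGen.trans h h'

theorem normalSubpair_self (hM : IsPModular p M) {Q : Subgroup G} {f g : Set (IrrCharacter (𝐂 Q))}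
    (h : IsNormalSubpair p M Q f Q g) : f = g := by
  refine (existsUnique_normalSubpair hM h.2.1 le_rfl Subgroup.le_normalizer).unique h
    ((isNormalSubpair_iff hM).mpr ⟨h.2.1, h.2.1, le_rfl, Subgroup.le_normalizer, ?_, fun ξ hξ => ?_⟩)
  · refine isStableUnder_iff_cjE.mpr fun x hx => gr_ext fun a => ?_
    rw [coeff_cjE]
    by_cases ha : a ∈ 𝐂 Q
    · rw [mul_assoc, ← Subgroup.mem_centralizer_iff.mp ha x hx, inv_mul_cancel_left]
    · rw [subE, coeff_incSub_notMem _ _ ha, coeff_incSub_notMem]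
      intro h'
      have h2 := Subgroup.mem_centralizer_iff.mp h' x hx
      refine ha ?_
      have h3 : x⁻¹ * a * x = a := by
        have h4 : a * x = x * (x⁻¹ * a * x) := by group
        rw [h2] at h4
        exact (mul_right_cancel h4).symm
      rwa [h3] at h'
  · rw [subE, resSub_incSub, lam_bIdem h.2.1.2, if_pos hξ]

/-- Below a pair there is a pair on each subgroup. -/
theorem exists_subpair (hM : IsPModular p M) {P : Subgroup G} {e : Set (IrrCharacter (𝐂 P))}
    (he : IsBrauerPair p M P e) {Q : Subgroup G} (hQP : Q ≤ P) :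
    ∃ f : Set (IrrCharacter (𝐂 Q)), IsBrauerPair p M Q f ∧ SubpairLE p M Q f P e := by
  induction hn : Nat.card P - Nat.card Q using Nat.strong_induction_on generalizing Q with
  | _ n ih =>
    by_cases hQ : Q = P
    · subst hQ; exact ⟨e, he, Relation.ReflTransGen.refl⟩
    have hlt := lt_normalizer_inf he.1 (lt_of_le_of_ne hQP hQ)
    have hcard : Nat.card Q < Nat.card (P ⊓ Subgroup.normalizer (Q : Set G) : Subgroup G) :=
      Set.Finite.card_lt_card (Set.toFinite _) hlt
    have hcard' : Nat.card (P ⊓ Subgroup.normalizer (Q : Set G) : Subgroup G) ≤ Nat.card P :=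
      Subgroup.card_le_of_le inf_le_left
    obtain ⟨g, hg, hgP⟩ := ih (Nat.card P - Nat.card (P ⊓ Subgroup.normalizer (Q : Set G) : Subgroup G))
      (by omega) (inf_le_left : P ⊓ Subgroup.normalizer (Q : Set G) ≤ P) rfl
    obtain ⟨f, hf, -⟩ := existsUnique_normalSubpair hM hg hlt.le inf_le_right
    exact ⟨f, hf.1, Relation.ReflTransGen.head (r := NormalSubpairRel p M)
      (show NormalSubpairRel p M (⟨Q, f⟩ : BrauerPairIdx G)
        ⟨P ⊓ Subgroup.normalizer (Q : Set G), g⟩ from hf) hgP⟩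

/-- Below a pair there is at most one pair on each subgroup (Alperin–Broué). -/
theorem subpair_unique (hM : IsPModular p M) {P : Subgroup G} {e : Set (IrrCharacter (𝐂 P))}
    (he : IsBrauerPair p M P e) {Q : Subgroup G} {f f' : Set (IrrCharacter (𝐂 Q))}
    (h : SubpairLE p M Q f P e) (h' : SubpairLE p M Q f' P e) : f = f' := by
  induction hn : Nat.card P - Nat.card Q using Nat.strong_induction_on generalizing Q with
  | _ n ih =>
    have first : ∀ a b : BrauerPairIdx G, Relation.ReflTransGen (NormalSubpairRel p M) a b →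
        a = b ∨ ∃ c, a.1 < c.1 ∧ NormalSubpairRel p M a c ∧
          Relation.ReflTransGen (NormalSubpairRel p M) c b := by
      intro a b hab
      induction hab using Relation.ReflTransGen.head_induction_on with
      | refl => exact Or.inl rfl
      | @head a c hac hcb ih' =>
        obtain ⟨A, fa⟩ := a
        obtain ⟨C, fc⟩ := c
        by_cases hAC : A = C
        · subst hAC
          have := normalSubpair_self hM (hac : IsNormalSubpair p M A fa A fc)
          subst this
          exact ih'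
        · exact Or.inr ⟨⟨C, fc⟩, lt_of_le_of_ne hac.2.2.1 hAC, hac, hcb⟩
    by_cases hQ : Q = P
    · subst hQ
      rcases first _ _ h with h1 | ⟨c, hc, -, hcb⟩
      · rcases first _ _ h' with h2 | ⟨c, hc, -, hcb⟩
        · exact eq_of_heq (Sigma.mk.inj_iff.mp (h1.trans h2.symm)).2
        · exact absurd (subpairLE_le hcb) hc.not_ge
      · exact absurd (subpairLE_le hcb) hc.not_ge
    have hQP : Q ≤ P := subpairLE_le h
    have hlt := lt_normalizer_inf he.1 (lt_of_le_of_ne hQP hQ)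
    set N := P ⊓ Subgroup.normalizer (Q : Set G)
    obtain ⟨β, hβ, hβP⟩ := exists_subpair hM he (inf_le_left : N ≤ P)
    have ih' : ∀ {R : Subgroup G} {g g' : Set (IrrCharacter (𝐂 R))}, Q < R →
        SubpairLE p M R g P e → SubpairLE p M R g' P e → g = g' := by
      intro R g g' hR hg hg'
      have h1 : Nat.card Q < Nat.card R := Set.Finite.card_lt_card (Set.toFinite _) hR
      have := Subgroup.card_le_of_le (subpairLE_le hg)
      exact ih _ (by omega) hg hg' rfl
    have key : ∀ φ, SubpairLE p M Q φ P e → IsNormalSubpair p M Q φ N β := by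
      intro φ hφ
      rcases first _ _ hφ with h1 | ⟨⟨R, g⟩, hR, hstep, hgP⟩
      · exact absurd (Sigma.mk.inj_iff.mp h1).1 hQ
      have hRN : R ≤ N := le_inf (subpairLE_le hgP) hstep.2.2.2.1
      obtain ⟨g', -, hg'N⟩ := exists_subpair hM hβ hRN
      have hgg : g' = g := ih' hR (subpairLE_trans hg'N hβP) hgP
      subst hgg
      have climb : ∀ b : BrauerPairIdx G,
          Relation.ReflTransGen (NormalSubpairRel p M) ⟨R, g'⟩ b →
            b.1 ≤ Subgroup.normalizer (Q : Set G) → IsNormalSubpair p M Q φ b.1 b.2 := by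
        intro b hb
        induction hb with
        | refl => exact fun _ => hstep
        | tail _ hxy ihx =>
          intro hy
          exact normalSubpair_trans hM (ihx (hxy.2.2.1.trans hy)) hxy hy
      exact climb ⟨N, β⟩ hg'N inf_le_right
    exact (existsUnique_normalSubpair hM hβ hlt.le inf_le_right).unique (key f h) (key f' h')

theorem subpair_le_of_le (hM : IsPModular p M) {P : Subgroup G} {e : Set (IrrCharacter (𝐂 P))}
    (he : IsBrauerPair p M P e) {Q R : Subgroup G} {f : Set (IrrCharacter (𝐂 Q))}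
    {g : Set (IrrCharacter (𝐂 R))} (hQR : Q ≤ R) (hf : SubpairLE p M Q f P e)
    (hg : SubpairLE p M R g P e) : SubpairLE p M Q f R g := by
  obtain ⟨f', -, hf'⟩ := exists_subpair hM (subpairLE_isBrauerPair hg he) hQR
  rwa [subpair_unique hM he hf (subpairLE_trans hf' hg)]

theorem isNormalSubpair_of_le (hM : IsPModular p M) {P : Subgroup G}
    {e : Set (IrrCharacter (𝐂 P))} (he : IsBrauerPair p M P e) {Q : Subgroup G}
    {f : Set (IrrCharacter (𝐂 Q))} (h : SubpairLE p M Q f P e)
    (hN : P ≤ Subgroup.normalizer (Q : Set G)) : IsNormalSubpair p M Q f P e := by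
  obtain ⟨f', hf', -⟩ := existsUnique_normalSubpair hM he (subpairLE_le h) hN
  rwa [subpair_unique hM he h (Relation.ReflTransGen.single
    (hf' : NormalSubpairRel p M ⟨Q, f'⟩ ⟨P, e⟩))]

/-- Pairs in inclusion give the same values on central elements of `G`. -/
theorem lam_eq_of_subpairLE (hM : IsPModular p M) {Q P : Subgroup G}
    {f : Set (IrrCharacter (𝐂 Q))} {e : Set (IrrCharacter (𝐂 P))} (h : SubpairLE p M Q f P e)
    (he : IsBrauerPair p M P e) {u : MonoidAlgebra (ResF M) G} (hu : IsClassElt u)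
    {ξ : IrrCharacter (𝐂 P)} (hξ : ξ ∈ e) {η : IrrCharacter (𝐂 Q)} (hη : η ∈ f) :
    lam M ξ (resSub (𝐂 P) u) = lam M η (resSub (𝐂 Q) u) := by
  suffices ∀ a b : BrauerPairIdx G, Relation.ReflTransGen (NormalSubpairRel p M) a b →
      IsPBlock M b.2 → ∀ ξ ∈ b.2, ∀ η ∈ a.2,
        lam M ξ (resSub (𝐂 b.1) u) = lam M η (resSub (𝐂 a.1) u) from
    this _ _ h he.2 ξ hξ η hη
  intro a b hab
  induction hab with
  | refl => exact fun hb ξ hξ η hη => IsPBlock.lam_eq hb hξ hη _
  | @tail c d hac hcd ih =>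
    intro hd ξ hξ η hη
    obtain ⟨ζ, hζ⟩ := IsPBlock.nonempty hcd.1.2
    have hCP : 𝐂 d.1 ≤ 𝐂 c.1 := centralizer_le' hcd.2.2.1
    have hwP : IsStableUnder d.1 (incSub (𝐂 c.1) (resSub (𝐂 c.1) u)) := by
      intro x hx a
      have hxC := normalizer_le_normalizer_centralizer' c.1 (hcd.2.2.2.1 hx)
      have hm : a ∈ 𝐂 c.1 ↔ x * a * x⁻¹ ∈ 𝐂 c.1 := Subgroup.mem_normalizer_iff.mp hxC a
      by_cases ha : a ∈ 𝐂 c.1
      · rw [show a = ((⟨a, ha⟩ : 𝐂 c.1) : G) from rfl, coeff_incSub_mem,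
          show x * a * x⁻¹ = ((⟨_, hm.mp ha⟩ : 𝐂 c.1) : G) from rfl, coeff_incSub_mem,
          coeff_resSub, coeff_resSub]
        exact hu x a
      · rw [coeff_incSub_notMem _ _ ha, coeff_incSub_notMem _ _ fun h => ha (hm.mpr h)]
    rw [← ih hcd.1.2 ζ hζ η hη, ← resSub_incSub_resSub hCP u,
      lam_resSub_incSub hM hcd (hu.resSub _) hwP hξ hζ]

theorem isBrauerPairOf_of_subpairLE (hM : IsPModular p M) {B : Set (IrrCharacter G)}
    {Q P : Subgroup G} {f : Set (IrrCharacter (𝐂 Q))} {e : Set (IrrCharacter (𝐂 P))}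
    (he : IsBrauerPair p M P e) (h : SubpairLE p M Q f P e) :
    IsBrauerPairOf p M B Q f ↔ IsBrauerPairOf p M B P e := by
  have hf := subpairLE_isBrauerPair h he
  obtain ⟨ξ, hξ⟩ := IsPBlock.nonempty he.2
  obtain ⟨η, hη⟩ := IsPBlock.nonempty hf.2
  rw [isBrauerPairOf_iff hM, isBrauerPairOf_iff hM]
  constructor
  · rintro ⟨-, hind⟩
    obtain ⟨χ, hχ⟩ := IsPBlock.nonempty hind.2.1
    exact ⟨he.1, (isInducedBlock_iff he.2 hind.2.1 hξ hχ).mpr fun u hu => by
      rw [lam_eq_of_subpairLE hM h he hu hξ hη]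
      exact (isInducedBlock_iff hf.2 hind.2.1 hη hχ).mp hind u hu⟩
  · rintro ⟨-, hind⟩
    obtain ⟨χ, hχ⟩ := IsPBlock.nonempty hind.2.1
    exact ⟨hf.1, (isInducedBlock_iff hf.2 hind.2.1 hη hχ).mpr fun u hu => by
      rw [← lam_eq_of_subpairLE hM h he hu hξ hη]
      exact (isInducedBlock_iff he.2 hind.2.1 hξ hχ).mp hind u hu⟩

/-! ### Conjugation of pairs -/

theorem subE_conjBlock {Q : Subgroup G} {f : Set (IrrCharacter (𝐂 Q))} (hf : IsPBlock M f) (x : G) :
    subE M (Q.map (MulAut.conj x).toMonoidHom) (conjBlock Q x f) = cjE x (subE M Q f) := by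
  refine gr_ext fun g => ?_
  rw [coeff_cjE, subE, subE, conjBlock_eq_pull, bIdem_pull _ hf]
  have hm := mem_centralizer_map_conj Q x (x⁻¹ * g * x)
  rw [show x * (x⁻¹ * g * x) * x⁻¹ = g by group] at hm
  by_cases hg : g ∈ 𝐂 (Q.map (MulAut.conj x).toMonoidHom)
  · obtain ⟨c, rfl⟩ : ∃ c : 𝐂 (Q.map (MulAut.conj x).toMonoidHom), (c : G) = g := ⟨⟨g, hg⟩, rfl⟩
    rw [coeff_incSub_mem, coeff_pullElt, ← coeff_incSub_mem, coe_conjEquiv_symm]
  · rw [coeff_incSub_notMem _ _ hg, coeff_incSub_notMem _ _ fun h => hg (hm.mp h)]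

theorem isPBlock_conjBlock {Q : Subgroup G} {f : Set (IrrCharacter (𝐂 Q))} (hf : IsPBlock M f)
    (x : G) : IsPBlock M (conjBlock Q x f) := by
  rw [conjBlock_eq_pull]; exact isPBlock_pull _ hf

theorem isBrauerPair_conj {Q : Subgroup G} {f : Set (IrrCharacter (𝐂 Q))}
    (hf : IsBrauerPair p M Q f) (x : G) :
    IsBrauerPair p M (Q.map (MulAut.conj x).toMonoidHom) (conjBlock Q x f) :=
  ⟨hf.1.map _, isPBlock_conjBlock hf.2 x⟩

theorem isBrauerPairOf_conj (hM : IsPModular p M) {B : Set (IrrCharacter G)} {Q : Subgroup G}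
    {f : Set (IrrCharacter (𝐂 Q))} (hf : IsBrauerPairOf p M B Q f) (x : G) :
    IsBrauerPairOf p M B (Q.map (MulAut.conj x).toMonoidHom) (conjBlock Q x f) := by
  obtain ⟨hQ, hind⟩ := (isBrauerPairOf_iff hM).mp hf
  rw [isBrauerPairOf_iff hM, conjBlock_eq_pull]
  exact ⟨hQ.map _, isInducedBlock_conj (mem_centralizer_map_conj Q x) hind⟩

theorem mem_normalizer_map_conj (Q : Subgroup G) (x g : G) :
    g ∈ Subgroup.normalizer (Q : Set G) ↔
      x * g * x⁻¹ ∈ Subgroup.normalizer ((Q.map (MulAut.conj x).toMonoidHom : Subgroup G) : Set G) := by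
  rw [Subgroup.mem_normalizer_iff, Subgroup.mem_normalizer_iff]
  simp only [mem_map_conj]
  constructor
  · intro h a
    rw [h (x⁻¹ * a * x)]
    group
  · intro h a
    have := h (x * a * x⁻¹)
    simpa [mul_assoc] using this

theorem isNormalSubpair_conj (hM : IsPModular p M) {Q P : Subgroup G}
    {f : Set (IrrCharacter (𝐂 Q))} {e : Set (IrrCharacter (𝐂 P))}
    (h : IsNormalSubpair p M Q f P e) (x : G) :
    IsNormalSubpair p M (Q.map (MulAut.conj x).toMonoidHom) (conjBlock Q x f)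
      (P.map (MulAut.conj x).toMonoidHom) (conjBlock P x e) := by
  obtain ⟨hf, he, hle, hN, hstab, hone⟩ := (isNormalSubpair_iff hM).mp h
  refine (isNormalSubpair_iff hM).mpr ⟨isBrauerPair_conj hf x, isBrauerPair_conj he x,
    Subgroup.map_mono hle, fun g hg => ?_, isStableUnder_iff_cjE.mpr fun g hg => ?_, ?_⟩
  · have := (mem_normalizer_map_conj Q x (x⁻¹ * g * x)).mp (hN (mem_map_conj.mp hg))
    rwa [show x * (x⁻¹ * g * x) * x⁻¹ = g by group] at this
  · rw [subE_conjBlock hf.2, cjE_cjE]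
    conv_rhs => rw [← isStableUnder_iff_cjE.mp hstab _ (mem_map_conj.mp hg), cjE_cjE]
    congr 1
    group
  · rw [conjBlock_eq_pull P x e]
    intro ξ hξ
    have e1 : resSub (𝐂 (P.map (MulAut.conj x).toMonoidHom)) (cjE x (subE M Q f))
        = pullElt (centConj P x).symm (resSub (𝐂 P) (subE M Q f)) :=
      gr_ext fun k => by
        rw [coeff_resSub, coeff_cjE, coeff_pullElt, coeff_resSub, coe_conjEquiv_symm]
    rw [subE_conjBlock hf.2, e1, ← irrPull_symm (centConj P x).symm ξ,
      lam_pull _ _ ((isStableUnder_centralizer_subE Q f).mono (centralizer_le' hle)).isClassElt_resSub]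
    exact hone _ hξ

theorem subpairLE_conj (hM : IsPModular p M) {Q P : Subgroup G}
    {f : Set (IrrCharacter (𝐂 Q))} {e : Set (IrrCharacter (𝐂 P))}
    (h : SubpairLE p M Q f P e) (x : G) :
    SubpairLE p M (Q.map (MulAut.conj x).toMonoidHom) (conjBlock Q x f)
      (P.map (MulAut.conj x).toMonoidHom) (conjBlock P x e) :=
  Relation.ReflTransGen.lift
    (fun a : BrauerPairIdx G => (⟨a.1.map (MulAut.conj x).toMonoidHom, conjBlock a.1 x a.2⟩ : BrauerPairIdx G))
    (r := NormalSubpairRel p M) (p := NormalSubpairRel p M)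
    (fun a b hab => isNormalSubpair_conj hM (hab : IsNormalSubpair p M a.1 a.2 b.1 b.2) x) _ _ h

end Cfsg.Lib.Blocks
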