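import Cfsg.Agent.Lib.Blocks.Covering
import Cfsg.Agent.Lib.Blocks.Defect
import Cfsg.Agent.Lib.Blocks.Subpairs
import Cfsg.Agent.Lib.Blocks.SubpairLocal

/-!
# Defect groups of covering blocks

For a block `B` of `G` and a block `b` of a normal subgroup `N` with `e_B e_b ≠ 0`, some element
`c` of the centralizer of `k[N]` makes the `N`-part of `e_B c` invertible in `b`.  Consequently
every `p`-subgroup of `N` kept by `e_b` is kept by `e_B`.
-/

namespace Cfsg.Lib.Blocks

open Cfsg.Lib.Characters Finset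
open scoped ComplexConjugate Classical

set_option linter.unusedSectionVars false
set_option linter.style.haveILetI false
set_option linter.style.longLine false

universe u

variable {G : Type u} [Group G] [Fintype G] {M : Ideal Cfsg.AlgInt} [M.IsPrime]

/-- The product of as many radical elements of the centre as there are characters vanishes. -/
theorem prod_eq_zero_of_lam_eq_zero {H : Type*} [Group H] [Fintype H]
    (f : IrrCharacter H → classRing H (ResF M))
    (h : ∀ ψ χ, lam M χ (f ψ : MonoidAlgebra (ResF M) H) = 0) : ∏ χ, f χ = 0 := by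
  choose z hz hzx using fun ψ => exists_lift M (f ψ).2
  let Z : IrrCharacter H → locCenter H M := fun ψ => ⟨z ψ, hz ψ⟩
  let c : IrrCharacter H → locCenter H M := fun χ =>
    ⟨_, smul_one_mem_locCenter M (omega_mem_locRing M χ (hz χ))⟩
  have h0 : ∏ χ : IrrCharacter H, (Z χ - c χ) = 0 := by
    apply Subtype.ext
    refine ext_omega (∏ χ : IrrCharacter H, (Z χ - c χ)).2.1 IsClassElt.zero fun ψ => ?_
    rw [ZeroMemClass.coe_zero, omega_zero]
    show omegaHom M ψ (∏ χ : IrrCharacter H, (Z χ - c χ)) = 0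
    rw [map_prod]
    refine Finset.prod_eq_zero (Finset.mem_univ ψ) ?_
    rw [map_sub]
    show omega ψ (z ψ) - omega ψ (_ • 1) = 0
    rw [omega_smul, omega_one, mul_one, sub_self]
  have hc : ∀ χ, redCenter M (c χ) = 0 := by
    intro χ
    apply Subtype.ext
    show redG M (_ • 1) = _
    rw [redG_smul M (omega_mem_locRing M χ (hz χ)) (locCenter H M).one_mem.2,
      ← lam_redG M χ (hz χ), hzx, h χ χ, zero_smul]
    rfl
  have hZ : ∀ χ, redCenter M (Z χ) = f χ := fun χ => Subtype.ext (hzx χ)
  have := congrArg (redCenter M) h0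
  rw [map_prod, map_zero] at this
  simpa [map_sub, hc, hZ] using this

theorem prod_list_eq_zero_of_lam_eq_zero {H : Type*} [Group H] [Fintype H]
    (l : List (classRing H (ResF M))) (hlen : l.length = Fintype.card (IrrCharacter H))
    (h : ∀ w ∈ l, ∀ χ, lam M χ (w : MonoidAlgebra (ResF M) H) = 0) : l.prod = 0 := by
  have e : IrrCharacter H ≃ Fin l.length := (Fintype.equivFin _).trans (finCongr hlen.symm)
  rw [← Fin.prod_univ_getElem l, ← e.prod_comp fun i : Fin l.length => l[(i : ℕ)]]
  exact prod_eq_zero_of_lam_eq_zero _ fun ψ χ => h _ (List.getElem_mem (e ψ).2) χ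

/-- The idempotent coefficient of a union of blocks. -/
theorem blockCoeff_union {H : Type*} [Group H] [Fintype H] {U : Set (IrrCharacter H)}
    (hU : IsBlockUnion M U) (h : H) :
    blockCoeff U h = ∑ b' ∈ (blocks H M).filter (· ⊆ U), blockCoeff b' h := by
  rw [blockCoeff_eq, Finset.sum_congr rfl fun b' _ => blockCoeff_eq b' h, ← Finset.mul_sum, Finset.sum_comm]
  congr 1
  refine Finset.sum_congr rfl fun φ _ => ?_
  by_cases hφ : φ ∈ U
  · rw [if_pos hφ, Finset.sum_eq_single (blockOf M (φ : H → ℂ)), if_pos (mem_blockOf_self M φ)]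
    · intro b' hb' hne
      rw [if_neg fun hin => hne (IsPBlock.eq_blockOf (mem_blocks.mp (Finset.mem_filter.mp hb').1) hin)]
    · intro hnot
      exact absurd (Finset.mem_filter.mpr ⟨mem_blocks.mpr ⟨φ, rfl⟩,
        fun ψ hψ => hU φ ψ hψ hφ⟩) hnot
  · rw [if_neg hφ, Finset.sum_eq_zero]
    intro b' hb'
    rw [if_neg fun hin => hφ ((Finset.mem_filter.mp hb').2 hin)]

section Normal

variable {N : Subgroup G} [hN : N.Normal] [Fintype N]

/-- Elements fixed by `N` commute with `k[N]`. -/
theorem incSub_mul_comm_of_stable {c : MonoidAlgebra (ResF M) G} (hc : IsStableUnder N c)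
    (y : MonoidAlgebra (ResF M) N) : incSub N y * c = c * incSub N y := by
  refine gr_ext fun g => ?_
  rw [gr_mul_apply, gr_mul_apply']
  refine Finset.sum_congr rfl fun n _ => ?_
  by_cases hn : n ∈ N
  · rw [mul_comm (c.coeff _)]
    congr 1
    rw [show g * n⁻¹ = n * (n⁻¹ * g) * n⁻¹ by group]
    exact (hc n hn _).symm
  · rw [coeff_incSub_notMem _ _ hn, zero_mul, mul_zero]

/-- The component of an element of the group ring on a coset. -/
noncomputable def cosetPart (q : G ⧸ N) (u : MonoidAlgebra (ResF M) G) : MonoidAlgebra (ResF M) G :=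
  gOfFun fun g => if (g : G ⧸ N) = q then u.coeff g else 0

theorem coeff_cosetPart (q : G ⧸ N) (u : MonoidAlgebra (ResF M) G) (g : G) :
    (cosetPart q u).coeff g = if (g : G ⧸ N) = q then u.coeff g else 0 := coeff_gOfFun _ _

/-- Support on one coset. -/
def OnCoset (q : G ⧸ N) (u : MonoidAlgebra (ResF M) G) : Prop :=
  ∀ g : G, u.coeff g ≠ 0 → (g : G ⧸ N) = q

theorem OnCoset.mul {q r : G ⧸ N} {u v : MonoidAlgebra (ResF M) G} (hu : OnCoset q u) (hv : OnCoset r v) :
    OnCoset (q * r) (u * v) := by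
  intro g hg
  rw [gr_mul_apply] at hg
  obtain ⟨a, -, ha⟩ := Finset.exists_ne_zero_of_sum_ne_zero hg
  obtain ⟨h1, h2⟩ := mul_ne_zero_iff.mp ha
  rw [← hu _ h1, ← hv _ h2, ← QuotientGroup.mk_mul]
  congr 1
  group

theorem onCoset_one : OnCoset (1 : G ⧸ N) (1 : MonoidAlgebra (ResF M) G) := fun g hg => by
  rw [gr_one_apply] at hg
  split_ifs at hg with h
  · rw [h, QuotientGroup.mk_one]
  · exact absurd rfl hg

theorem isStableUnder_list_prod {l : List (MonoidAlgebra (ResF M) G)}
    (h : ∀ w ∈ l, IsStableUnder N w) : IsStableUnder N l.prod := by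
  induction l with
  | nil => exact IsStableUnder.one N
  | cons a l ih =>
    rw [List.prod_cons]
    exact (h a (by simp)).mul (ih fun w hw => h w (by simp [hw]))

theorem onCoset_list_prod (f : G ⧸ N → MonoidAlgebra (ResF M) G) (hf : ∀ q, OnCoset q (f q))
    (l : List (G ⧸ N)) : OnCoset l.prod (l.map f).prod := by
  induction l with
  | nil => exact onCoset_one
  | cons a l ih => rw [List.prod_cons, List.map_cons, List.prod_cons]; exact (hf a).mul ih

theorem isClassElt_resSub_of_stable {w : MonoidAlgebra (ResF M) G} (hw : IsStableUnder N w) :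
    IsClassElt (resSub N w) := hw.isClassElt_resSub

variable (M) in
/-- Finite sums of products of `n` radical central elements of `k[N]` with fixed elements. -/
noncomputable def radSpan (N : Subgroup G) [Fintype N] (n : ℕ) : AddSubmonoid (MonoidAlgebra (ResF M) G) :=
  AddSubmonoid.closure {x | ∃ (l : List (classRing N (ResF M))) (c : MonoidAlgebra (ResF M) G),
    l.length = n ∧ (∀ w ∈ l, ∀ χ, lam M χ (w : MonoidAlgebra (ResF M) N) = 0) ∧ IsStableUnder N c ∧
      x = incSub N (l.prod : classRing N (ResF M)).1 * c}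

theorem mul_mem_radSpan {m n : ℕ} {x y : MonoidAlgebra (ResF M) G} (hx : x ∈ radSpan M N m)
    (hy : y ∈ radSpan M N n) : x * y ∈ radSpan M N (m + n) := by
  induction hx using AddSubmonoid.closure_induction with
  | mem a ha =>
    induction hy using AddSubmonoid.closure_induction with
    | mem b hb =>
      obtain ⟨l, c, hl, hlz, hc, rfl⟩ := ha
      obtain ⟨l', c', hl', hlz', hc', rfl⟩ := hb
      refine AddSubmonoid.subset_closure ⟨l ++ l', c * c', by rw [List.length_append, hl, hl'],
        fun w hw => (List.mem_append.mp hw).elim (hlz w) (hlz' w), hc.mul hc', ?_⟩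
      rw [List.prod_append, Subring.coe_mul, map_mul, mul_assoc, ← mul_assoc c,
        ← incSub_mul_comm_of_stable hc]
      simp only [mul_assoc]
    | zero => rw [mul_zero]; exact zero_mem _
    | add a' b' _ _ h1 h2 => rw [mul_add]; exact add_mem h1 h2
  | zero => rw [zero_mul]; exact zero_mem _
  | add a b _ _ h1 h2 => rw [add_mul]; exact add_mem h1 h2

/-- The graded key lemma: an idempotent of the centralizer of `k[N]` in `b` detected by no
component is zero. -/
theorem idem_eq_zero_of_lam {b : Set (IrrCharacter N)} (hb : IsPBlock M b) {θ : IrrCharacter N}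
    (hθ : θ ∈ b) {z : MonoidAlgebra (ResF M) G} (hz : IsStableUnder N z) (hzz : z * z = z)
    (hez : incSub N (bIdem M b) * z = z)
    (h : ∀ c, IsStableUnder N c → lam M θ (resSub N (z * c)) = 0) : z = 0 := by
  set Γ := G ⧸ N
  letI : Fintype Γ := Fintype.ofFinite _
  set f : Γ → MonoidAlgebra (ResF M) G := fun q => cosetPart q z with hf
  have hon : ∀ q, OnCoset q (f q) := fun q g hg => by
    rw [hf, coeff_cosetPart] at hg
    split_ifs at hg with h'
    · exact h'
    · exact absurd rfl hg
  have hmk : ∀ n ∈ N, ∀ g : G, ((n * g * n⁻¹ : G) : Γ) = (g : Γ) := fun n hn g => by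
    rw [QuotientGroup.mk_mul, QuotientGroup.mk_mul, QuotientGroup.mk_inv,
      (QuotientGroup.eq_one_iff n).mpr hn, one_mul, inv_one, mul_one]
  have hst : ∀ q, IsStableUnder N (f q) := fun q n hn g => by
    simp only [hf, coeff_cosetPart, hmk n hn g, hz n hn g]
  have hcomp : ∀ q c, IsStableUnder N c → lam M θ (resSub N (f q * c)) = 0 := by
    intro q c hc
    have heq : resSub N (f q * c) = resSub N (z * cosetPart q⁻¹ c) := by
      refine gr_ext fun n => ?_
      rw [coeff_resSub, coeff_resSub, gr_mul_apply, gr_mul_apply]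
      refine Finset.sum_congr rfl fun a _ => ?_
      simp only [hf, coeff_cosetPart, QuotientGroup.mk_mul, QuotientGroup.mk_inv,
        (QuotientGroup.eq_one_iff (n : G)).mpr n.2, mul_one, inv_inj]
      split_ifs <;> ring
    rw [heq]
    exact h _ fun n hn g => by simp only [coeff_cosetPart, hmk n hn g, hc n hn g]
  have hef : ∀ q, incSub N (bIdem M b) * f q = f q := by
    intro q
    refine gr_ext fun g => ?_
    have hg := congrArg (fun w : MonoidAlgebra (ResF M) G => if (g : Γ) = q then w.coeff g else 0) hez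
    simp only [hf, coeff_cosetPart]
    rw [← hg, gr_mul_apply, gr_mul_apply]
    by_cases hgq : (g : Γ) = q
    · rw [if_pos hgq]
      refine Finset.sum_congr rfl fun a _ => ?_
      by_cases ha : a ∈ N
      · simp only [coeff_cosetPart, QuotientGroup.mk_mul, QuotientGroup.mk_inv,
          (QuotientGroup.eq_one_iff a).mpr ha, inv_one, one_mul, if_pos hgq]
      · rw [coeff_incSub_notMem _ _ ha, zero_mul, zero_mul]
    · rw [if_neg hgq]
      refine Finset.sum_eq_zero fun a _ => ?_
      by_cases ha : a ∈ N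
      · simp only [coeff_cosetPart, QuotientGroup.mk_mul, QuotientGroup.mk_inv,
          (QuotientGroup.eq_one_iff a).mpr ha, inv_one, one_mul, if_neg hgq, mul_zero]
      · rw [coeff_incSub_notMem _ _ ha, zero_mul]
  have hsum : ∑ q, f q = z := gr_ext fun g => by
    rw [gr_sum_apply]
    simp only [hf, coeff_cosetPart]
    rw [Finset.sum_eq_single (g : Γ) (fun q _ hq => if_neg (Ne.symm hq))
      (fun h' => absurd (Finset.mem_univ _) h'), if_pos rfl]
  set L := Fintype.card Γ with hL
  have hpow : ∀ n : ℕ, z ^ (n + 1) = z := fun n => by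
    induction n with
    | zero => rw [pow_one]
    | succ n ih => rw [pow_succ, ih, hzz]
  have hlists : ∀ n : ℕ, z ^ n ∈ AddSubmonoid.closure
      {x | ∃ l : List Γ, l.length = n ∧ x = (l.map f).prod} := by
    intro n
    induction n with
    | zero => exact AddSubmonoid.subset_closure ⟨[], rfl, by simp⟩
    | succ n ih =>
      rw [pow_succ']
      conv => enter [2, 1]; rw [← hsum]
      rw [Finset.sum_mul]
      refine sum_mem fun q _ => ?_
      generalize z ^ n = w at ih ⊢
      induction ih using AddSubmonoid.closure_induction with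
      | mem a ha =>
        obtain ⟨l, hl, rfl⟩ := ha
        exact AddSubmonoid.subset_closure ⟨q :: l, by simp [hl], by simp⟩
      | zero => rw [mul_zero]; exact zero_mem _
      | add a a' _ _ h1 h2 => rw [mul_add]; exact add_mem h1 h2
  have hone : z ∈ radSpan M N 1 := by
    rw [← hpow L]
    refine (AddSubmonoid.closure_le.mpr ?_) (hlists (L + 1))
    rintro _ ⟨l, hl, rfl⟩
    obtain ⟨i, j, hij, hp⟩ := Fintype.exists_ne_map_eq_of_card_lt
      (fun i : Fin (L + 2) => (l.take i).prod) (by rw [Fintype.card_fin]; omega)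
    wlog hlt : (i : ℕ) < j generalizing i j with H
    · exact H j i hij.symm hp.symm (lt_of_le_of_ne (not_lt.mp hlt) fun h' => hij (Fin.ext h'.symm))
    set A := l.take i
    set Bm := (l.take j).drop i
    set C := l.drop j
    have hAB : A ++ Bm = l.take j := by
      rw [show A = (l.take j).take i by simp [A, List.take_take, Nat.min_eq_left hlt.le]]
      exact List.take_append_drop _ _
    have hsplit : l = A ++ Bm ++ C := by rw [hAB]; exact (List.take_append_drop _ _).symm
    have hBdeg : Bm.prod = 1 := by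
      have h1 : A.prod * Bm.prod = A.prod * 1 := by
        rw [← List.prod_append, hAB, mul_one]; exact hp.symm
      exact mul_left_cancel h1
    have hBne : Bm ≠ [] := by
      intro h'
      have h2 := congrArg List.length h'
      simp [Bm] at h2
      omega
    have hBst : IsStableUnder N (Bm.map f).prod :=
      isStableUnder_list_prod fun w hw => by obtain ⟨q, -, rfl⟩ := List.mem_map.mp hw; exact hst q
    have hBon : OnCoset (1 : Γ) (Bm.map f).prod := hBdeg ▸ onCoset_list_prod f hon Bm
    set w : classRing N (ResF M) := ⟨resSub N (Bm.map f).prod, hBst.isClassElt_resSub⟩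
    have hBw : (Bm.map f).prod = incSub N (w : MonoidAlgebra (ResF M) N) := gr_ext fun g => by
      by_cases hg : g ∈ N
      · rw [show g = ((⟨g, hg⟩ : N) : G) from rfl, coeff_incSub_mem, coeff_resSub]
      · rw [coeff_incSub_notMem _ _ hg]
        by_contra h0
        exact hg ((QuotientGroup.eq_one_iff g).mp (hBon g h0))
    have hw0 : ∀ χ, lam M χ (w : MonoidAlgebra (ResF M) N) = 0 := by
      obtain ⟨q, rest, hq⟩ := List.exists_cons_of_ne_nil hBne
      have hwθ : lam M θ (w : MonoidAlgebra (ResF M) N) = 0 := by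
        show lam M θ (resSub N (Bm.map f).prod) = 0
        rw [hq, List.map_cons, List.prod_cons]
        exact hcomp q _ (isStableUnder_list_prod fun v hv => by
          obtain ⟨r, -, rfl⟩ := List.mem_map.mp hv; exact hst r)
      have hwe : (w : MonoidAlgebra (ResF M) N) = bIdem M b * (w : MonoidAlgebra (ResF M) N) := by
        show resSub N (Bm.map f).prod = bIdem M b * resSub N (Bm.map f).prod
        conv_lhs => rw [show (Bm.map f).prod = incSub N (bIdem M b) * (Bm.map f).prod by
          rw [hq, List.map_cons, List.prod_cons, ← mul_assoc, hef]]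
        rw [resSub_mul_supp N fun g hg => coeff_incSub_notMem _ _ hg, resSub_incSub]
      intro χ
      rw [hwe, lam_mul M χ (isClassElt_bIdem b) w.2, lam_bIdem hb]
      split_ifs with hχ
      · rw [one_mul, IsPBlock.lam_eq hb hχ hθ, hwθ]
      · rw [zero_mul]
    refine AddSubmonoid.subset_closure ⟨[w], (A.map f).prod * (C.map f).prod, rfl, ?_, ?_, ?_⟩
    · intro v hv
      rw [List.mem_singleton.mp hv]
      exact hw0
    · exact (isStableUnder_list_prod fun v hv => by obtain ⟨r, -, rfl⟩ := List.mem_map.mp hv; exact hst r).mul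
        (isStableUnder_list_prod fun v hv => by obtain ⟨r, -, rfl⟩ := List.mem_map.mp hv; exact hst r)
    · rw [List.prod_singleton, ← hBw, hsplit, List.map_append, List.map_append, List.prod_append,
        List.prod_append, ← mul_assoc, hBw,
        incSub_mul_comm_of_stable (isStableUnder_list_prod fun v hv => by
          obtain ⟨r, -, rfl⟩ := List.mem_map.mp hv; exact hst r)]
  have hall : ∀ n : ℕ, z ∈ radSpan M N (n + 1) := fun n => by
    induction n with
    | zero => exact hone
    | succ n ih => rw [← hzz]; exact mul_mem_radSpan ih hone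
  obtain ⟨n, hn⟩ := Nat.exists_eq_succ_of_ne_zero
    (Fintype.card_pos_iff.mpr ⟨θ⟩ : 0 < Fintype.card (IrrCharacter N)).ne'
  have hK : ∀ x ∈ radSpan M N (Fintype.card (IrrCharacter N)), x = 0 := by
    intro x hx
    induction hx using AddSubmonoid.closure_induction with
    | mem a ha =>
      obtain ⟨l, c, hl, hlz, -, rfl⟩ := ha
      rw [prod_list_eq_zero_of_lam_eq_zero l hl hlz, ZeroMemClass.coe_zero, map_zero, zero_mul]
    | zero => rfl
    | add a a' _ _ h1 h2 => rw [h1, h2, add_zero]
  refine hK z ?_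
  rw [hn]
  exact hall n

variable {p : ℕ} [hp : Fact p.Prime]

/-- A `p`-subgroup of `N` kept by `e_b` is kept by `e_B` when `e_B e_b ≠ 0`. -/
theorem brNe_of_mul_incSub_ne (hM : IsPModular p M) {B : Set (IrrCharacter G)} (hB : IsPBlock M B)
    {b : Set (IrrCharacter N)} (hb : IsPBlock M b) (hne : bIdem M B * incSub N (bIdem M b) ≠ 0)
    {Q : Subgroup G} (hQN : Q ≤ N) (hQ : IsPGroup p Q) (hbr : BrNe Q (incSub N (bIdem M b))) :
    BrNe Q (bIdem M B) := by
  obtain ⟨θ, hθ⟩ := IsPBlock.nonempty hb
  have hes : IsStableUnder N (incSub N (bIdem M b)) := isStableUnder_incSub (isClassElt_bIdem b)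
  have hus := (isClassElt_bIdem (M := M) B).stable N
  have hcomm : bIdem M B * incSub N (bIdem M b) = incSub N (bIdem M b) * bIdem M B :=
    (incSub_mul_comm_of_stable hus _).symm
  obtain ⟨c, hc, hlam⟩ : ∃ c, IsStableUnder N c ∧
      lam M θ (resSub N (bIdem M B * incSub N (bIdem M b) * c)) ≠ 0 := by
    by_contra hh
    push Not at hh
    refine hne (idem_eq_zero_of_lam hb hθ (hus.mul hes) ?_ ?_ hh)
    · calc bIdem M B * incSub N (bIdem M b) * (bIdem M B * incSub N (bIdem M b))
          = bIdem M B * (incSub N (bIdem M b) * bIdem M B) * incSub N (bIdem M b) := by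
            simp only [mul_assoc]
        _ = bIdem M B * bIdem M B * (incSub N (bIdem M b) * incSub N (bIdem M b)) := by
            rw [← hcomm]; simp only [mul_assoc]
        _ = _ := by rw [bIdem_sq hB, ← map_mul, bIdem_sq hb]
    · rw [hcomm, ← mul_assoc, ← map_mul, bIdem_sq hb]
  rw [mul_assoc] at hlam
  set d := incSub N (bIdem M b) * c
  have hd : IsStableUnder N d := hes.mul hc
  have h1 : BrNe (Q.subgroupOf N) (resSub N (bIdem M B * d)) := by
    refine brNe_of_lam_ne_zero hM hb hθ (hus.mul hd).isClassElt_resSub hlam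
      (hQ.of_equiv (Subgroup.subgroupOfEquivOfLe hQN).symm) ?_
    exact (brNe_subgroupOf_iff hQN (fun g hg => coeff_incSub_notMem _ _ hg)
      fun t => (coeff_incSub_mem _ _ t).symm).mpr hbr
  obtain ⟨n, hn, hne'⟩ := h1
  refine (brNe_iff Q _).mpr fun h0 => hne' ?_
  have hnC : (n : G) ∈ Subgroup.centralizer (Q : Set G) := Subgroup.mem_centralizer_iff.mpr fun s hs =>
    congrArg Subtype.val (Subgroup.mem_centralizer_iff.mp hn ⟨s, hQN hs⟩ hs)
  have hz := resSub_mul (red_p hM) hQ (hus.mono hQN) (hd.mono hQN)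
  rw [h0, zero_mul] at hz
  have := congrArg (fun v : MonoidAlgebra (ResF M) (Subgroup.centralizer (Q : Set G)) => v.coeff ⟨n, hnC⟩) hz
  simpa using this

/-- The idempotents of a covering and a covered block are not orthogonal. -/
theorem bIdem_mul_incSub_ne (hM : IsPModular p M) {B : Set (IrrCharacter G)} (hB : IsPBlock M B)
    {b : Set (IrrCharacter N)} (hb : IsPBlock M b) {χ : IrrCharacter G} (hχ : χ ∈ B) {θ : IrrCharacter N}
    (hθ : θ ∈ b) (hc : classInner (fun n : N => (χ : G → ℂ) n) (θ : N → ℂ) ≠ 0) :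
    bIdem M B * incSub N (bIdem M b) ≠ 0 := by
  intro h0
  have hU := cjStable_cjUnion (G := G) b
  have hbu := isBlockUnion_cjUnion (G := G) hb
  set U := cjUnion (G := G) b with hUdef
  have hz := incSub_blockE_mem (M := M) hU hbu
  have hzero : ∀ b' ∈ (blocks N M).filter (· ⊆ U), bIdem M B * incSub N (bIdem M b') = 0 := by
    intro b' hb'
    obtain ⟨hb'1, hb'2⟩ := Finset.mem_filter.mp hb'
    have hP := mem_blocks.mp hb'1
    obtain ⟨ψ, hψ⟩ := IsPBlock.nonempty hP
    obtain ⟨g, hg⟩ := hb'2 hψ
    have heq : b' = pullBlock (MulAut.conjNormal g⁻¹ : N ≃* N) b := by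
      refine IsPBlock.eq_of_mem hP (isPBlock_pull _ hb) hψ ?_
      have h2 := (mem_pullBlock (MulAut.conjNormal g⁻¹ : N ≃* N) b (cjIrr ψ g)).mpr hg
      rwa [show irrPull (MulAut.conjNormal g⁻¹ : N ≃* N) (cjIrr ψ g) = cjIrr (cjIrr ψ g) g⁻¹ from rfl,
        cjIrr_cjIrr, mul_inv_cancel, cjIrr_one] at h2
    have hcj : incSub N (bIdem M b') = cjE g (incSub N (bIdem M b)) := by
      refine gr_ext fun x => ?_
      rw [coeff_cjE]
      by_cases hx : x ∈ N
      · have hx' : g⁻¹ * x * g ∈ N := by simpa using hN.conj_mem x hx g⁻¹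
        rw [show x = ((⟨x, hx⟩ : N) : G) from rfl, coeff_incSub_mem, heq, bIdem_pull _ hb, coeff_pullElt,
          ← coeff_incSub_mem]
        congr 1
        simp [mul_assoc]
      · have hx' : g⁻¹ * x * g ∉ N := fun h' => hx (by simpa [mul_assoc] using hN.conj_mem _ h' g)
        rw [coeff_incSub_notMem _ _ hx, coeff_incSub_notMem _ _ hx']
    have hself : cjE g (bIdem M B) = bIdem M B := gr_ext fun x => by
      rw [coeff_cjE]
      have := isClassElt_bIdem (M := M) B g⁻¹ x
      rwa [inv_inv] at this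
    rw [hcj]
    conv_lhs => arg 1; rw [← hself]
    rw [← cjE_mul, h0]
    exact gr_ext fun x => by rw [coeff_cjE]; simp
  have hsum : redG M (incSub N (blockE U)) = ∑ b' ∈ (blocks N M).filter (· ⊆ U), incSub N (bIdem M b') := by
    refine gr_ext fun x => ?_
    rw [gr_sum_apply, coeff_redG]
    by_cases hx : x ∈ N
    · rw [show x = ((⟨x, hx⟩ : N) : G) from rfl, coeff_incSub_mem,
        Finset.sum_congr rfl fun b' _ => coeff_incSub_mem N (bIdem M b') (⟨x, hx⟩ : N)]
      rw [coeff_blockE, blockCoeff_union hbu, red_sum _ fun b' hb' => by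
        simpa using blockCoeff_mem_locRing (mem_blocks.mp (Finset.mem_filter.mp hb').1) (⟨x, hx⟩ : N)]
      simp [bIdem]
    · rw [coeff_incSub_notMem _ _ hx, red_zero, Finset.sum_eq_zero fun b' _ => coeff_incSub_notMem _ _ hx]
  have hprod : bIdem M B * redG M (incSub N (blockE U)) = 0 := by
    rw [hsum, Finset.mul_sum, Finset.sum_eq_zero hzero]
  have hl := congrArg (lam M χ) hprod
  rw [lam_mul M χ (isClassElt_bIdem B) (isClassElt_redG M hz.1), lam_bIdem hB, if_pos hχ, one_mul,
    lam_zero, lam_redG M χ hz, omega_incSub_blockE hU χ θ hc, if_pos (subset_cjUnion b hθ), red_one] at hl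
  exact one_ne_zero hl

/-- Knörr's theorem on defect groups of covering blocks. -/
theorem exists_defectGroup_inf_eq (hM : IsPModular p M) {B : Set (IrrCharacter G)} (hB : IsPBlock M B)
    {b : Set (IrrCharacter N)} (hb : IsPBlock M b) {Q : Subgroup G} (hQN : Q ≤ N)
    (hQ : IsDefectGroup p M b (Q.subgroupOf N)) {χ : IrrCharacter G} (hχ : χ ∈ B) {θ : IrrCharacter N}
    (hθ : θ ∈ b) (hc : classInner (fun n : N => (χ : G → ℂ) n) (θ : N → ℂ) ≠ 0) :
    ∃ P : Subgroup G, IsDefectGroup p M B P ∧ P ⊓ N = Q := by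
  have hQp : IsPGroup p Q := (isPGroup_defectGroup hQ).of_equiv (Subgroup.subgroupOfEquivOfLe hQN)
  have hne := bIdem_mul_incSub_ne hM hB hb hχ hθ hc
  have hbrQ : BrNe Q (incSub N (bIdem M b)) :=
    (brNe_subgroupOf_iff hQN (fun g hg => coeff_incSub_notMem _ _ hg)
      fun t => (coeff_incSub_mem _ _ t).symm).mp (brNe_defectGroup hQ)
  obtain ⟨D, hD⟩ := exists_defectGroup hM hB
  obtain ⟨x, hx⟩ := (brNe_bIdem_iff hM hB hD hQp).mp (brNe_of_mul_incSub_ne hM hB hb hne hQN hQp hbrQ)
  set P := conjSub x⁻¹ D with hP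
  have hPd : IsDefectGroup p M B P := IsDefectGroup.conjSub hB hD x⁻¹
  have hQP : Q ≤ P := conjSub_le_iff.mp hx
  have hRp : IsPGroup p (P ⊓ N : Subgroup G) := (isPGroup_defectGroup hPd).to_le inf_le_left
  -- the intersection is kept by a conjugate of `e_b`
  have hbrR : BrNe (P ⊓ N : Subgroup G) (bIdem M B) := (brNe_defectGroup hPd).mono inf_le_left
  have hU := cjStable_cjUnion (G := G) b
  have hbu := isBlockUnion_cjUnion (G := G) hb
  set U := cjUnion (G := G) b
  have hz := incSub_blockE_mem (M := M) hU hbu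
  set E := redG M (incSub N (blockE U)) with hE
  have hEc : IsClassElt E := isClassElt_redG M hz.1
  have hBE : BrNe (P ⊓ N : Subgroup G) E := brNe_of_lam_ne_zero hM hB hχ hEc (by
    rw [hE, lam_redG M χ hz, omega_incSub_blockE hU χ θ hc, if_pos (subset_cjUnion b hθ), red_one]
    exact one_ne_zero) hRp hbrR
  obtain ⟨c, hcC, hcne⟩ := hBE
  have hcN : c ∈ N := by
    by_contra h'
    exact hcne (by rw [hE, coeff_redG, coeff_incSub_notMem _ _ h', red_zero])
  set cN : N := ⟨c, hcN⟩
  rw [hE, coeff_redG, show c = (cN : G) from rfl, coeff_incSub_mem, coeff_blockE] at hcne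
  have hsub : ∃ b' : Set (IrrCharacter N), IsPBlock M b' ∧ b' ⊆ U ∧ red M (blockCoeff b' cN) ≠ 0 := by
    by_contra hh
    push Not at hh
    apply hcne
    rw [blockCoeff_union hbu, red_sum _ fun b' hb' => blockCoeff_mem_locRing (mem_blocks.mp (Finset.mem_filter.mp hb').1) cN]
    exact Finset.sum_eq_zero fun b' hb' =>
      hh b' (mem_blocks.mp (Finset.mem_filter.mp hb').1) (Finset.mem_filter.mp hb').2
  obtain ⟨b', hb', hb'U, hne'⟩ := hsub
  obtain ⟨ψ, hψ⟩ := IsPBlock.nonempty hb'
  obtain ⟨g, hg⟩ := hb'U hψ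
  have heq : b' = pullBlock (MulAut.conjNormal g⁻¹ : N ≃* N) b := by
    refine IsPBlock.eq_of_mem hb' (isPBlock_pull _ hb) hψ ?_
    have h2 := (mem_pullBlock (MulAut.conjNormal g⁻¹ : N ≃* N) b (cjIrr ψ g)).mpr hg
    rwa [show irrPull (MulAut.conjNormal g⁻¹ : N ≃* N) (cjIrr ψ g) = cjIrr (cjIrr ψ g) g⁻¹ from rfl,
      cjIrr_cjIrr, mul_inv_cancel, cjIrr_one] at h2
  have hgc : g⁻¹ * c * g ∈ N := by simpa using hN.conj_mem c hcN g⁻¹
  have hbr' : BrNe (conjSub g⁻¹ (P ⊓ N)) (incSub N (bIdem M b)) := by
    refine ⟨g⁻¹ * c * g, ?_, ?_⟩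
    · rw [mem_centralizer_iff_le] at hcC ⊢
      intro y hy
      rw [mem_conjSub, inv_inv] at hy
      have := hcC hy
      rw [Subgroup.mem_centralizer_singleton_iff] at this ⊢
      calc y * (g⁻¹ * c * g) = g⁻¹ * ((g * y * g⁻¹) * c) * g := by group
        _ = g⁻¹ * (c * (g * y * g⁻¹)) * g := by rw [this]
        _ = _ := by group
    · have h3 : (bIdem M b').coeff cN ≠ 0 := by rw [coeff_bIdem]; exact hne'
      rw [heq, bIdem_pull _ hb, coeff_pullElt, ← coeff_incSub_mem] at h3
      convert h3 using 2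
      simp [cN, mul_assoc]
  have hRN : conjSub g⁻¹ (P ⊓ N) ≤ N := fun y hy => by
    rw [mem_conjSub, inv_inv] at hy
    simpa [mul_assoc] using hN.conj_mem _ hy.2 g⁻¹
  obtain ⟨n, hn⟩ := (brNe_bIdem_iff hM hb hQ
    ((isPGroup_conjSub hRp g⁻¹).of_equiv (Subgroup.subgroupOfEquivOfLe hRN).symm)).mp
    ((brNe_subgroupOf_iff hRN (fun a ha => coeff_incSub_notMem _ _ ha)
      fun t => (coeff_incSub_mem _ _ t).symm).mpr hbr')
  have hcard := Subgroup.card_le_of_le hn
  rw [card_conjSub, card_subgroupOf hRN, card_conjSub, card_subgroupOf hQN] at hcard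
  exact ⟨P, hPd, (Subgroup.eq_of_le_of_card_ge (le_inf hQP hQN) hcard).symm⟩

end Normal

end Cfsg.Lib.Blocks
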