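import Cfsg.Agent.Lib.Blocks.BlockFusion

/-!
# The extended first main theorem and the Brauer correspondence
-/

namespace Cfsg.Lib.Blocks

open Cfsg.Lib.Characters Finset
open Cfsg.FusionSystem (normalizerIn centralizerIn)
open scoped ComplexConjugate Classical Pointwise

set_option linter.unusedSectionVars false
set_option linter.style.haveILetI false
set_option linter.style.longLine false

universe u

variable {G : Type u} [Group G] [Fintype G] {M : Ideal Cfsg.AlgInt} [M.IsPrime]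
variable {p : ℕ} [Fact p.Prime]

local notation "𝐂" Q:max => Subgroup.centralizer ((Q : Subgroup G) : Set G)

/-! ### Characters of the centre seen from a local block -/

/-- Evaluation at a block of `C(Q)` is a reduced central character of any larger subgroup. -/
theorem exists_lam_of_pair (hM : IsPModular p M) {Q H : Subgroup G} (hQ : IsPGroup p Q) (hQH : Q ≤ H)
    (hCH : 𝐂 Q ≤ H) (η : IrrCharacter (𝐂 Q)) :
    ∃ ψ : IrrCharacter H, ∀ u : MonoidAlgebra (ResF M) G, IsStableUnder H u →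
      lam M η (resSub (𝐂 Q) u) = lam M ψ (resSub H u) := by
  let φ : classRing H (ResF M) →+* ResF M :=
    { toFun := fun w => lam M η (resSub (𝐂 Q) (incSub H (w : MonoidAlgebra (ResF M) H)))
      map_one' := by simp [resSub_one]
      map_mul' := fun u v => by
        have hu := isStableUnder_incSub (G := G) u.2
        have hv := isStableUnder_incSub (G := G) v.2
        rw [Subring.coe_mul, map_mul, resSub_mul (red_p hM) hQ (hu.mono hQH) (hv.mono hQH),
          lam_mul M η (hu.mono hCH).isClassElt_resSub (hv.mono hCH).isClassElt_resSub]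
      map_zero' := by simp
      map_add' := fun u v => by simp [lam_add] }
  have hφ : ∀ c, φ (kConst M c) = c := fun c => by
    show lam M η (resSub (𝐂 Q) (incSub H (c • 1))) = c
    have h : resSub (𝐂 Q) (incSub H (c • (1 : MonoidAlgebra (ResF M) H))) = c • 1 := gr_ext fun t => by
      rw [coeff_resSub, show (t : G) = ((⟨t, hCH t.2⟩ : H) : G) from rfl, coeff_incSub_mem,
        gr_smul_apply, gr_smul_apply, gr_one_apply, gr_one_apply]
      congr 1
      refine if_congr ⟨fun h => Subtype.ext (congrArg Subtype.val h :), fun h => ?_⟩ rfl rfl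
      exact Subtype.ext (by simp [h])
    rw [h, lam_smul, lam_one, mul_one]
  obtain ⟨ψ, hψ⟩ := exists_lam_eq_of_hom φ hφ
  refine ⟨ψ, fun u hu => ?_⟩
  rw [← resSub_incSub_resSub hCH u]
  exact hψ ⟨_, hu.isClassElt_resSub⟩

theorem lam_pair_eq (hM : IsPModular p M) {Q H : Subgroup G} (hQ : IsPGroup p Q) (hQH : Q ≤ H)
    (hCH : 𝐂 Q ≤ H) {η : IrrCharacter (𝐂 Q)} {c : Set (IrrCharacter H)} (hc : IsPBlock M c)
    (h : lam M η (resSub (𝐂 Q) (incSub H (bIdem M c))) = 1) {ψ : IrrCharacter H} (hψ : ψ ∈ c)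
    {u : MonoidAlgebra (ResF M) G} (hu : IsStableUnder H u) :
    lam M η (resSub (𝐂 Q) u) = lam M ψ (resSub H u) := by
  obtain ⟨ψ', hψ'⟩ := exists_lam_of_pair hM hQ hQH hCH η
  have h1 := hψ' _ (isStableUnder_incSub (isClassElt_bIdem c))
  rw [h, resSub_incSub, lam_bIdem hc] at h1
  have hmem : ψ' ∈ c := by_contra fun hh => one_ne_zero (h1.trans (if_neg hh))
  rw [hψ' u hu, IsPBlock.lam_eq hc hmem hψ]

/-- An idempotent surviving the Brauer map is one at some block. -/
theorem exists_lam_one_of_brNe (hM : IsPModular p M) {Q : Subgroup G} (hQ : IsPGroup p Q)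
    {u : MonoidAlgebra (ResF M) G} (hQu : IsStableUnder Q u) (hCu : IsStableUnder (𝐂 Q) u)
    (hu : u * u = u) (hbr : BrNe Q u) : ∃ η : IrrCharacter (𝐂 Q), lam M η (resSub (𝐂 Q) u) = 1 := by
  have hcl := hCu.isClassElt_resSub
  have hsq : resSub (𝐂 Q) u * resSub (𝐂 Q) u = resSub (𝐂 Q) u := by
    rw [← resSub_mul (red_p hM) hQ hQu hQu, hu]
  obtain ⟨η, hη⟩ : ∃ η, lam M η (resSub (𝐂 Q) u) ≠ 0 := by
    by_contra hh
    push Not at hh
    exact (brNe_iff Q u).mp hbr
      (idem_eq_of_lam hcl IsClassElt.zero hsq (zero_mul _) fun χ => by rw [hh, lam_zero])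
  refine ⟨η, ?_⟩
  have h1 := congrArg (lam M η) hsq
  rw [lam_mul M η hcl hcl] at h1
  exact mul_left_cancel₀ hη (h1.trans (mul_one _).symm)

theorem incSub_bIdem_sq {H : Subgroup G} {c : Set (IrrCharacter H)} (hc : IsPBlock M c) :
    incSub H (bIdem M c) * incSub H (bIdem M c) = incSub H (bIdem M c) := by
  rw [← map_mul, bIdem_sq hc]

/-- A block with Brauer-map image at `Q` has a pair at `Q`. -/
theorem exists_pair_of_brNe (hM : IsPModular p M) {B : Set (IrrCharacter G)} (hB : IsPBlock M B)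
    {Q : Subgroup G} (hQ : IsPGroup p Q) (h : BrNe Q (bIdem M B)) :
    ∃ e : Set (IrrCharacter (𝐂 Q)), IsBrauerPairOf p M B Q e := by
  obtain ⟨η, hη⟩ := exists_lam_one_of_brNe hM hQ ((isClassElt_bIdem B).stable Q)
    ((isClassElt_bIdem B).stable _) (bIdem_sq hB) h
  refine ⟨blockOf M (η : 𝐂 Q → ℂ), (isBrauerPairOf_iff hM).mpr ⟨hQ, ?_⟩⟩
  exact ((exists_induced_of_mul ⟨η, rfl⟩ (mem_blockOf_self M η)
    (lam_resSub_centralizer_mul hM hQ η)).2 B hB).mpr hη

/-- Pairs at a defect group are maximal. -/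
theorem maximal_of_defect (hM : IsPModular p M) {B : Set (IrrCharacter G)} {P : Subgroup G}
    {e : Set (IrrCharacter (𝐂 P))} (he : IsBrauerPairOf p M B P e) (hP : IsDefectGroup p M B P) :
    IsMaximalBrauerPair p M B P e := by
  refine ⟨he, fun R g hg hle => ?_⟩
  obtain ⟨R', g', hmax, hle'⟩ := exists_maximal_above hM hg
  have hcard := card_defectGroup_eq hM he.2.1 (isDefectGroup_maximal hM hmax) hP
  exact (Subgroup.eq_of_le_of_card_ge (subpairLE_le hle)
    ((Subgroup.card_le_of_le (subpairLE_le hle')).trans hcard.le)).symm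

theorem exists_maximal_of_defect (hM : IsPModular p M) {B : Set (IrrCharacter G)} (hB : IsPBlock M B)
    {P : Subgroup G} (hP : IsDefectGroup p M B P) :
    ∃ e : Set (IrrCharacter (𝐂 P)), IsMaximalBrauerPair p M B P e := by
  obtain ⟨e, he⟩ := exists_pair_of_brNe hM hB (isPGroup_defectGroup hP) (brNe_defectGroup hP)
  exact ⟨e, maximal_of_defect hM he hP⟩

/-! ### Largest subgroups kept by the Brauer map -/

theorem brNe_sup {Q S : Subgroup G} {f : Set (IrrCharacter (𝐂 Q))} (h : BrNe S (subE M Q f)) :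
    BrNe (Q ⊔ S : Subgroup G) (subE M Q f) := by
  obtain ⟨c, hc, hne⟩ := h
  have hcQ : c ∈ 𝐂 Q := by_contra fun h => hne (coeff_subE_notMem Q f h)
  exact ⟨c, mem_centralizer_iff_le.mpr
    (sup_le (mem_centralizer_iff_le.mp hcQ) (mem_centralizer_iff_le.mp hc)), hne⟩

theorem brNe_self {Q : Subgroup G} {f : Set (IrrCharacter (𝐂 Q))} (hf : IsPBlock M f) :
    BrNe Q (subE M Q f) := by
  refine (brNe_iff _ _).mpr fun h0 => ?_
  obtain ⟨η, hη⟩ := IsPBlock.nonempty hf
  have h := lam_bIdem hf η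
  rw [if_pos hη, show bIdem M f = 0 by rw [← h0, subE, resSub_incSub], lam_zero] at h
  exact zero_ne_one h

theorem isBrMax_of_isMaxIn {H P T : Subgroup G} {e : Set (IrrCharacter (𝐂 P))}
    (he : IsBrauerPair p M P e) (hmax : IsMaxIn M p H P e) (hPT : P ≤ T)
    (hT : T ≤ pairStab M H P e) : IsBrMax p T (subE M P e) P := by
  refine ⟨he.1, hPT, brNe_self he.2, fun S hS hST hbr => ?_⟩
  have h := hmax (P ⊔ S) (he.1.to_sup_of_normal_left' hS fun x hx => (hT (hST hx)).2.1) le_sup_left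
    ((sup_le hPT hST).trans hT) (brNe_sup hbr)
  exact Subgroup.card_le_of_le (le_sup_right.trans h.le)

theorem isMaxIn_of_isBrMax {H P : Subgroup G} {e : Set (IrrCharacter (𝐂 P))}
    (h : IsBrMax p (pairStab M H P e) (subE M P e) P) : IsMaxIn M p H P e := fun R hR hPR hRT hbr =>
  (Subgroup.eq_of_le_of_card_ge hPR (h.2.2.2 R hR hRT hbr)).symm

theorem local_le_pairStab (P : Subgroup G) (e : Set (IrrCharacter (𝐂 P))) :
    P ⊔ 𝐂 P ≤ pairStab M ⊤ P e :=
  sup_le (le_pairStab_self le_top e) (centralizer_le_pairStab P e)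

/-! ### Blocks of `P C(P)` -/

theorem local_le_normalizer (P : Subgroup G) : P ⊔ 𝐂 P ≤ Subgroup.normalizer (P : Set G) :=
  sup_le Subgroup.le_normalizer (Subgroup.centralizer_le_normalizer _)

theorem exists_pair_of_localBlock (hM : IsPModular p M) {P : Subgroup G} (hP : IsPGroup p P)
    {b : Set (IrrCharacter ↥(P ⊔ 𝐂 P))} (hb : IsPBlock M b) :
    ∃ e : Set (IrrCharacter (𝐂 P)), IsPBlock M e ∧
      (∀ t : ↥(P ⊔ 𝐂 P), (bIdem M b).coeff t = (subE M P e).coeff (t : G)) ∧
      ∀ t : ↥(P ⊔ 𝐂 P), blockCoeff b t = subgroupBlockCoeff (𝐂 P) e (t : G) := by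
  haveI : (P.subgroupOf (P ⊔ 𝐂 P)).Normal :=
    (Subgroup.normal_subgroupOf_iff_le_normalizer le_sup_left).mpr (local_le_normalizer P)
  have hbr : BrNe P (incSub (P ⊔ 𝐂 P) (bIdem M b)) :=
    (brNe_subgroupOf_iff le_sup_left (fun g hg => coeff_incSub_notMem _ _ hg)
      fun t => (coeff_incSub_mem _ _ t).symm).mp
      (brNe_bIdem_normal hM hb (hP.comap_of_injective _ (Subgroup.subtype_injective _)))
  have hst := isStableUnder_incSub (G := G) (isClassElt_bIdem (M := M) b)
  obtain ⟨η, hη⟩ := exists_lam_one_of_brNe hM hP (hst.mono le_sup_left) (hst.mono le_sup_right)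
    (incSub_bIdem_sq hb) hbr
  set e := blockOf M (η : 𝐂 P → ℂ)
  have he : IsPBlock M e := ⟨η, rfl⟩
  obtain ⟨F, hF, hcoe, hFb⟩ := exists_block_stab hM ⟨hP, he⟩ le_sup_right le_sup_left
    (local_le_pairStab P e)
  obtain ⟨ψ, hψ⟩ := IsPBlock.nonempty hb
  have h1 : lam M η (resSub (𝐂 P) (incSub (P ⊔ 𝐂 P) (bIdem M F))) = 1 := by
    rw [show resSub (𝐂 P) (incSub (P ⊔ 𝐂 P) (bIdem M F)) = bIdem M e from gr_ext fun c => by
      rw [coeff_resSub, show (c : G) = ((⟨c, le_sup_right (a := P) c.2⟩ : ↥(P ⊔ 𝐂 P)) : G) from rfl,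
        coeff_incSub_mem, hFb, bIdem_eq_subE], lam_bIdem he, if_pos (mem_blockOf_self M η)]
  rw [lam_pair_eq hM hP le_sup_left le_sup_right hb hη hψ
    (isStableUnder_incSub (isClassElt_bIdem F)), resSub_incSub, lam_bIdem hF] at h1
  have hψF : ψ ∈ F := by_contra fun hh => zero_ne_one ((if_neg hh).symm.trans h1)
  have hbF : b = F := IsPBlock.eq_of_mem hb hF hψ hψF
  subst hbF
  exact ⟨e, he, hFb, hcoe⟩

/-- A block of `P C(P)` induces `B` exactly when its pair belongs to `B`. -/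
theorem inducedBlock_local_iff (hM : IsPModular p M) {P : Subgroup G} (hP : IsPGroup p P)
    {b : Set (IrrCharacter ↥(P ⊔ 𝐂 P))} (hb : IsPBlock M b) {e : Set (IrrCharacter (𝐂 P))}
    (he : IsPBlock M e) (hbe : ∀ t : ↥(P ⊔ 𝐂 P), (bIdem M b).coeff t = (subE M P e).coeff (t : G))
    {B : Set (IrrCharacter G)} (hB : IsPBlock M B) :
    IsInducedBlock M (P ⊔ 𝐂 P) b B ↔ IsBrauerPairOf p M B P e := by
  obtain ⟨η, hη⟩ := IsPBlock.nonempty he
  obtain ⟨ψ, hψ⟩ := IsPBlock.nonempty hb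
  obtain ⟨χ, hχ⟩ := IsPBlock.nonempty hB
  have h1 : lam M η (resSub (𝐂 P) (incSub (P ⊔ 𝐂 P) (bIdem M b))) = 1 := by
    rw [show resSub (𝐂 P) (incSub (P ⊔ 𝐂 P) (bIdem M b)) = bIdem M e from gr_ext fun c => by
      rw [coeff_resSub, show (c : G) = ((⟨c, le_sup_right (a := P) c.2⟩ : ↥(P ⊔ 𝐂 P)) : G) from rfl,
        coeff_incSub_mem, hbe, bIdem_eq_subE], lam_bIdem he, if_pos hη]
  rw [isBrauerPairOf_iff hM, and_iff_right hP, isInducedBlock_iff hb hB hψ hχ,
    isInducedBlock_iff he hB hη hχ]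
  exact forall₂_congr fun u hu => by
    rw [lam_pair_eq hM hP le_sup_left le_sup_right hb h1 hψ (hu.stable _)]

theorem conj_mem_local {P : Subgroup G} {n : G} (hn : n ∈ Subgroup.normalizer (P : Set G)) :
    n ∈ Subgroup.normalizer ((P ⊔ 𝐂 P : Subgroup G) : Set G) := by
  have key : ∀ m ∈ Subgroup.normalizer (P : Set G), ∀ a ∈ P ⊔ 𝐂 P, m * a * m⁻¹ ∈ P ⊔ 𝐂 P := by
    intro m hm a ha
    have h : (P ⊔ 𝐂 P).map (MulAut.conj m).toMonoidHom ≤ P ⊔ 𝐂 P := by
      rw [Subgroup.map_sup]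
      refine sup_le ?_ ?_
      · rintro _ ⟨b, hb, rfl⟩
        exact Subgroup.mem_sup_left ((Subgroup.mem_normalizer_iff.mp hm b).mp hb)
      · rintro _ ⟨b, hb, rfl⟩
        exact Subgroup.mem_sup_right
          ((Subgroup.mem_normalizer_iff.mp (normalizer_le_normalizer_centralizer' P hm) b).mp hb)
    exact h ⟨a, ha, rfl⟩
  rw [Subgroup.mem_normalizer_iff]
  intro a
  refine ⟨key n hn a, fun h => ?_⟩
  simpa [mul_assoc] using key n⁻¹ (inv_mem hn) _ h

/-- Conjugate pairs give conjugate blocks of `P C(P)`. -/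
theorem pullBlock_local_iff {P : Subgroup G} {b b' : Set (IrrCharacter ↥(P ⊔ 𝐂 P))}
    (hb : IsPBlock M b) (hb' : IsPBlock M b') {e e' : Set (IrrCharacter (𝐂 P))}
    (hbe : ∀ t : ↥(P ⊔ 𝐂 P), (bIdem M b).coeff t = (subE M P e).coeff (t : G))
    (hbe' : ∀ t : ↥(P ⊔ 𝐂 P), (bIdem M b').coeff t = (subE M P e').coeff (t : G)) {n : G}
    (hn : n ∈ Subgroup.normalizer ((P ⊔ 𝐂 P : Subgroup G) : Set G)) :
    pullBlock (normConj (P ⊔ 𝐂 P) hn) b = b' ↔ subE M P e = cjE n (subE M P e') := by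
  constructor
  · intro h
    refine gr_ext fun g => ?_
    rw [coeff_cjE]
    by_cases hg : g ∈ P ⊔ 𝐂 P
    · have hg' : n⁻¹ * g * n ∈ P ⊔ 𝐂 P := by
        simpa using (Subgroup.mem_normalizer_iff.mp (inv_mem hn) g).mp hg
      have h2 := congrArg (fun v : MonoidAlgebra (ResF M) ↥(P ⊔ 𝐂 P) => v.coeff ⟨_, hg'⟩)
        (congrArg (bIdem M) h)
      simp only [bIdem_pull _ hb, coeff_pullElt, hbe, hbe', coe_conjEquiv] at h2
      rw [← h2]
      congr 1
      group
    · rw [coeff_subE_notMem P e fun h => hg (Subgroup.mem_sup_right h), coeff_subE_notMem P e' ?_]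
      intro h'
      apply hg
      have := (Subgroup.mem_normalizer_iff.mp hn _).mp (Subgroup.mem_sup_right (S := P) h')
      simpa [mul_assoc] using this
  · intro h
    refine eq_of_bIdem_eq (isPBlock_pull _ hb) hb' (gr_ext fun t => ?_)
    rw [bIdem_pull _ hb, coeff_pullElt, hbe, hbe', coe_conjEquiv, h, coeff_cjE]
    congr 1
    group

/-! ### The extended first main theorem -/

theorem extended_first_main (hM : IsPModular p M) {B : Set (IrrCharacter G)} (hB : IsPBlock M B)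
    {P : Subgroup G} (hP : IsDefectGroup p M B P) :
    (∃ b : Set (IrrCharacter ↥(P ⊔ 𝐂 P)),
      IsDefectGroup p M b (P.subgroupOf (P ⊔ 𝐂 P)) ∧ IsInducedBlock M (P ⊔ 𝐂 P) b B) ∧
    ∀ b b' : Set (IrrCharacter ↥(P ⊔ 𝐂 P)),
      IsInducedBlock M (P ⊔ 𝐂 P) b B → IsInducedBlock M (P ⊔ 𝐂 P) b' B →
      ∃ n ∈ Subgroup.normalizer (P : Set G), ∃ hn : n ∈ Subgroup.normalizer ((P ⊔ 𝐂 P : Subgroup G) : Set G),
        pullBlock (normConj (P ⊔ 𝐂 P) hn) b = b' := by
  have hp := isPGroup_defectGroup hP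
  refine ⟨?_, fun b b' hb hb' => ?_⟩
  · obtain ⟨e, hmax⟩ := exists_maximal_of_defect hM hB hP
    obtain ⟨F, hF, hcoe, hFb⟩ := exists_block_stab hM hmax.1.1 le_sup_right le_sup_left
      (local_le_pairStab P e)
    refine ⟨F, (isDefectGroup_stab_iff hM le_sup_right hF hcoe le_sup_left).mpr ?_,
      (inducedBlock_local_iff hM hp hF hmax.1.1.2 hFb hB).mpr hmax.1⟩
    exact isBrMax_of_isMaxIn hmax.1.1 (isMaxIn_of_maximal hM hmax ⊤) le_sup_left (local_le_pairStab P e)
  · obtain ⟨e, he, hbe, -⟩ := exists_pair_of_localBlock hM hp hb.1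
    obtain ⟨e', he', hbe', -⟩ := exists_pair_of_localBlock hM hp hb'.1
    have hpair := (inducedBlock_local_iff hM hp hb.1 he hbe hB).mp hb
    have hpair' := (inducedBlock_local_iff hM hp hb'.1 he' hbe' hB).mp hb'
    obtain ⟨x, hx⟩ := maximal_conj hM (maximal_of_defect hM hpair hP) (maximal_of_defect hM hpair' hP)
    have hxN : x ∈ Subgroup.normalizer (P : Set G) := by
      rw [Subgroup.mem_normalizer_iff]
      intro a
      conv_rhs => rw [show P = P.map (MulAut.conj x).toMonoidHom from congrArg Sigma.fst hx, mem_map_conj]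
      simp [mul_assoc]
    refine ⟨x, hxN, conj_mem_local hxN, (pullBlock_local_iff hb.1 hb'.1 hbe hbe' _).mpr ?_⟩
    rw [subE_eq_of_idx hx, subE_conjBlock he']

/-- The defect group persists exactly when the index in the stabilizer is prime to `p`. -/
theorem defect_iff_index (hM : IsPModular p M) {P : Subgroup G} (hP : IsPGroup p P)
    {b : Set (IrrCharacter ↥(P ⊔ 𝐂 P))} (hb : IsPBlock M b)
    (hbP : IsDefectGroup p M b (P.subgroupOf (P ⊔ 𝐂 P))) {e : Set (IrrCharacter (𝐂 P))}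
    (he : IsPBlock M e) (hbe : ∀ t : ↥(P ⊔ 𝐂 P), (bIdem M b).coeff t = (subE M P e).coeff (t : G))
    (hcoe : ∀ t : ↥(P ⊔ 𝐂 P), blockCoeff b t = subgroupBlockCoeff (𝐂 P) e (t : G))
    {B : Set (IrrCharacter G)} (hind : IsInducedBlock M (P ⊔ 𝐂 P) b B) :
    IsDefectGroup p M B P ↔ ¬ p ∣ (P ⊔ 𝐂 P).relIndex (pairStab M ⊤ P e) := by
  set T := pairStab M ⊤ P e with hT
  have hpair := (inducedBlock_local_iff hM hP hb he hbe hind.2.1).mp hind
  have hLT : P ⊔ 𝐂 P ≤ T := local_le_pairStab P e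
  have hbr := (isDefectGroup_stab_iff hM le_sup_right hb hcoe le_sup_left).mp hbP
  have hTN : T ≤ Subgroup.normalizer (P : Set G) := pairStab_le_normalizer e
  have haut : ∀ X : Subgroup G, 𝐂 P ≤ X → X ≤ Subgroup.normalizer (P : Set G) →
      Nat.card (autInducedBy X P) = (𝐂 P).relIndex X := by
    intro X hCX hX
    refine Nat.eq_of_mul_eq_mul_right (Nat.card_pos : 0 < Nat.card (centralizerIn X P)) ?_
    rw [Fusion.card_autInducedBy_mul, show normalizerIn X P = X from inf_eq_left.mpr hX,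
      show centralizerIn X P = 𝐂 P from inf_eq_right.mpr hCX]
    rw [Subgroup.relIndex, ← Nat.card_congr (Subgroup.subgroupOfEquivOfLe hCX).toEquiv,
      Subgroup.index_mul_card]
  constructor
  · intro hBP
    have hmax := isMaxIn_of_maximal hM (maximal_of_defect hM hpair hBP) ⊤
    have hD : IsBrMax p T (subE M P e) P :=
      isBrMax_of_isMaxIn hpair.1 hmax (le_sup_left.trans hLT) le_rfl
    have hcard := card_autInd_brMax hM hpair.1 hD
    have hle : Nat.card (autInducedBy P P) = Nat.card (autInducedBy (P ⊔ 𝐂 P : Subgroup G) P) := by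
      refine le_antisymm (Subgroup.card_le_of_le (Fusion.autInducedBy_mono le_sup_left))
        (Subgroup.card_le_of_le fun α hα => ?_)
      obtain ⟨c, hc, hcα⟩ := Fusion.mem_autInducedBy_iff.mp hα
      obtain ⟨a, ha, d, hd, rfl⟩ : ∃ a ∈ P, ∃ d ∈ 𝐂 P, a * d = c := by
        have h' : c ∈ ((P : Set G) * (𝐂 P : Set G) : Set G) := by
          rw [← Subgroup.coe_mul_of_left_le_normalizer_right P (𝐂 P)
            fun a ha => normalizer_le_normalizer_centralizer' P (Subgroup.le_normalizer ha)]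
          exact hc
        obtain ⟨a, ha, d, hd, h⟩ := Set.mem_mul.mp h'
        exact ⟨a, ha, d, hd, h⟩
      refine Fusion.mem_autInducedBy_iff.mpr ⟨a, ha, fun x hx => ?_⟩
      rw [hcα x hx]
      calc a * d * x * (a * d)⁻¹ = a * (d * x) * d⁻¹ * a⁻¹ := by group
        _ = a * x * a⁻¹ := by rw [← Subgroup.mem_centralizer_iff.mp hd x hx]; group
    rw [hle, haut _ le_sup_right (local_le_normalizer P),
      haut _ (le_sup_right.trans hLT) hTN] at hcard
    have hmul := Subgroup.relIndex_mul_relIndex (𝐂 P) (P ⊔ 𝐂 P) T le_sup_right hLT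
    intro hdvd
    have h1 : p ^ (((𝐂 P).relIndex T).factorization p + 1) ∣ (𝐂 P).relIndex T := by
      rw [pow_succ]
      nth_rw 2 [← hmul]
      exact mul_dvd_mul hcard.symm.dvd hdvd
    refine Nat.pow_succ_factorization_not_dvd ?_ (Fact.out : p.Prime) h1
    rw [← haut T (le_sup_right.trans hLT) hTN]
    exact Nat.card_pos.ne'
  · intro hnd
    refine isDefectGroup_maximal hM (maximal_of_isMaxIn hM hpair (isMaxIn_of_isBrMax ?_))
    refine ⟨hP, le_sup_left.trans hLT, brNe_self he, fun S hS hST hbrS => ?_⟩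
    refine hbr.2.2.2 S hS ?_ hbrS
    intro s hs
    haveI : ((P ⊔ 𝐂 P).subgroupOf T).Normal :=
      (Subgroup.normal_subgroupOf_iff_le_normalizer hLT).mpr fun t ht => conj_mem_local (hTN ht)
    let s' : T := ⟨s, hST hs⟩
    obtain ⟨k, hk⟩ := hS ⟨s, hs⟩
    have hk' : s' ^ p ^ k = 1 := Subtype.ext (congrArg Subtype.val hk :)
    have h1 : orderOf (QuotientGroup.mk' ((P ⊔ 𝐂 P).subgroupOf T) s') ∣ p ^ k := by
      refine orderOf_dvd_of_pow_eq_one ?_
      rw [← map_pow, hk', map_one]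
    have h2 : orderOf (QuotientGroup.mk' ((P ⊔ 𝐂 P).subgroupOf T) s')
        ∣ (P ⊔ 𝐂 P).relIndex T := orderOf_dvd_natCard _
    have h3 : orderOf (QuotientGroup.mk' ((P ⊔ 𝐂 P).subgroupOf T) s') = 1 :=
      Nat.eq_one_of_dvd_coprimes
        (((Nat.Prime.coprime_iff_not_dvd Fact.out).mpr hnd).pow_left k) h1 h2
    exact (QuotientGroup.eq_one_iff s').mp (orderOf_eq_one_iff.mp h3)

/-! ### The Brauer correspondence over a subgroup containing the normalizer -/

/-- Conjugate pairs at one subgroup see fixed elements alike. -/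
theorem lam_resSub_conj {P : Subgroup G} {x : G} (hx : x ∈ Subgroup.normalizer (P : Set G))
    {e e' : Set (IrrCharacter (𝐂 P))} (he : IsPBlock M e) (he' : IsPBlock M e')
    (h : subE M P e' = cjE x (subE M P e)) {η η' : IrrCharacter (𝐂 P)} (hη : η ∈ e) (hη' : η' ∈ e')
    {u : MonoidAlgebra (ResF M) G} (hu : ∀ a, u.coeff (x⁻¹ * a * x) = u.coeff a)
    (hcl : IsClassElt (resSub (𝐂 P) u)) :
    lam M η' (resSub (𝐂 P) u) = lam M η (resSub (𝐂 P) u) := by
  rw [cjE_subE_normalizer he hx] at h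
  set f := normConj (𝐂 P) (inv_mem (normalizer_le_normalizer_centralizer' P hx))
  have heq := subE_inj he' (isPBlock_pull f he) h
  have hfix : pullElt f (resSub (𝐂 P) u) = resSub (𝐂 P) u := gr_ext fun c => by
    rw [coeff_pullElt, coeff_resSub, coeff_resSub, coe_conjEquiv, inv_inv, hu]
  have hmem : irrPull f η ∈ pullBlock f e := (mem_pullBlock f e η).mpr hη
  rw [IsPBlock.lam_eq (isPBlock_pull f he) (heq ▸ hη') hmem]
  conv_lhs => rw [← hfix]
  exact lam_pull f η hcl

theorem isMaxIn_of_brMax_block (hM : IsPModular p M) {P H : Subgroup G} (hPH : P ≤ H)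
    (hCH : 𝐂 P ≤ H) {c : Set (IrrCharacter H)} {e : Set (IrrCharacter (𝐂 P))}
    (he : IsBrauerPair p M P e) (hc : IsBrMax p H (incSub H (bIdem M c)) P) {η : IrrCharacter (𝐂 P)}
    (hη : η ∈ e) (h : lam M η (resSub (𝐂 P) (incSub H (bIdem M c))) = 1) : IsMaxIn M p H P e := by
  intro R hR hPR hRT hbr
  have hRH : R ≤ H := fun r hr => (hRT hr).1
  obtain ⟨g, hg⟩ := exists_normal_above hM he hR hPR (fun x hx => (hRT hx).2.1)
    (isStableUnder_iff_cjE.mpr fun x hx => (hRT hx).2.2) hbr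
  obtain ⟨ξ, hξ⟩ := IsPBlock.nonempty hg.2.1.2
  refine (Subgroup.eq_of_le_of_card_ge hPR (hc.2.2.2 R hR hRH ((brNe_iff _ _).mpr fun h0 => ?_))).symm
  have h1 := lam_resSub_of_normal hM hg hRH hCH (isStableUnder_incSub (isClassElt_bIdem c)) hξ hη
  rw [h, h0, lam_zero] at h1
  exact zero_ne_one h1

theorem isDefectGroup_of_maxIn (hM : IsPModular p M) {P H : Subgroup G} (hPH : P ≤ H)
    (hCH : 𝐂 P ≤ H) {c : Set (IrrCharacter H)} (hc : IsPBlock M c) {e : Set (IrrCharacter (𝐂 P))}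
    (he : IsBrauerPair p M P e) (hmax : IsMaxIn M p H P e) {η : IrrCharacter (𝐂 P)} (hη : η ∈ e)
    (h : lam M η (resSub (𝐂 P) (incSub H (bIdem M c))) = 1) :
    IsDefectGroup p M c (P.subgroupOf H) := by
  refine (isDefectGroup_iff_isBrMax hM hc (fun g hg => coeff_incSub_notMem _ _ hg)
    (fun t => (coeff_incSub_mem _ _ t).symm) hPH).mpr ⟨he.1, hPH, (brNe_iff _ _).mpr fun h0 => ?_, ?_⟩
  · rw [h0, lam_zero] at h
    exact zero_ne_one h
  intro S hS hSH hbr
  obtain ⟨ψ, hψ⟩ := IsPBlock.nonempty hc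
  have hu := isStableUnder_orbitSum (M := M) (H := H) e
  have h3 : lam M ψ (resSub H (orbitSum M H P e)) = 1 := by
    rw [← lam_pair_eq hM he.1 hPH hCH hc h hψ hu]
    exact (lam_resSub_orbitSum hM he.1 hPH he.2 hmax).1 η hη
  have hS' := hS.comap_of_injective H.subtype H.subtype_injective
  obtain ⟨d, hd, hne⟩ := brNe_of_lam_ne_zero hM hc hψ hu.isClassElt_resSub
    (by rw [h3]; exact one_ne_zero) hS'
    ((brNe_subgroupOf_iff hSH (fun g hg => coeff_incSub_notMem _ _ hg)
      fun t => (coeff_incSub_mem _ _ t).symm).mpr hbr)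
  rw [coeff_resSub] at hne
  obtain ⟨x, -, hx⟩ := exists_of_coeff_orbitSum_ne hM he.1 hPH hmax hS hSH
    (Subgroup.mem_centralizer_iff.mpr fun s hs =>
      congrArg Subtype.val (Subgroup.mem_centralizer_iff.mp hd ⟨s, hSH hs⟩ hs)) hne
  exact (card_conjSub x S).symm.le.trans (Subgroup.card_le_of_le hx)

/-- Brauer-map images of corresponding blocks agree. -/
theorem resSub_eq_of_correspond (hM : IsPModular p M) {P H : Subgroup G} (hP : IsPGroup p P)
    (hH : Subgroup.normalizer (P : Set G) ≤ H) {c : Set (IrrCharacter H)} (hc : IsPBlock M c)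
    (hcP : IsDefectGroup p M c (P.subgroupOf H)) {B : Set (IrrCharacter G)}
    {e : Set (IrrCharacter (𝐂 P))} (hmax : IsMaximalBrauerPair p M B P e) {η : IrrCharacter (𝐂 P)}
    (hη : η ∈ e) (h : lam M η (resSub (𝐂 P) (incSub H (bIdem M c))) = 1) :
    resSub (𝐂 P) (bIdem M B) = resSub (𝐂 P) (incSub H (bIdem M c)) := by
  have hPH : P ≤ H := Subgroup.le_normalizer.trans hH
  have hCH : 𝐂 P ≤ H := (Subgroup.centralizer_le_normalizer _).trans hH
  have hB := hmax.1.2.1
  obtain ⟨χ, hχ⟩ := IsPBlock.nonempty hB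
  set v := incSub H (bIdem M c) with hv
  have hvst : IsStableUnder H v := isStableUnder_incSub (isClassElt_bIdem c)
  have hvcl : IsClassElt (resSub (𝐂 P) v) := (hvst.mono hCH).isClassElt_resSub
  have hwcl : IsClassElt (resSub (𝐂 P) (bIdem M B)) := (isClassElt_bIdem B).resSub _
  have hvsq : resSub (𝐂 P) v * resSub (𝐂 P) v = resSub (𝐂 P) v := by
    rw [← resSub_mul (red_p hM) hP (hvst.mono hPH) (hvst.mono hPH), hv, incSub_bIdem_sq hc]
  have hwsq : resSub (𝐂 P) (bIdem M B) * resSub (𝐂 P) (bIdem M B) = resSub (𝐂 P) (bIdem M B) := by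
    rw [← resSub_mul (red_p hM) hP ((isClassElt_bIdem B).stable P) ((isClassElt_bIdem B).stable P),
      bIdem_sq hB]
  have h01 : ∀ (η' : IrrCharacter (𝐂 P)) (w : MonoidAlgebra (ResF M) (𝐂 P)), IsClassElt w → w * w = w →
      lam M η' w = 0 ∨ lam M η' w = 1 := fun η' w hw hw2 => by
    have h1 := congrArg (lam M η') hw2
    rw [lam_mul M η' hw hw] at h1
    by_cases h0 : lam M η' w = 0
    · exact Or.inl h0
    · exact Or.inr (mul_left_cancel₀ h0 (h1.trans (mul_one _).symm))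
  have heB : lam M η (resSub (𝐂 P) (bIdem M B)) = 1 := by
    rw [lam_resSub_of_pairOf hM hmax.1 hη hχ (isClassElt_bIdem B), lam_bIdem hB, if_pos hχ]
  have hcbr := (isDefectGroup_iff_isBrMax hM hc (fun g hg => coeff_incSub_notMem _ _ hg)
    (fun t => (coeff_incSub_mem _ _ t).symm) hPH).mp hcP
  have hiff : ∀ η' : IrrCharacter (𝐂 P),
      lam M η' (resSub (𝐂 P) (bIdem M B)) = 1 ↔ lam M η' (resSub (𝐂 P) v) = 1 := by
    intro η'
    set e' := blockOf M (η' : 𝐂 P → ℂ)
    have he' : IsPBlock M e' := ⟨η', rfl⟩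
    constructor
    · intro h1
      have hpair : IsBrauerPairOf p M B P e' := (isBrauerPairOf_iff hM).mpr ⟨hP,
        ((exists_induced_of_mul he' (mem_blockOf_self M η')
          (lam_resSub_centralizer_mul hM hP η')).2 B hB).mpr h1⟩
      obtain ⟨x, hx⟩ := maximal_conj hM
        (maximal_of_defect hM hpair (isDefectGroup_maximal hM hmax)) hmax
      have hxN : x ∈ Subgroup.normalizer (P : Set G) := by
        rw [Subgroup.mem_normalizer_iff]
        intro a
        conv_rhs => rw [show P = P.map (MulAut.conj x).toMonoidHom from congrArg Sigma.fst hx, mem_map_conj]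
        simp [mul_assoc]
      rw [lam_resSub_conj hxN hmax.1.1.2 he' ((subE_eq_of_idx hx).trans (subE_conjBlock hmax.1.1.2 x))
        hη (mem_blockOf_self M η') (fun a => ?_) hvcl]
      · exact h
      · have := hvst x⁻¹ (inv_mem (hH hxN)) a
        rwa [inv_inv] at this
    · intro h1
      obtain ⟨ψ, hψ⟩ := IsPBlock.nonempty hc
      obtain ⟨x, -, hxP, hxE⟩ := isMaxIn_conj hM hP hP hPH hPH hCH hCH hmax.1.1.2 he'
        (isMaxIn_of_maximal hM hmax H)
        (isMaxIn_of_brMax_block hM hPH hCH ⟨hP, he'⟩ hcbr (mem_blockOf_self M η') h1)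
        (fun u hu _ a ha a' ha' => by
          rw [IsPBlock.lam_eq hmax.1.1.2 ha hη, IsPBlock.lam_eq he' ha' (mem_blockOf_self M η'),
            lam_pair_eq hM hP hPH hCH hc h hψ hu, lam_pair_eq hM hP hPH hCH hc h1 hψ hu])
      have hxN : x ∈ Subgroup.normalizer (P : Set G) := by
        rw [Subgroup.mem_normalizer_iff]
        intro a
        conv_rhs => rw [← hxP, mem_map_conj]
        simp [mul_assoc]
      rw [lam_resSub_conj hxN hmax.1.1.2 he' hxE hη (mem_blockOf_self M η') (fun a => ?_) hwcl, heB]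
      have := isClassElt_bIdem (M := M) B x⁻¹ a
      rwa [inv_inv] at this
  refine idem_eq_of_lam hwcl hvcl hwsq hvsq fun η' => ?_
  rcases h01 η' _ hwcl hwsq with h1 | h1
  · rcases h01 η' _ hvcl hvsq with h2 | h2
    · rw [h1, h2]
    · rw [(hiff η').mpr h2, h2]
  · rw [h1, (hiff η').mp h1]

/-- Blocks with the same nonzero Brauer image are equal. -/
theorem block_eq_of_resSub_eq (hM : IsPModular p M) {P H : Subgroup G} (hP : IsPGroup p P)
    (hPH : P ≤ H) {c c' : Set (IrrCharacter H)} (hc : IsPBlock M c) (hc' : IsPBlock M c')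
    (hne : resSub (𝐂 P) (incSub H (bIdem M c)) ≠ 0)
    (h : resSub (𝐂 P) (incSub H (bIdem M c)) = resSub (𝐂 P) (incSub H (bIdem M c'))) : c = c' := by
  by_contra hcc
  apply hne
  have h1 := resSub_mul (red_p hM) hP ((isStableUnder_incSub (isClassElt_bIdem (M := M) c)).mono hPH)
    ((isStableUnder_incSub (isClassElt_bIdem (M := M) c')).mono hPH)
  rw [← map_mul, bIdem_mul hc hc', if_neg hcc, map_zero, map_zero, ← h,
    ← resSub_mul (red_p hM) hP ((isStableUnder_incSub (isClassElt_bIdem (M := M) c)).mono hPH)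
    ((isStableUnder_incSub (isClassElt_bIdem (M := M) c)).mono hPH), incSub_bIdem_sq hc] at h1
  exact h1.symm

theorem eq_top_block_of_resSub_eq (hM : IsPModular p M) {P : Subgroup G} (hP : IsPGroup p P)
    {B B' : Set (IrrCharacter G)} (hB : IsPBlock M B) (hB' : IsPBlock M B') (hbr : BrNe P (bIdem M B))
    (h : resSub (𝐂 P) (bIdem M B) = resSub (𝐂 P) (bIdem M B')) : B = B' := by
  by_contra hne
  apply (brNe_iff _ _).mp hbr
  have h1 := resSub_mul (red_p hM) hP ((isClassElt_bIdem (M := M) B).stable P)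
    ((isClassElt_bIdem (M := M) B').stable P)
  rw [bIdem_mul hB hB', if_neg hne, map_zero, ← h,
    ← resSub_mul (red_p hM) hP ((isClassElt_bIdem (M := M) B).stable P)
    ((isClassElt_bIdem (M := M) B).stable P), bIdem_sq hB] at h1
  exact h1.symm

theorem agree_iff {P H : Subgroup G} (hCH : 𝐂 P ≤ H) {B : Set (IrrCharacter G)} (hB : IsPBlock M B)
    {c : Set (IrrCharacter H)} (hc : IsPBlock M c) :
    (∀ x : G, x ∈ 𝐂 P → MemLocalIdeal M (blockCoeff B x - subgroupBlockCoeff H c x)) ↔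
      resSub (𝐂 P) (bIdem M B) = resSub (𝐂 P) (incSub H (bIdem M c)) := by
  have key : ∀ x : G, x ∈ 𝐂 P →
      (MemLocalIdeal M (blockCoeff B x - subgroupBlockCoeff H c x) ↔
        (bIdem M B).coeff x = (incSub H (bIdem M c)).coeff x) := by
    intro x hx
    rw [memLocalIdeal_sub_iff (blockCoeff_mem_locRing hB x)
        (PrincipalPairs.subgroupBlockCoeff_mem hc x), coeff_bIdem,
      show (incSub H (bIdem M c)).coeff x = ((bIdem M c).coeff ⟨x, hCH hx⟩) from
        coeff_incSub_mem H _ ⟨x, hCH hx⟩, coeff_bIdem, subgroupBlockCoeff, dif_pos (hCH hx)]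
  constructor
  · exact fun h => gr_ext fun t => by rw [coeff_resSub, coeff_resSub, (key t t.2).mp (h t t.2)]
  · intro h x hx
    rw [key x hx]
    simpa [coeff_resSub] using congrArg (fun v : MonoidAlgebra (ResF M) (𝐂 P) => v.coeff ⟨x, hx⟩) h

theorem brauer_correspondence (hM : IsPModular p M) {P H : Subgroup G} (hP : IsPGroup p P)
    (hH : Subgroup.normalizer (P : Set G) ≤ H) :
    (∀ B : Set (IrrCharacter G), IsPBlock M B → IsDefectGroup p M B P →
      ∃! c : Set (IrrCharacter H), IsPBlock M c ∧ IsDefectGroup p M c (P.subgroupOf H) ∧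
        resSub (𝐂 P) (bIdem M B) = resSub (𝐂 P) (incSub H (bIdem M c))) ∧
    ∀ c : Set (IrrCharacter H), IsPBlock M c → IsDefectGroup p M c (P.subgroupOf H) →
      ∃! B : Set (IrrCharacter G), IsPBlock M B ∧ IsDefectGroup p M B P ∧
        resSub (𝐂 P) (bIdem M B) = resSub (𝐂 P) (incSub H (bIdem M c)) := by
  have hPH : P ≤ H := Subgroup.le_normalizer.trans hH
  have hCH : 𝐂 P ≤ H := (Subgroup.centralizer_le_normalizer _).trans hH
  refine ⟨fun B hB hBP => ?_, fun c hc hcP => ?_⟩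
  · obtain ⟨e, hmax⟩ := exists_maximal_of_defect hM hB hBP
    obtain ⟨η, hη⟩ := IsPBlock.nonempty hmax.1.1.2
    obtain ⟨ψ, hψ⟩ := exists_lam_of_pair hM hP hPH hCH η
    set c := blockOf M (ψ : H → ℂ)
    have hc : IsPBlock M c := ⟨ψ, rfl⟩
    have h1 : lam M η (resSub (𝐂 P) (incSub H (bIdem M c))) = 1 := by
      rw [hψ _ (isStableUnder_incSub (isClassElt_bIdem c)), resSub_incSub, lam_bIdem hc,
        if_pos (mem_blockOf_self M ψ)]
    have hcP := isDefectGroup_of_maxIn hM hPH hCH hc hmax.1.1 (isMaxIn_of_maximal hM hmax H) hη h1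
    have heq := resSub_eq_of_correspond hM hP hH hc hcP hmax hη h1
    refine ⟨c, ⟨hc, hcP, heq⟩, ?_⟩
    rintro c' ⟨hc', -, heq'⟩
    refine (block_eq_of_resSub_eq hM hP hPH hc hc' ?_ (heq.symm.trans heq')).symm
    intro h0
    rw [h0, lam_zero] at h1
    exact zero_ne_one h1
  · have hbr := (isDefectGroup_iff_isBrMax hM hc (fun g hg => coeff_incSub_notMem _ _ hg)
      (fun t => (coeff_incSub_mem _ _ t).symm) hPH).mp hcP
    have hvst := isStableUnder_incSub (G := G) (isClassElt_bIdem (M := M) c)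
    obtain ⟨η, hη⟩ := exists_lam_one_of_brNe hM hP (hvst.mono hPH) (hvst.mono hCH)
      (incSub_bIdem_sq hc) hbr.2.2.1
    set e := blockOf M (η : 𝐂 P → ℂ)
    have he : IsBrauerPair p M P e := ⟨hP, η, rfl⟩
    have hmaxH := isMaxIn_of_brMax_block hM hPH hCH he hbr (mem_blockOf_self M η) hη
    obtain ⟨B, hind⟩ := inducedBlockDefined_centralizer hM hP he.2
    have hpair : IsBrauerPairOf p M B P e := (isBrauerPairOf_iff hM).mpr ⟨hP, hind⟩
    have hmax : IsMaximalBrauerPair p M B P e := maximal_of_isMaxIn hM hpair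
      fun R hR hPR hRT hbrR => hmaxH R hR hPR
        (fun r hr => ⟨hH (hRT hr).2.1, (hRT hr).2.1, (hRT hr).2.2⟩) hbrR
    have heq := resSub_eq_of_correspond hM hP hH hc hcP hmax (mem_blockOf_self M η) hη
    refine ⟨B, ⟨hind.2.1, isDefectGroup_maximal hM hmax, heq⟩, ?_⟩
    rintro B' ⟨hB', hB'P, heq'⟩
    exact eq_top_block_of_resSub_eq hM hP hB' hind.2.1 (brNe_defectGroup hB'P) (heq'.trans heq.symm)

end Cfsg.Lib.Blocks
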