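import Cfsg.Agent.Lib.Blocks.FreeNormalizerInvolution

/-!
# Abelian Sylow two-subgroups with a free automizer of order three
-/

namespace Cfsg.Lib.FreeNormalizer

open Cfsg.Lib.Characters Cfsg.Lib.Blocks Finset
open scoped ComplexConjugate Classical

set_option linter.unusedSectionVars false
set_option linter.style.longLine false

universe u

variable {G : Type u} [Group G] [Fintype G]
variable {M : Ideal Cfsg.AlgInt} [M.IsPrime] {P : Sylow 2 G}

/-- Some proper normal subgroup contains `P`. -/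
theorem exists_proper_normal_two [Fact (Nat.Prime 2)] [Fintype (↥(P : Subgroup G) →* ℂˣ)] (h : Hyp P)
    (hM : IsPModular 2 M) (hm : Nat.card (aut P) = 3) (hlt : 4 < Nat.card ↥(P : Subgroup G)) :
    ∃ K : Subgroup G, K.Normal ∧ K ≠ ⊤ ∧ (P : Subgroup G) ≤ K := by
  by_contra hcon
  have hK : ∀ K : Subgroup G, K.Normal → (P : Subgroup G) ≤ K → K = ⊤ := fun K h1 h2 => by
    by_contra hne
    exact hcon ⟨K, h1, hne, h2⟩
  obtain ⟨E, hd, hoth', hone⟩ := exists_exc_three h hM hm hlt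
  obtain ⟨χ₂, χ₃, h23, hpair⟩ := Finset.card_eq_two.mp (show (E.oth.erase (trivChar G)).card = 2 by
    rw [Finset.card_erase_of_mem E.triv_mem_oth, hoth'])
  have hoth : E.oth = {trivChar G, χ₂, χ₃} := by
    rw [← Finset.insert_erase E.triv_mem_oth, hpair]
  have h2t : χ₂ ≠ trivChar G := (Finset.mem_erase.mp (show χ₂ ∈ E.oth.erase (trivChar G) by rw [hpair]; simp)).1
  have h3t : χ₃ ≠ trivChar G := (Finset.mem_erase.mp (show χ₃ ∈ E.oth.erase (trivChar G) by rw [hpair]; simp)).1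
  haveI : Nontrivial ↥(P : Subgroup G) := Finite.one_lt_card_iff_nontrivial.mp (by omega)
  obtain ⟨w₁, hw₁⟩ := exists_ne (1 : ↥(P : Subgroup G))
  obtain ⟨t, ht⟩ := exists_prime_orderOf_dvd_card' (G := ↥(P : Subgroup G)) 2 (by
    obtain ⟨k, hk⟩ := P.isPGroup'.exists_card_eq
    rw [hk] at hlt ⊢
    exact dvd_pow_self 2 (by rintro rfl; simp at hlt))
  rw [← Subgroup.orderOf_coe] at ht
  generalize (t : G) = t at ht
  have hmem2 : χ₂ ∈ E.oth := by rw [hoth]; simp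
  have hmem3 : χ₃ ∈ E.oth := by rw [hoth]; simp
  obtain ⟨hB2, hne2⟩ := E.mem_oth.mp hmem2
  obtain ⟨hB3, hne3⟩ := E.mem_oth.mp hmem3
  obtain ⟨hB1, hne1⟩ := E.mem_oth.mp E.triv_mem_oth
  obtain ⟨n₂, hn₂, hd2⟩ := χ₂.2.exists_degree_pos
  obtain ⟨n₃, hn₃, hd3⟩ := χ₃.2.exists_degree_pos
  have hsum : ∀ f : IrrCharacter G → ℂ, ∑ χ ∈ E.oth, f χ = f (trivChar G) + f χ₂ + f χ₃ := by
    intro f
    rw [hoth, Finset.sum_insert (by simp [h2t.symm, h3t.symm]), Finset.sum_pair h23, add_assoc]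
  have hav1 : E.av (trivChar G) = 1 := E.av_triv hw₁
  have hti : t⁻¹ = t := involution_of_isConj ht (IsConj.refl t)
  have hrel : ∀ w : ↥(P : Subgroup G), w ≠ 1 →
      (∀ a b : G, IsConj t a → IsConj t b → ¬ IsPPart 2 (a * b) (w : G)) →
      1 + (E.av χ₂ : ℂ) * ((χ₂ : G → ℂ) t ^ 2 / n₂) + (E.av χ₃ : ℂ) * ((χ₃ : G → ℂ) t ^ 2 / n₃)
        + ∑ η ∈ E.excS, (η : G → ℂ) t ^ 2 / (η : G → ℂ) 1 * (η : G → ℂ) w = 0 := by
    intro w hw hnp
    have h1 := block_sum_sq_div hM (pow_order w) (fun hh => hw (Subtype.ext hh)) hti hnp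
    rw [E.sum_B0_split, hsum, E.val_X _ hB1 hne1 w hw, E.val_X _ hB2 hne2 w hw,
      E.val_X _ hB3 hne3 w hw, hav1, hd2, hd3, trivChar_apply, trivChar_apply] at h1
    push_cast at h1
    linear_combination h1
  have hcardY := E.card_excS_mul h
  rw [hm] at hcardY
  obtain ⟨η₀, hη₀⟩ := Finset.card_pos.mp (show 0 < E.excS.card by omega)
  obtain ⟨n₄, hn₄, hd4⟩ := η₀.2.exists_degree_pos
  have h1r : ¬ 2 ∣ orderOf (1 : G) := by simp
  have hdeg : ∀ η ∈ E.excS, (η : G → ℂ) 1 = n₄ := fun η hη => by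
    rw [← hd4]; exact E.excS_regular h hM hη hη₀ h1r

  obtain ⟨t₀, ht₀⟩ := exists_isConj_sylow (P := P) (y := t) ⟨1, by rw [ht, pow_one]⟩
  have ht₀1 : t₀ ≠ 1 := fun hh => by
    rw [hh] at ht₀
    have := isConj_one_left.mp ht₀
    simp [this] at ht
  have hcard16 : 16 ≤ Nat.card ↥(P : Subgroup G) := by
    obtain ⟨k, hk⟩ := P.isPGroup'.exists_card_eq
    rw [hk] at hlt hcardY ⊢
    have h3 : 3 ≤ k := by
      by_contra hlt'
      have : 2 ^ k ≤ 2 ^ 2 := Nat.pow_le_pow_right (by norm_num) (by omega)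
      omega
    by_contra hlt'
    have hk3 : k = 3 := by
      by_contra hne
      have : 2 ^ 4 ≤ 2 ^ k := Nat.pow_le_pow_right (by norm_num) (by omega)
      omega
    subst hk3
    omega
  obtain ⟨w, hw1, hw⟩ : ∃ w : ↥(P : Subgroup G), w ≠ 1 ∧
      ∀ e e' : aut P, (e : MulAut ↥(P : Subgroup G)) t₀ * (e' : MulAut ↥(P : Subgroup G)) t₀ ≠ w := by
    let S : Finset ↥(P : Subgroup G) := insert 1 ((univ : Finset (aut P × aut P)).image fun q =>
      (q.1 : MulAut ↥(P : Subgroup G)) t₀ * (q.2 : MulAut ↥(P : Subgroup G)) t₀)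
    have hS : S.card ≤ 10 := by
      refine (Finset.card_insert_le _ _).trans (Nat.succ_le_succ ?_)
      refine Finset.card_image_le.trans ?_
      rw [Finset.card_univ, Fintype.card_prod, ← Nat.card_eq_fintype_card, hm]
    obtain ⟨w, -, hwS⟩ := Finset.exists_mem_notMem_of_card_lt_card (s := S)
      (t := (univ : Finset ↥(P : Subgroup G))) (by rw [Finset.card_univ, ← Nat.card_eq_fintype_card]; omega)
    exact ⟨w, fun hh => hwS (hh ▸ Finset.mem_insert_self _ _), fun e e' hh =>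
      hwS (Finset.mem_insert_of_mem (Finset.mem_image.mpr ⟨(e, e'), Finset.mem_univ _, hh⟩))⟩
  have hnp : ∀ a b : G, IsConj t a → IsConj t b → ¬ IsPPart 2 (a * b) (w : G) := by
    by_cases hsq : w * w = 1
    · exact no_pair_of_products h rfl ht ht₀ hw1 hsq hw
    · exact no_pair_of_sq_ne h hm ht hsq
  have ht₀sq : ∀ e : aut P, ((e : MulAut ↥(P : Subgroup G)) t₀)⁻¹ = (e : MulAut ↥(P : Subgroup G)) t₀ := by
    intro e
    rw [← map_inv]
    congr 1
    exact Subtype.ext (involution_of_isConj ht ht₀)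
  have hw3 : ∀ e e' e'' : aut P, (e : MulAut ↥(P : Subgroup G)) t₀ * (e' : MulAut ↥(P : Subgroup G)) t₀ *
      (e'' : MulAut ↥(P : Subgroup G)) w ≠ 1 := by
    intro e e' e'' hh
    refine hw (e''⁻¹ * e') (e''⁻¹ * e) ((e'' : MulAut ↥(P : Subgroup G)).injective ?_)
    rw [map_mul]
    show (e'' : MulAut ↥(P : Subgroup G)) ((e'' : MulAut ↥(P : Subgroup G)).symm ((e' : MulAut ↥(P : Subgroup G)) t₀)) *
      (e'' : MulAut ↥(P : Subgroup G)) ((e'' : MulAut ↥(P : Subgroup G)).symm ((e : MulAut ↥(P : Subgroup G)) t₀))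
      = (e'' : MulAut ↥(P : Subgroup G)) w
    rw [MulEquiv.apply_symm_apply, MulEquiv.apply_symm_apply, h.comm, eq_inv_of_mul_eq_one_right hh,
      mul_inv_rev, ht₀sq, ht₀sq, h.comm]
  have hval : ∀ χ : IrrCharacter G, (χ : G → ℂ) t = (χ : G → ℂ) t₀ := fun χ => char_eq_of_isConj χ ht₀
  have hr := hrel w hw1 hnp
  rw [hval χ₂, hval χ₃, E.val_X _ hB2 hne2 t₀ ht₀1, E.val_X _ hB3 hne3 t₀ ht₀1,
    Finset.sum_congr rfl fun (η : IrrCharacter G) hη => show (η : G → ℂ) t ^ 2 / (η : G → ℂ) 1 * (η : G → ℂ) w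
      = (1 / (n₄ : ℂ)) * ((η : G → ℂ) t₀ ^ 2 * (η : G → ℂ) w) by rw [hval η, hdeg η hη]; ring,
    ← Finset.mul_sum, sum_three h hm E hd ht₀1 hw1 hw3] at hr
  -- congruences of degrees
  have hq16 : (16 : ℤ) ≤ Nat.card ↥(P : Subgroup G) := by exact_mod_cast hcard16
  have hXdeg : ∀ χ ∈ E.oth, χ ≠ trivChar G → ∀ n : ℕ, 0 < n → (χ : G → ℂ) 1 = n → 15 ≤ n := by
    intro χ hχ hχt n hn hdn
    obtain ⟨hB, hne⟩ := E.mem_oth.mp hχ
    have h1 := cc_eq χ (1 : ↥(P : Subgroup G) →* ℂˣ)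
    rw [E.cc_of_mem_oth χ hχ, if_pos rfl, hdn] at h1
    have h2 : E.av χ * ((Nat.card ↥(P : Subgroup G) : ℤ) - 1)
        = (Nat.card ↥(P : Subgroup G) : ℤ) * coef χ (1 : ↥(P : Subgroup G) →* ℂˣ) - n := by exact_mod_cast h1
    have hn1 : ¬ ((n : ℤ) = 1 ∧ E.av χ = 1) := fun ⟨e1, e2⟩ => by
      have e1' : n = 1 := by exact_mod_cast e1
      have htop := hK (charKer χ.2.isCharacter) (charKer_normal _) fun y hy => by
        rw [mem_charKer, hdn, e1']
        by_cases hy1 : y = 1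
        · rw [hy1, hdn, e1']
        · rw [E.val_X _ hB hne ⟨y, hy⟩ (fun hh => hy1 (congrArg Subtype.val hh)), e2]; simp
      refine hχt (Subtype.ext (funext fun g => ?_))
      have hg := (mem_charKer χ.2.isCharacter).mp (htop ▸ Subgroup.mem_top g)
      rw [hg, hdn, e1', trivChar_apply]; simp
    have hn' : (0 : ℤ) < n := by exact_mod_cast hn
    suffices (15 : ℤ) ≤ n by exact_mod_cast this
    rcases hone χ hχ with e | e <;> rw [e] at h2 hn1
    · rcases lt_trichotomy (coef χ (1 : ↥(P : Subgroup G) →* ℂˣ) - 1) 0 with hk | hk | hk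
      · nlinarith
      · exact absurd ⟨by nlinarith, rfl⟩ hn1
      · nlinarith
    · rcases le_or_gt (coef χ (1 : ↥(P : Subgroup G) →* ℂˣ) + 1) 0 with hk | hk
      · nlinarith
      · nlinarith
  have h15a := hXdeg χ₂ hmem2 h2t n₂ hn₂ hd2
  have h15b := hXdeg χ₃ hmem3 h3t n₃ hn₃ hd3
  have hn4' : (E.sgn = 1 ∧ (n₄ = 3 ∨ 19 ≤ n₄)) ∨ (E.sgn = -1 ∧ 13 ≤ n₄) := by
    have h1 := cc_eq η₀ (1 : ↥(P : Subgroup G) →* ℂˣ)
    rw [E.cc_mu_one h hη₀, hd, hd4, hm] at h1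
    have h2 : (3 : ℤ) * ((E.excS.card : ℤ) * 0 - E.sgn)
        = (Nat.card ↥(P : Subgroup G) : ℤ) * coef η₀ (1 : ↥(P : Subgroup G) →* ℂˣ) - n₄ := by exact_mod_cast h1
    rcases E.sgn_sq with e | e <;> rw [e] at h2
    · refine Or.inl ⟨e, ?_⟩
      rcases lt_trichotomy (coef η₀ (1 : ↥(P : Subgroup G) →* ℂˣ)) 0 with hk | hk | hk
      · have : (0 : ℤ) < n₄ := by exact_mod_cast hn₄
        nlinarith
      · left; rw [hk] at h2; omega
      · right; have : (19 : ℤ) ≤ n₄ := by nlinarith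
        exact_mod_cast this
    · refine Or.inr ⟨e, ?_⟩
      rcases le_or_gt (coef η₀ (1 : ↥(P : Subgroup G) →* ℂˣ)) 0 with hk | hk
      · have : (0 : ℤ) < n₄ := by exact_mod_cast hn₄
        nlinarith
      · have : (13 : ℤ) ≤ n₄ := by nlinarith
        exact_mod_cast this
  have hr' : 1 + (E.av χ₂ : ℝ) * ((E.av χ₂ : ℝ) ^ 2 / n₂) + (E.av χ₃ : ℝ) * ((E.av χ₃ : ℝ) ^ 2 / n₃)
      + 1 / (n₄ : ℝ) * (-9 * (E.sgn : ℝ)) = 0 := by
    have := congrArg Complex.re hr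
    norm_cast at this ⊢
    simpa [Complex.div_natCast_re, Complex.ofReal_re] using this
  have hb : ∀ (a : ℤ) (n : ℕ), (a = 1 ∨ a = -1) → 15 ≤ n → |(a : ℝ) * ((a : ℝ) ^ 2 / n)| ≤ 1 / 15 := by
    intro a n ha hn
    have hn' : (15 : ℝ) ≤ n := by exact_mod_cast hn
    have : |(a : ℝ) * ((a : ℝ) ^ 2 / n)| = 1 / n := by rcases ha with rfl | rfl <;> simp [abs_inv]
    rw [this]
    exact one_div_le_one_div_of_le (by norm_num) hn'
  have b2 := abs_le.mp (hb _ _ (hone χ₂ hmem2) h15a)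
  have b3 := abs_le.mp (hb _ _ (hone χ₃ hmem3) h15b)
  have hpos : (0 : ℝ) < n₄ := by exact_mod_cast hn₄
  rcases hn4' with ⟨e, hc | hc⟩ | ⟨e, hc⟩ <;> rw [e] at hr' <;> push_cast at hr'
  · rw [hc] at hr'; push_cast at hr'; linarith
  · have hc' : (19 : ℝ) ≤ n₄ := by exact_mod_cast hc
    have := one_div_le_one_div_of_le (by norm_num) hc'
    linarith
  · have := one_div_pos.mpr hpos
    linarith

end Cfsg.Lib.FreeNormalizer
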