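import Cfsg.Prelude.Def_Blocks
import Cfsg.Agent.Lib.Characters.Integrality
import Cfsg.Agent.Lib.Characters.Induction
import Cfsg.Agent.Lib.Characters.AbelianInertia

/-!
# p-groups in which irreducible characters of equal degree are Galois conjugate
-/

namespace Cfsg.Lib.Blocks.GaloisConj

open Cfsg Cfsg.Lib.Characters
open scoped Classical commutatorElement

set_option linter.style.longLine false
set_option linter.unusedSectionVars false
set_option autoImplicit false
set_option linter.style.haveILetI false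

universe u

variable {P : Type u} [Group P] [Finite P] {p : ℕ} [Fact p.Prime]

/-- Equal nonlinear degree implies Galois conjugate. -/
def Hyp (P : Type u) [Group P] : Prop :=
  ∀ χ ψ : IrrCharacter P, charDegree (χ : P → ℂ) ≠ 1 → charDegree (χ : P → ℂ) = charDegree (ψ : P → ℂ) →
    ∃ k : ℕ, Nat.Coprime k (Nat.card P) ∧ ∀ g : P, (ψ : P → ℂ) g = (χ : P → ℂ) (g ^ k)

omit [Finite P] in
theorem Hyp.quotient [Finite P] (h : Hyp P) (N : Subgroup P) [N.Normal] : Hyp (P ⧸ N) := by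
  intro χ ψ h1 h2
  let inf : IrrCharacter (P ⧸ N) → IrrCharacter P := fun θ =>
    ⟨fun g => (θ : P ⧸ N → ℂ) g, isIrrCharacter_comp_surjective θ.2 (QuotientGroup.mk' N) (QuotientGroup.mk'_surjective N)⟩
  obtain ⟨k, hk, hk'⟩ := h (inf χ) (inf ψ) h1 h2
  refine ⟨k, hk.coprime_dvd_right (Subgroup.card_quotient_dvd_card N), fun q => ?_⟩
  obtain ⟨g, rfl⟩ := QuotientGroup.mk_surjective q
  exact hk' g

theorem Hyp.ker_le (h : Hyp P) {χ ψ : IrrCharacter P} (h1 : charDegree (χ : P → ℂ) ≠ 1)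
    (h2 : charDegree (χ : P → ℂ) = charDegree (ψ : P → ℂ)) {g : P} (hg : (χ : P → ℂ) g = (χ : P → ℂ) 1) :
    (ψ : P → ℂ) g = (ψ : P → ℂ) 1 := by
  obtain ⟨k, -, hk⟩ := h χ ψ h1 h2
  rw [hk, hk, one_pow]
  exact (charKer χ.2.isCharacter).pow_mem (show g ∈ charKer χ.2.isCharacter from hg) k

theorem deg_spec {χ : P → ℂ} (hχ : IsCharacter P χ) : χ 1 = (charDegree χ : ℂ) := by
  obtain ⟨d, hd⟩ := exists_degree hχ
  rw [charDegree, hd]
  simp

theorem exists_irr_ne {g : P} (hg : g ≠ 1) : ∃ χ : IrrCharacter P, (χ : P → ℂ) g ≠ (χ : P → ℂ) 1 := by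
  haveI : Fintype P := Fintype.ofFinite P
  by_contra! h
  have h0 := sum_degree_mul_irr g
  have h1 := sum_degree_mul_irr (1 : P)
  rw [if_neg hg] at h0
  rw [if_pos rfl] at h1
  rw [Finset.sum_congr rfl fun χ _ => by rw [h χ], h1] at h0
  exact Nat.card_pos.ne' (Nat.cast_eq_zero.1 h0)

theorem apply_commutator_of_linear {χ : IrrCharacter P} (h1 : charDegree (χ : P → ℂ) = 1) {g : P}
    (hg : g ∈ commutator P) : (χ : P → ℂ) g = (χ : P → ℂ) 1 := by
  obtain ⟨f, hf⟩ := exists_hom_of_degree_one χ.2.isCharacter (by rw [deg_spec χ.2.isCharacter, h1, Nat.cast_one])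
  have h2 : f g = 1 := Abelianization.commutator_subset_ker f hg
  simp only [hf, h2, map_one]

theorem linear_of_le_ker {χ : IrrCharacter P} (h : ∀ g ∈ commutator P, (χ : P → ℂ) g = (χ : P → ℂ) 1) :
    charDegree (χ : P → ℂ) = 1 := by
  obtain ⟨ψ, -, hψ, hv⟩ := exists_of_quotient χ.2.isCharacter h
  haveI : IsMulCommutative (P ⧸ commutator P) := ⟨⟨fun a b => @mul_comm (Abelianization P) _ a b⟩⟩
  haveI : Fintype (P ⧸ commutator P) := Fintype.ofFinite _
  have h1 := degree_one_of_isMulCommutative (hψ χ.2)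
  rw [← QuotientGroup.mk_one, hv, deg_spec χ.2.isCharacter] at h1
  exact_mod_cast h1

theorem central_value (χ : IrrCharacter P) {z : P} (hz : z ∈ Subgroup.center P) :
    ∃ ω : ℂ, ‖ω‖ = 1 ∧ ∀ g, (χ : P → ℂ) (z * g) = ω * (χ : P → ℂ) g := by
  haveI : Fintype P := Fintype.ofFinite P
  obtain ⟨d, ρ, hρ, hρχ⟩ := id χ.2
  haveI := hρ
  obtain ⟨ω, hω⟩ := schur_scalar ρ (ρ z) fun g => by
    rw [← map_mul, ← map_mul, Subgroup.mem_center_iff.mp hz g]
  have hm : ∀ g, (χ : P → ℂ) (z * g) = ω * (χ : P → ℂ) g := fun g => by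
    rw [← hρχ]
    show LinearMap.trace ℂ _ (ρ (z * g)) = ω * LinearMap.trace ℂ _ (ρ g)
    rw [map_mul, hω, ← Module.End.one_eq_id, smul_mul_assoc, one_mul, map_smul, smul_eq_mul]
  refine ⟨ω, Complex.norm_eq_one_of_pow_eq_one ?_ (orderOf_pos z).ne', hm⟩
  have hpow : ∀ n : ℕ, (χ : P → ℂ) (z ^ n) = ω ^ n * (χ : P → ℂ) 1 := by
    intro n
    induction n with
    | zero => simp
    | succ n ih => rw [pow_succ', hm, ih, pow_succ']; ring
  have h := hpow (orderOf z)
  rw [pow_orderOf_eq_one] at h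
  exact mul_right_cancel₀ χ.2.one_ne_zero (h.symm.trans (one_mul _).symm)

theorem norm_central (χ : IrrCharacter P) {z : P} (hz : z ∈ Subgroup.center P) :
    ‖(χ : P → ℂ) z‖ = (charDegree (χ : P → ℂ) : ℝ) := by
  obtain ⟨ω, h1, h2⟩ := central_value χ hz
  have := h2 1
  rw [mul_one] at this
  rw [this, norm_mul, h1, one_mul, deg_spec χ.2.isCharacter, Complex.norm_natCast]

/-- A normal subgroup meeting no smaller normal subgroup but the trivial one is central. -/
theorem le_center_of_minimal (hP : IsPGroup p P) (M : Subgroup P) [M.Normal]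
    (hM : ∀ K : Subgroup P, K.Normal → K < M → K = ⊥) : M ≤ Subgroup.center P := by
  haveI := hP.isNilpotent
  rcases lt_or_eq_of_le (Subgroup.commutator_le_left M (⊤ : Subgroup P)) with h | h
  · have h0 := hM _ inferInstance h
    intro x hx
    rw [Subgroup.mem_center_iff]
    intro g
    have := Subgroup.commutator_mem_commutator hx (Subgroup.mem_top g)
    rw [h0, Subgroup.mem_bot, commutatorElement_eq_one_iff_mul_comm] at this
    exact this.symm
  · obtain ⟨n, hn⟩ := (Subgroup.isNilpotent_iff_lowerCentralSeries (⊤ : Subgroup P)).mp (Group.isNilpotent_top.2 inferInstance)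
    have hall : ∀ i, M ≤ (⊤ : Subgroup P).lowerCentralSeries i := by
      intro i
      induction i with
      | zero => exact le_top
      | succ i ih => exact h.ge.trans (Subgroup.commutator_mono ih le_rfl)
    exact (hall n).trans (hn ▸ bot_le)

theorem le_center_of_card (hP : IsPGroup p P) (M : Subgroup P) [M.Normal] (hM : Nat.card M = p) :
    M ≤ Subgroup.center P := by
  refine le_center_of_minimal hP M fun K _ hK => ?_
  rcases (Nat.dvd_prime Fact.out).1 (hM ▸ Subgroup.card_dvd_of_le hK.le) with h | h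
  · exact Subgroup.eq_bot_of_card_eq _ h
  · exact absurd (Subgroup.eq_of_le_of_card_ge hK.le (by rw [h, hM])) hK.ne

theorem le_or_inf_eq_bot {A B : Subgroup P} (hA : Nat.card A = p) : A ≤ B ∨ A ⊓ B = ⊥ := by
  rcases (Nat.dvd_prime Fact.out).1 (hA ▸ Subgroup.card_dvd_of_le (inf_le_left : A ⊓ B ≤ A)) with h | h
  · exact Or.inr (Subgroup.eq_bot_of_card_eq _ h)
  · exact Or.inl (inf_eq_left.1 (Subgroup.eq_of_le_of_card_ge inf_le_left (by rw [h, hA])))

theorem vanish (hP : IsPGroup p P) (hc : Nat.card (commutator P) = p) (χ : IrrCharacter P)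
    (hχ : charDegree (χ : P → ℂ) ≠ 1) {g : P} (hg : g ∉ Subgroup.center P) : (χ : P → ℂ) g = 0 := by
  obtain ⟨h, hh⟩ : ∃ h : P, h * g ≠ g * h := by
    by_contra! hcon
    exact hg (Subgroup.mem_center_iff.2 hcon)
  have hz : ⁅h, g⁆ ∈ commutator P := Subgroup.commutator_mem_commutator (Subgroup.mem_top h) (Subgroup.mem_top g)
  obtain ⟨ω, -, hω⟩ := central_value χ (le_center_of_card hP _ hc hz)
  by_contra h0
  have h1 := hω g
  rw [commutatorElement_def, inv_mul_cancel_right, χ.2.isClassFunction g h] at h1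
  have hω1 : ω = 1 := (mul_right_cancel₀ h0 ((one_mul _).trans h1)).symm
  have hker : ⁅h, g⁆ ∈ charKer χ.2.isCharacter := by
    show (χ : P → ℂ) ⁅h, g⁆ = (χ : P → ℂ) 1
    rw [← mul_one ⁅h, g⁆, hω, hω1, one_mul]
  rcases le_or_inf_eq_bot hc (B := charKer χ.2.isCharacter) with hle | hbot
  · exact hχ (linear_of_le_ker fun x hx => hle hx)
  · have : ⁅h, g⁆ ∈ commutator P ⊓ charKer χ.2.isCharacter := ⟨hz, hker⟩
    rw [hbot, Subgroup.mem_bot, commutatorElement_eq_one_iff_mul_comm] at this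
    exact hh this

theorem degree_sq (hP : IsPGroup p P) (hc : Nat.card (commutator P) = p) (χ : IrrCharacter P)
    (hχ : charDegree (χ : P → ℂ) ≠ 1) : charDegree (χ : P → ℂ) ^ 2 = (Subgroup.center P).index := by
  haveI : Fintype P := Fintype.ofFinite P
  set Z := Subgroup.center P with hZ
  have h := classInner_irr_self χ.2
  rw [classInner, inv_mul_eq_iff_eq_mul₀ (Nat.cast_ne_zero.2 Nat.card_pos.ne'), mul_one] at h
  have h2 : ((∑ g : P, ‖(χ : P → ℂ) g‖ ^ 2 : ℝ) : ℂ) = ((Nat.card P : ℝ) : ℂ) := by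
    push_cast
    rw [← h]
    exact Finset.sum_congr rfl fun g _ => (Complex.mul_conj' _).symm
  have h3 : ∑ g : P, ‖(χ : P → ℂ) g‖ ^ 2 = ∑ g : P, if g ∈ Z then (charDegree (χ : P → ℂ) : ℝ) ^ 2 else 0 :=
    Finset.sum_congr rfl fun g _ => by
      split_ifs with hg
      · rw [norm_central χ hg]
      · rw [vanish hP hc χ hχ hg, norm_zero, zero_pow two_ne_zero]
  rw [h3, ← Finset.sum_filter, Finset.sum_const,
    show (Finset.univ.filter (· ∈ Z)).card = Nat.card Z by
      rw [Nat.card_eq_fintype_card, Fintype.card_subtype], nsmul_eq_mul] at h2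
  have h4 : Nat.card Z * charDegree (χ : P → ℂ) ^ 2 = Nat.card P := by exact_mod_cast h2
  exact Nat.eq_of_mul_eq_mul_left Nat.card_pos (h4.trans (Subgroup.card_mul_index Z).symm)

theorem exists_nonlinear (hc : commutator P ≠ ⊥) : ∃ χ : IrrCharacter P, charDegree (χ : P → ℂ) ≠ 1 := by
  obtain ⟨z, hz, hz1⟩ := (Subgroup.bot_or_exists_ne_one _).resolve_left hc
  obtain ⟨χ, hχ⟩ := exists_irr_ne hz1
  exact ⟨χ, fun h => hχ (apply_commutator_of_linear h hz)⟩

theorem center_isCyclic (hP : IsPGroup p P) (hc : Nat.card (commutator P) = p) (h : Hyp P) :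
    IsCyclic (Subgroup.center P) := by
  haveI : Fintype P := Fintype.ofFinite P
  have hne : commutator P ≠ ⊥ := fun e => by
    rw [e, Subgroup.card_bot] at hc
    exact (Fact.out : p.Prime).ne_one hc.symm
  obtain ⟨χ, hχ⟩ := exists_nonlinear hne
  choose ω hω1 hω using fun z : Subgroup.center P => central_value χ z.2
  let f : Subgroup.center P →* ℂ := {
    toFun := ω
    map_one' := mul_right_cancel₀ χ.2.one_ne_zero (by
      rw [one_mul, ← hω 1 1, OneMemClass.coe_one, one_mul])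
    map_mul' := fun a b => mul_right_cancel₀ χ.2.one_ne_zero (by
      rw [mul_assoc, ← hω b 1, ← hω a, ← hω (a * b) 1, Subgroup.coe_mul, mul_assoc]) }
  refine isCyclic_of_subgroup_isDomain f ?_
  intro a b hab
  by_contra hne'
  have hk : (a : P) * (b : P)⁻¹ ≠ 1 := fun e => hne' (Subtype.ext (mul_inv_eq_one.1 e))
  have hker : (χ : P → ℂ) ((a : P) * (b : P)⁻¹) = (χ : P → ℂ) 1 := by
    rw [← mul_one ((a : P) * (b : P)⁻¹), mul_assoc, hω a, show ω a = ω b from hab, ← hω b, ← mul_assoc, mul_inv_cancel, one_mul]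
  obtain ⟨ψ, hψ⟩ := exists_irr_ne hk
  by_cases hψ1 : charDegree (ψ : P → ℂ) = 1
  · have hone : (ψ : P → ℂ) 1 = 1 := by rw [deg_spec ψ.2.isCharacter, hψ1, Nat.cast_one]
    let θ : IrrCharacter P := ⟨_, isIrrCharacter_mul_linear χ.2 ψ.2.isCharacter hone⟩
    have hθd : charDegree (θ : P → ℂ) = charDegree (χ : P → ℂ) := by
      simp [θ, charDegree, hone]
    have := h.ker_le hχ hθd.symm hker
    simp only [θ, Pi.mul_apply, hone, hker] at this
    exact hψ ((mul_right_cancel₀ χ.2.one_ne_zero this).trans hone.symm)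
  · exact hψ (h.ker_le hχ (Nat.pow_left_injective two_ne_zero
      ((degree_sq hP hc χ hχ).trans (degree_sq hP hc ψ hψ1).symm)) hker)

theorem pow_mem_center (hP : IsPGroup p P) (hc : Nat.card (commutator P) = p) (x : P) :
    x ^ p ∈ Subgroup.center P := by
  rw [Subgroup.mem_center_iff]
  intro y
  have hm : ⁅y, x⁆ ∈ commutator P := Subgroup.commutator_mem_commutator (Subgroup.mem_top y) (Subgroup.mem_top x)
  have hcm : Commute ⁅y, x⁆ x := (Subgroup.mem_center_iff.1 (le_center_of_card hP _ hc hm) x).symm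
  have h1 : y * x * y⁻¹ = ⁅y, x⁆ * x := by rw [commutatorElement_def, inv_mul_cancel_right]
  have h2 : ⁅y, x⁆ ^ p = 1 := by
    have h3 : (⟨⁅y, x⁆, hm⟩ : commutator P) ^ p = 1 := hc ▸ pow_card_eq_one'
    simpa using congrArg Subtype.val h3
  have h3 : (y * x * y⁻¹) ^ p = x ^ p := by rw [h1, hcm.mul_pow, h2, one_mul]
  rw [conj_pow] at h3
  exact mul_inv_eq_iff_eq_mul.1 h3

theorem index_dvd_of_pow_mem (Z : Subgroup P) [IsCyclic Z] (H : Subgroup Z) (h : ∀ z : Z, z ^ p ∈ H) :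
    H.index ∣ p := by
  haveI : H.Normal := by
    haveI : IsMulCommutative Z := inferInstance
    infer_instance
  haveI : IsCyclic (Z ⧸ H) := isCyclic_of_surjective (QuotientGroup.mk' H) (QuotientGroup.mk'_surjective H)
  rw [Subgroup.index_eq_card, ← IsCyclic.exponent_eq_card]
  refine Monoid.exponent_dvd_of_forall_pow_eq_one fun q => ?_
  obtain ⟨z, rfl⟩ := QuotientGroup.mk_surjective q
  rw [← QuotientGroup.mk_pow]
  exact (QuotientGroup.eq_one_iff _).2 (h z)

theorem card_map_mul (N M : Subgroup P) [N.Normal] (hle : N ≤ M) :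
    Nat.card (M.map (QuotientGroup.mk' N)) * Nat.card N = Nat.card M := by
  rw [← Subgroup.relIndex_ker, QuotientGroup.ker_mk', mul_comm, ← Subgroup.relIndex_bot_left N,
    ← Subgroup.relIndex_bot_left M]
  exact Subgroup.relIndex_mul_relIndex ⊥ N M bot_le hle

theorem map_commutator_quotient (N : Subgroup P) [N.Normal] :
    (commutator P).map (QuotientGroup.mk' N) = commutator (P ⧸ N) := by
  rw [commutator_def, commutator_def, Subgroup.map_commutator,
    Subgroup.map_top_of_surjective _ (QuotientGroup.mk'_surjective N)]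

/-- There is only one normal subgroup of index p in the derived subgroup. -/
theorem unique_normal (hP : IsPGroup p P) (h : Hyp P) {N₁ N₂ : Subgroup P} [N₁.Normal] [N₂.Normal]
    (hle₁ : N₁ ≤ commutator P) (hle₂ : N₂ ≤ commutator P)
    (h₁ : Nat.card (commutator (P ⧸ N₁)) = p) (h₂ : Nat.card (commutator (P ⧸ N₂)) = p) : N₁ = N₂ := by
  by_contra hne
  have key : ∀ (N : Subgroup P) [N.Normal], Nat.card (commutator (P ⧸ N)) = p →
      ∃ (Z : Subgroup P) (χ : IrrCharacter P), (∀ x, x ^ p ∈ Z) ∧ N ≤ Z ∧ commutator P ≤ Z ∧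
        (∀ n ∈ N, (χ : P → ℂ) n = (χ : P → ℂ) 1) ∧ charDegree (χ : P → ℂ) ≠ 1 ∧
        charDegree (χ : P → ℂ) ^ 2 = Z.index ∧ ∀ F : Subgroup P, N ≤ F → (∀ z ∈ Z, z ^ p ∈ F) → F.relIndex Z ∣ p := by
    intro N _ hN
    have hQ := hP.to_quotient N
    haveI := center_isCyclic hQ hN (h.quotient N)
    obtain ⟨χ, hχ⟩ := exists_nonlinear (P := P ⧸ N) (fun e => by
      rw [e, Subgroup.card_bot] at hN
      exact (Fact.out : p.Prime).ne_one hN.symm)
    refine ⟨(Subgroup.center (P ⧸ N)).comap (QuotientGroup.mk' N),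
      ⟨fun g => (χ : P ⧸ N → ℂ) g, isIrrCharacter_comp_surjective χ.2 (QuotientGroup.mk' N) (QuotientGroup.mk'_surjective N)⟩,
      fun x => ?_, fun n hn => ?_, ?_, fun n hn => ?_, hχ, ?_, fun F hNF hF => ?_⟩
    · rw [Subgroup.mem_comap, map_pow]
      exact pow_mem_center hQ hN _
    · rw [Subgroup.mem_comap, QuotientGroup.mk'_apply, (QuotientGroup.eq_one_iff n).2 hn]
      exact one_mem _
    · rw [← Subgroup.map_le_iff_le_comap, map_commutator_quotient]
      exact le_center_of_card hQ _ hN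
    · show (χ : P ⧸ N → ℂ) n = (χ : P ⧸ N → ℂ) (1 : P)
      rw [(QuotientGroup.eq_one_iff n).2 hn]
      rfl
    · rw [Subgroup.index_comap_of_surjective _ (QuotientGroup.mk'_surjective N)]
      exact degree_sq hQ hN χ hχ
    · have h1 : F = (F.map (QuotientGroup.mk' N)).comap (QuotientGroup.mk' N) :=
        (Subgroup.comap_map_eq_self (by rwa [QuotientGroup.ker_mk'])).symm
      rw [h1, Subgroup.relIndex_comap, Subgroup.map_comap_eq_self_of_surjective (QuotientGroup.mk'_surjective N)]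
      refine index_dvd_of_pow_mem _ _ fun z => ?_
      obtain ⟨g, hg⟩ := QuotientGroup.mk'_surjective N (z : P ⧸ N)
      rw [Subgroup.mem_subgroupOf, SubgroupClass.coe_pow, ← hg, ← map_pow]
      exact Subgroup.mem_map_of_mem _ (hF g (show QuotientGroup.mk' N g ∈ _ from hg ▸ z.2))
  obtain ⟨Z₁, χ₁, hp₁, hN₁, hc₁, hk₁, hn₁, hd₁, hF₁⟩ := key N₁ h₁
  obtain ⟨Z₂, χ₂, hp₂, hN₂, hc₂, hk₂, hn₂, hd₂, hF₂⟩ := key N₂ h₂
  have hc : ∀ (N : Subgroup P) [N.Normal], N ≤ commutator P → Nat.card (commutator (P ⧸ N)) = p →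
      p * Nat.card N = Nat.card (commutator P) := fun N _ hle hN => by
    rw [← hN, ← map_commutator_quotient]
    exact card_map_mul N _ hle
  have hsup : N₁ ⊔ N₂ = commutator P := by
    have hs : N₁ ⊔ N₂ ≤ commutator P := sup_le hle₁ hle₂
    have e₁ := hc N₁ hle₁ h₁
    obtain ⟨a, ha⟩ := Subgroup.card_dvd_of_le (le_sup_left : N₁ ≤ N₁ ⊔ N₂)
    obtain ⟨b, hb⟩ := Subgroup.card_dvd_of_le hs
    have hab : a * b = p := Nat.eq_of_mul_eq_mul_left Nat.card_pos (by rw [← mul_assoc, ← ha, ← hb, ← e₁, mul_comm])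
    rcases (Nat.dvd_prime Fact.out).1 (Dvd.intro b hab) with ha1 | ha1
    · exfalso
      have hs1 : N₁ = N₁ ⊔ N₂ := Subgroup.eq_of_le_of_card_ge le_sup_left (by rw [ha, ha1, mul_one])
      have h21 : N₂ ≤ N₁ := hs1 ▸ le_sup_right
      exact hne (Subgroup.eq_of_le_of_card_ge h21 (Nat.eq_of_mul_eq_mul_left (Fact.out : p.Prime).pos
        (e₁.trans (hc N₂ hle₂ h₂).symm)).le).symm
    · refine Subgroup.eq_of_le_of_card_ge hs ?_
      rw [ha, ha1, ← e₁, mul_comm]
  by_cases hd : charDegree (χ₁ : P → ℂ) = charDegree (χ₂ : P → ℂ)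
  · refine hn₂ (linear_of_le_ker fun g hg => ?_)
    rw [← hsup] at hg
    exact (sup_le (fun n hn => h.ker_le hn₁ hd (hk₁ n hn)) hk₂ : N₁ ⊔ N₂ ≤ charKer χ₂.2.isCharacter) hg
  · set F := Z₁ ⊓ Z₂ with hF
    have hN₁F : N₁ ≤ F := le_inf hN₁ (hle₁.trans hc₂)
    have hN₂F : N₂ ≤ F := le_inf (hle₂.trans hc₁) hN₂
    have r₁ := hF₁ F hN₁F fun z hz => ⟨Z₁.pow_mem hz p, hp₂ z⟩
    have r₂ := hF₂ F hN₂F fun z hz => ⟨hp₁ z, Z₂.pow_mem hz p⟩
    have e₁ := Subgroup.relIndex_mul_index (inf_le_left : F ≤ Z₁)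
    have e₂ := Subgroup.relIndex_mul_index (inf_le_right : F ≤ Z₂)
    rw [← hd₁] at e₁
    rw [← hd₂, ← e₁] at e₂
    have pr := (Fact.out : p.Prime)
    have h10 : charDegree (χ₁ : P → ℂ) ≠ 0 := fun e => χ₁.2.one_ne_zero (by rw [deg_spec χ₁.2.isCharacter, e, Nat.cast_zero])
    have h20 : charDegree (χ₂ : P → ℂ) ≠ 0 := fun e => χ₂.2.one_ne_zero (by rw [deg_spec χ₂.2.isCharacter, e, Nat.cast_zero])
    rcases (Nat.dvd_prime pr).1 r₁ with a1 | a1 <;> rcases (Nat.dvd_prime pr).1 r₂ with a2 | a2 <;> rw [a1, a2] at e₂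
    · exact hd (Nat.pow_left_injective two_ne_zero (by simpa using e₂.symm))
    · have := congrArg (fun n => n.factorization p) e₂
      simp [Nat.factorization_mul, pr.ne_zero, h10, h20, Nat.factorization_pow, pr.factorization_self] at this
      omega
    · have := congrArg (fun n => n.factorization p) e₂
      simp [Nat.factorization_mul, pr.ne_zero, h10, h20, Nat.factorization_pow, pr.factorization_self] at this
      omega
    · exact hd (Nat.pow_left_injective two_ne_zero (Nat.eq_of_mul_eq_mul_left pr.pos e₂).symm)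

end Cfsg.Lib.Blocks.GaloisConj
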