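import Cfsg.Agent.Lib.Blocks.Idempotents
import Cfsg.Agent.Lib.Blocks.DefectZero
import Cfsg.Agent.Lib.Blocks.Exists

/-!
# The Glauberman correspondence for an operator `p`-group
-/

namespace Cfsg.Lib.Blocks

open Cfsg.Lib.Characters Finset
open scoped ComplexConjugate Classical

set_option linter.unusedSectionVars false
set_option linter.style.haveILetI false
set_option linter.style.longLine false

variable {G : Type*} [Group G] [Fintype G]

/-- Convolution of two irreducible characters. -/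
theorem sum_mul_inv_mul (χ χ' : IrrCharacter G) (c : G) :
    ∑ a, (χ : G → ℂ) a * (χ' : G → ℂ) (a⁻¹ * c)
      = if χ = χ' then (Nat.card G : ℂ) / (χ : G → ℂ) 1 * (χ : G → ℂ) c else 0 := by
  let f : IrrCharacter G → MonoidAlgebra ℂ G := fun φ => gOfFun fun g => (φ : G → ℂ) g⁻¹
  have hf : ∀ φ, IsClassElt (f φ) := fun φ g a => by
    simp only [f, coeff_gOfFun]
    rw [show (g * a * g⁻¹)⁻¹ = g * a⁻¹ * g⁻¹ by group, φ.2.isClassFunction a⁻¹ g]
  have hω : ∀ φ ψ : IrrCharacter G,
      omega ψ (f φ) = if φ = ψ then (Nat.card G : ℂ) / (ψ : G → ℂ) 1 else 0 := by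
    intro φ ψ
    have h := classInner_irr ψ.2 φ.2
    rw [classInner] at h
    have hs : ∑ g, (f φ).coeff g * (ψ : G → ℂ) g
        = ∑ g, (ψ : G → ℂ) g * conj ((φ : G → ℂ) g) := by
      refine Finset.sum_congr rfl fun g _ => ?_
      simp only [f, coeff_gOfFun, char_inv_eq_conj φ.2.isCharacter]
      ring
    have hG : (Nat.card G : ℂ) ≠ 0 := Nat.cast_ne_zero.mpr Nat.card_pos.ne'
    rw [omega, hs]
    rcases eq_or_ne φ ψ with rfl | hne
    · rw [if_pos rfl]
      congr 1
      rw [if_pos rfl] at h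
      simp only [Nat.card_eq_fintype_card] at h hG ⊢
      field_simp at h
      exact h
    · rw [if_neg hne]
      rw [if_neg fun e => hne (Subtype.ext e).symm] at h
      rcases mul_eq_zero.mp h with h | h
      · simp at h
      · rw [h, zero_div]
  have h := coeff_eq_sum_omega ((hf χ).mul (hf χ')) c⁻¹
  rw [gr_mul_apply] at h
  have hl : ∑ a, (χ : G → ℂ) a * (χ' : G → ℂ) (a⁻¹ * c)
      = ∑ a, (f χ).coeff a * (f χ').coeff (a⁻¹ * c⁻¹) := by
    refine (Fintype.sum_equiv (Equiv.inv G) _ _ fun a => ?_).symm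
    simp only [f, coeff_gOfFun, Equiv.inv_apply, inv_inv, mul_inv_rev]
    congr 1
    have := χ'.2.isClassFunction (c * a) a
    rw [← this]
    congr 1
    group
  rw [hl, h]
  have hG : (Nat.card G : ℂ) ≠ 0 := Nat.cast_ne_zero.mpr Nat.card_pos.ne'
  rw [Finset.sum_eq_single χ]
  · rw [omega_mul χ (hf χ) (hf χ'), hω, hω, if_pos rfl, ← char_inv_eq_conj χ.2.isCharacter, inv_inv]
    have := χ.2.one_ne_zero
    rcases eq_or_ne χ χ' with rfl | hne
    · simp only [if_true]; field_simp
    · rw [if_neg (Ne.symm hne), if_neg hne]; ring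
  · intro ψ _ hne
    rw [omega_mul ψ (hf χ) (hf χ'), hω, if_neg hne.symm]; ring
  · simp

variable {S : Type*} [Group S] (φ : S →* MulAut G)

/-- Invariance of a function under a group of operators. -/
def IsInv (χ : G → ℂ) : Prop := ∀ (s : S) (g : G), χ (φ s g) = χ g

variable {p : ℕ} [Fact p.Prime] {M : Ideal Cfsg.AlgInt} [M.IsPrime]
variable {C : Type*} [Group C] [Fintype C] (ι : C →* G)

section Orbit

variable [Finite S] (hS : IsPGroup p S) (hι : Function.Injective ι)
  (hfix : ∀ g : G, (∀ s, φ s g = g) ↔ g ∈ Set.range ι)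

include hS hι hfix

/-- An invariant sum reduces to the sum over the fixed points. -/
theorem sum_inv_eq {R : Type*} [CommRing R] (hR : (p : R) = 0) (f : G → R)
    (hf : ∀ (s : S) (g : G), f (φ s g) = f g) : ∑ g, f g = ∑ c, f (ι c) := by
  letI : MulAction S G := MulAction.compHom G φ
  rw [sum_eq_sum_fixed hS hR f hf]
  symm
  refine Finset.sum_bij (fun c _ => ι c) (fun c _ => ?_) (fun a _ b _ h => hι h) (fun g hg => ?_)
    (fun c _ => rfl)
  · rw [Finset.mem_filter]
    exact ⟨Finset.mem_univ _, fun s => (hfix _).mpr ⟨c, rfl⟩ s⟩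
  · obtain ⟨c, rfl⟩ := (hfix g).mp (Finset.mem_filter.mp hg).2
    exact ⟨c, Finset.mem_univ _, rfl⟩

theorem card_eq_mod (hM : IsPModular p M) : (Nat.card G : ResF M) = (Nat.card C : ResF M) := by
  have := sum_inv_eq φ ι hS hι hfix (R := ResF M) (red_p hM) (fun _ => 1) (fun _ _ => rfl)
  simpa [Nat.card_eq_fintype_card] using this

theorem not_dvd_card_fixed (hM : IsPModular p M) (hp : ¬ p ∣ Nat.card G) : ¬ p ∣ Nat.card C := by
  rw [← natCast_resF_eq_zero hM, ← card_eq_mod φ ι hS hι hfix hM, natCast_resF_eq_zero hM]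
  exact hp

theorem map_fixed (s : S) (c : C) : φ s (ι c) = ι c := (hfix _).mpr ⟨c, rfl⟩ s

/-- An invariant class meets the fixed points, in one class. -/
theorem exists_fixed_conj (hM : IsPModular p M) (hp : ¬ p ∣ Nat.card G) (g : G)
    (hg : ∀ s, IsConj g (φ s g)) : ∃ c, IsConj g (ι c) := by
  by_contra hno
  simp only [not_exists] at hno
  have h := sum_inv_eq φ ι hS hι hfix (R := ResF M) (red_p hM) (fun x => if IsConj g x then 1 else 0)
    (fun s x => by
      refine if_congr ?_ rfl rfl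
      constructor
      · intro h
        have h2 : IsConj (φ s g) (φ s x) := (hg s).symm.trans h
        obtain ⟨a, ha⟩ := isConj_iff.mp h2
        refine isConj_iff.mpr ⟨(φ s).symm a, (φ s).injective ?_⟩
        simpa using ha
      · exact fun h => (hg s).trans ((φ s).toMonoidHom.map_isConj h))
  rw [Finset.sum_eq_zero fun c _ => if_neg (hno c), Finset.sum_boole, card_filter_isConj,
    natCast_resF_eq_zero hM] at h
  exact hp (h.trans (Subgroup.index_dvd_card _))

theorem isConj_of_fixed (hM : IsPModular p M) (hp : ¬ p ∣ Nat.card G) {c c' : C}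
    (h : IsConj (ι c) (ι c')) : IsConj c c' := by
  by_contra hno
  have h0 := sum_inv_eq φ ι hS hι hfix (R := ResF M) (red_p hM)
    (fun x => if x * ι c * x⁻¹ = ι c' then 1 else 0) (fun s x => by
      refine if_congr ?_ rfl rfl
      have h1 := map_fixed φ ι hS hι hfix s c
      have h2 := map_fixed φ ι hS hι hfix s c'
      conv_lhs => rw [← h1, ← h2, ← map_inv, ← map_mul, ← map_mul]
      exact (φ s).injective.eq_iff)
  rw [Finset.sum_eq_zero (s := (Finset.univ : Finset C)) fun a _ => if_neg fun e =>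
    hno (isConj_iff.mpr ⟨a, hι (by rw [map_mul, map_mul, map_inv]; exact e)⟩),
    Finset.sum_boole, natCast_resF_eq_zero hM] at h0
  obtain ⟨a, ha⟩ := isConj_iff.mp h
  have hc : (univ.filter fun x : G => x * ι c * x⁻¹ = ι c').card
      = Nat.card (Subgroup.centralizer ({ι c} : Set G)) := by
    rw [Nat.card_eq_fintype_card, ← Finset.card_univ]
    symm
    refine Finset.card_bij (fun z _ => a * (z : G)) (fun z _ => ?_) (fun x _ y _ hxy => ?_)
      (fun x hx => ?_)
    · rw [Finset.mem_filter]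
      refine ⟨Finset.mem_univ _, ?_⟩
      have hz := Subgroup.mem_centralizer_singleton_iff.mp z.2
      calc a * (z : G) * ι c * (a * (z : G))⁻¹ = a * ((z : G) * ι c) * (z : G)⁻¹ * a⁻¹ := by group
        _ = a * ι c * a⁻¹ := by rw [hz]; group
        _ = ι c' := ha
    · exact Subtype.ext (mul_left_cancel hxy)
    · refine ⟨⟨a⁻¹ * x, ?_⟩, Finset.mem_univ _, by simp⟩
      rw [Subgroup.mem_centralizer_singleton_iff]
      calc a⁻¹ * x * ι c = a⁻¹ * (x * ι c * x⁻¹) * x := by group
        _ = a⁻¹ * (a * ι c * a⁻¹) * x := by rw [(Finset.mem_filter.mp hx).2, ha]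
        _ = ι c * (a⁻¹ * x) := by group
  rw [hc] at h0
  exact hp (h0.trans (Subgroup.card_subgroup_dvd_card _))

end Orbit

/-- Multiplicity of `β` in the restriction of `χ` along `ι`. -/
noncomputable def gMult (χ : IrrCharacter G) (β : IrrCharacter C) : ℕ :=
  if h : ∃ m : ℕ, classInner (fun c => (χ : G → ℂ) (ι c)) (β : C → ℂ) = m then h.choose else 0

theorem gMult_spec (χ : IrrCharacter G) (β : IrrCharacter C) :
    classInner (fun c => (χ : G → ℂ) (ι c)) (β : C → ℂ) = gMult ι χ β := by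
  have h := classInner_nat (isCharacter_comp χ.2.isCharacter ι) β.2.isCharacter
  rw [gMult, dif_pos h]
  exact h.choose_spec

theorem restrict_eq (χ : IrrCharacter G) (c : C) :
    (χ : G → ℂ) (ι c) = ∑ β : IrrCharacter C, (gMult ι χ β : ℂ) * (β : C → ℂ) c := by
  have h := congrFun (classFunction_expansion
    (isClassFunction_of_isCharacter (isCharacter_comp χ.2.isCharacter ι))) c
  simp only [Finset.sum_apply, Pi.smul_apply, smul_eq_mul, gMult_spec] at h
  exact h

/-- Reduced characters of a group of order prime to `p` are independent. -/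
theorem red_irr_independent (hM : IsPModular p M) (hp : ¬ p ∣ Nat.card C) (a : IrrCharacter C → ResF M)
    (h : ∀ c, ∑ β, a β * red M ((β : C → ℂ) c) = 0) : ∀ β, a β = 0 := by
  intro β
  have h1 : ∑ c : C, (∑ δ, a δ * red M ((δ : C → ℂ) c)) * red M ((β : C → ℂ) c⁻¹) = 0 :=
    Finset.sum_eq_zero fun c _ => by rw [h c, zero_mul]
  simp only [Finset.sum_mul] at h1
  rw [Finset.sum_comm] at h1
  have h2 : ∀ δ : IrrCharacter C, ∑ c : C, a δ * red M ((δ : C → ℂ) c) * red M ((β : C → ℂ) c⁻¹)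
      = a δ * if δ = β then (Nat.card C : ResF M) else 0 := by
    intro δ
    have h3 := classInner_irr δ.2 β.2
    rw [classInner] at h3
    have hC : (Fintype.card C : ℂ) ≠ 0 := Nat.cast_ne_zero.mpr Fintype.card_ne_zero
    rw [inv_mul_eq_iff_eq_mul₀ (by simpa [Nat.card_eq_fintype_card] using hC)] at h3
    have h4 := congrArg (red M) h3
    rw [red_sum _ fun c _ => mul_mem (char_mem_locRing M δ c) (by
      rw [← char_inv_eq_conj β.2.isCharacter]; exact char_mem_locRing M β _)] at h4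
    have e : ∑ c : C, a δ * red M ((δ : C → ℂ) c) * red M ((β : C → ℂ) c⁻¹)
        = a δ * ∑ c : C, red M ((δ : C → ℂ) c * conj ((β : C → ℂ) c)) := by
      rw [Finset.mul_sum]
      refine Finset.sum_congr rfl fun c _ => ?_
      rw [← char_inv_eq_conj β.2.isCharacter, red_mul (char_mem_locRing M δ c) (char_mem_locRing M β _),
        mul_assoc]
    rw [e, h4]
    congr 1
    rcases eq_or_ne δ β with rfl | hne
    · rw [if_pos rfl, if_pos rfl, mul_one]; simp [Nat.card_eq_fintype_card, red_natCast]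
    · rw [if_neg fun e => hne (Subtype.ext e), if_neg hne, mul_zero, red_zero]
  rw [Finset.sum_congr rfl fun δ _ => h2 δ, Finset.sum_eq_single β] at h1
  · rw [if_pos rfl] at h1
    refine (mul_eq_zero.mp h1).resolve_right ?_
    rwa [natCast_resF_eq_zero hM]
  · intro δ _ hne; rw [if_neg hne, mul_zero]
  · simp

section Main

variable [Finite S] (hS : IsPGroup p S) (hι : Function.Injective ι)
  (hfix : ∀ g : G, (∀ s, φ s g = g) ↔ g ∈ Set.range ι)

include hS hι hfix

theorem gMult_relations (hM : IsPModular p M) (hp : ¬ p ∣ Nat.card G) {χ χ' : IrrCharacter G}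
    (hχ : IsInv φ (χ : G → ℂ)) (hχ' : IsInv φ (χ' : G → ℂ)) (β : IrrCharacter C) :
    (gMult ι χ β : ResF M) * gMult ι χ' β * ((Nat.card C / charDegree (β : C → ℂ) : ℕ) : ResF M)
      = (if χ = χ' then ((Nat.card G / charDegree (χ : G → ℂ) : ℕ) : ResF M) else 0) * gMult ι χ β := by
  set a : IrrCharacter C → ResF M := fun δ =>
    (gMult ι χ δ : ResF M) * gMult ι χ' δ * ((Nat.card C / charDegree (δ : C → ℂ) : ℕ) : ResF M)
      - (if χ = χ' then ((Nat.card G / charDegree (χ : G → ℂ) : ℕ) : ResF M) else 0) * gMult ι χ δ with ha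
  refine sub_eq_zero.mp (red_irr_independent hM (not_dvd_card_fixed φ ι hS hι hfix hM hp) a ?_ β)
  intro c
  have hq : ∀ (ψ : IrrCharacter C),
      (Nat.card C : ℂ) / (ψ : C → ℂ) 1 = ((Nat.card C / charDegree (ψ : C → ℂ) : ℕ) : ℂ) := by
    intro ψ
    rw [Nat.cast_div (charDegree_dvd_card ψ) (Nat.cast_ne_zero.mpr (charDegree_pos ψ).ne'), coe_charDegree]
  have hqG : ∀ (ψ : IrrCharacter G),
      (Nat.card G : ℂ) / (ψ : G → ℂ) 1 = ((Nat.card G / charDegree (ψ : G → ℂ) : ℕ) : ℂ) := by
    intro ψ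
    rw [Nat.cast_div (charDegree_dvd_card ψ) (Nat.cast_ne_zero.mpr (charDegree_pos ψ).ne'), coe_charDegree]
  have hG := sum_mul_inv_mul χ χ' (ι c)
  have h1 := sum_inv_eq φ ι hS hι hfix (R := ResF M) (red_p hM)
    (fun g => red M ((χ : G → ℂ) g * (χ' : G → ℂ) (g⁻¹ * ι c)))
    (fun s g => by
      rw [hχ s g]
      congr 2
      rw [← map_inv, ← map_fixed φ ι hS hι hfix s c, ← map_mul, hχ' s]
      rw [map_fixed φ ι hS hι hfix s c])
  have hmem : ∀ g, (χ : G → ℂ) g * (χ' : G → ℂ) (g⁻¹ * ι c) ∈ locRing M := fun g =>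
    mul_mem (char_mem_locRing M χ _) (char_mem_locRing M χ' _)
  rw [← red_sum _ fun g _ => hmem g, ← red_sum _ fun d _ => hmem (ι d), hG] at h1
  have hC : ∑ d, (χ : G → ℂ) (ι d) * (χ' : G → ℂ) ((ι d)⁻¹ * ι c)
      = ∑ δ : IrrCharacter C, (gMult ι χ δ : ℂ) * gMult ι χ' δ *
          ((Nat.card C / charDegree (δ : C → ℂ) : ℕ) : ℂ) * (δ : C → ℂ) c := by
    simp only [← map_inv, ← map_mul, restrict_eq ι, Finset.sum_mul_sum]
    rw [Finset.sum_comm]
    refine Finset.sum_congr rfl fun δ _ => ?_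
    rw [Finset.sum_comm, Finset.sum_eq_single δ]
    · rw [Finset.sum_congr rfl (g := fun d => (gMult ι χ δ : ℂ) * gMult ι χ' δ *
        ((δ : C → ℂ) d * (δ : C → ℂ) (d⁻¹ * c))) fun d _ => by ring, ← Finset.mul_sum,
        sum_mul_inv_mul, if_pos rfl, hq]
      ring
    · intro ε _ hne
      rw [Finset.sum_congr rfl (g := fun d => (gMult ι χ δ : ℂ) * gMult ι χ' ε *
        ((δ : C → ℂ) d * (ε : C → ℂ) (d⁻¹ * c))) fun d _ => by ring, ← Finset.mul_sum,
        sum_mul_inv_mul, if_neg hne.symm, mul_zero]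
    · simp
  have hnat : ∀ n : ℕ, (n : ℂ) ∈ locRing M := fun n => natCast_mem (locRing M) n
  rw [hC, red_sum _ fun δ _ => mul_mem (mul_mem (mul_mem (hnat _) (hnat _)) (hnat _)) (char_mem_locRing M δ c)] at h1
  simp only [ha, sub_mul, Finset.sum_sub_distrib]
  rw [sub_eq_zero]
  have hl : ∀ δ : IrrCharacter C, red M ((gMult ι χ δ : ℂ) * gMult ι χ' δ *
      ((Nat.card C / charDegree (δ : C → ℂ) : ℕ) : ℂ) * (δ : C → ℂ) c)
      = (gMult ι χ δ : ResF M) * gMult ι χ' δ * ((Nat.card C / charDegree (δ : C → ℂ) : ℕ) : ResF M)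
        * red M ((δ : C → ℂ) c) := fun δ => by
    rw [red_mul (mul_mem (mul_mem (hnat _) (hnat _)) (hnat _)) (char_mem_locRing M δ c),
      red_mul (mul_mem (hnat _) (hnat _)) (hnat _), red_mul (hnat _) (hnat _), red_natCast, red_natCast,
      red_natCast]
  rw [← Finset.sum_congr rfl fun δ _ => hl δ, ← h1]
  by_cases he : χ = χ'
  · subst he
    rw [if_pos rfl, hqG χ, restrict_eq ι χ c, Finset.mul_sum,
      red_sum _ fun δ _ => mul_mem (hnat _) (mul_mem (hnat _) (char_mem_locRing M δ c))]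
    refine Finset.sum_congr rfl fun δ _ => ?_
    rw [if_pos rfl, red_mul (hnat _) (mul_mem (hnat _) (char_mem_locRing M δ c)),
      red_mul (hnat _) (char_mem_locRing M δ c), red_natCast, red_natCast, mul_assoc]
  · rw [if_neg he, red_zero]
    simp [he]

theorem gMult_norm (hM : IsPModular p M) {χ : IrrCharacter G} (hχ : IsInv φ (χ : G → ℂ)) :
    (Nat.card G : ResF M) = (Nat.card C : ResF M) * ∑ β : IrrCharacter C, (gMult ι χ β : ResF M) ^ 2 := by
  have h1 := sum_inv_eq φ ι hS hι hfix (R := ResF M) (red_p hM)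
    (fun g => red M ((χ : G → ℂ) g * (χ : G → ℂ) (g⁻¹ * 1))) (fun s g => by
      rw [hχ s g]; congr 2; rw [← map_inv, mul_one, mul_one, hχ s])
  have hmem : ∀ g, (χ : G → ℂ) g * (χ : G → ℂ) (g⁻¹ * 1) ∈ locRing M := fun g =>
    mul_mem (char_mem_locRing M χ _) (char_mem_locRing M χ _)
  rw [← red_sum _ fun g _ => hmem g, ← red_sum _ fun d _ => hmem (ι d), sum_mul_inv_mul, if_pos rfl,
    div_mul_cancel₀ _ χ.2.one_ne_zero, red_natCast] at h1
  rw [h1]
  have hC : ∑ d, (χ : G → ℂ) (ι d) * (χ : G → ℂ) ((ι d)⁻¹ * 1)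
      = ((Nat.card C * ∑ β : IrrCharacter C, gMult ι χ β ^ 2 : ℕ) : ℂ) := by
    simp only [← map_inv, mul_one, restrict_eq ι, Finset.sum_mul_sum]
    rw [Finset.sum_comm]
    push_cast
    rw [Finset.mul_sum]
    refine Finset.sum_congr rfl fun δ _ => ?_
    rw [Finset.sum_comm, Finset.sum_eq_single δ]
    · rw [Finset.sum_congr rfl (g := fun d => (gMult ι χ δ : ℂ) * gMult ι χ δ *
        ((δ : C → ℂ) d * (δ : C → ℂ) (d⁻¹ * 1))) fun d _ => by rw [mul_one]; ring, ← Finset.mul_sum,
        sum_mul_inv_mul, if_pos rfl, div_mul_cancel₀ _ δ.2.one_ne_zero]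
      ring
    · intro ε _ hne
      rw [Finset.sum_congr rfl (g := fun d => (gMult ι χ δ : ℂ) * gMult ι χ ε *
        ((δ : C → ℂ) d * (ε : C → ℂ) (d⁻¹ * 1))) fun d _ => by rw [mul_one]; ring, ← Finset.mul_sum,
        sum_mul_inv_mul, if_neg hne.symm, mul_zero]
    · simp
  rw [hC, red_natCast]
  push_cast
  ring

theorem card_le_card_inv (hM : IsPModular p M) (hp : ¬ p ∣ Nat.card G) :
    Nat.card (IrrCharacter C) ≤ Nat.card {χ : IrrCharacter G // IsInv φ (χ : G → ℂ)} := by
  rw [card_irr_eq_card_conjClasses]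
  let σ : S → IrrCharacter G → IrrCharacter G := fun s χ =>
    ⟨fun g => (χ : G → ℂ) ((φ s).symm g),
      isIrrCharacter_comp_surjective χ.2 (φ s).symm.toMonoidHom (φ s).symm.surjective⟩
  letI : MulAction S (IrrCharacter G) :=
    { smul := σ
      one_smul := fun χ => Subtype.ext (funext fun g => by
        show (χ : G → ℂ) ((φ 1).symm g) = _; rw [map_one]; rfl)
      mul_smul := fun s t χ => Subtype.ext (funext fun g => by
        show (χ : G → ℂ) ((φ (s * t)).symm g) = (χ : G → ℂ) ((φ t).symm ((φ s).symm g))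
        rw [map_mul]; rfl) }
  have hsmul : ∀ (s : S) (χ : IrrCharacter G) (g : G),
      ((s • χ : IrrCharacter G) : G → ℂ) g = (χ : G → ℂ) ((φ s).symm g) := fun _ _ _ => rfl
  have hsym : ∀ (s : S) (c : C), (φ s).symm (ι c) = ι c := fun s c => by
    conv_lhs => rw [← map_fixed φ ι hS hι hfix s c, MulEquiv.symm_apply_apply]
  let r : {χ : IrrCharacter G // IsInv φ (χ : G → ℂ)} → ConjClasses C → ResF M :=
    fun χ K => red M ((χ.1 : G → ℂ) (ι K.out))
  have hspan : ⊤ ≤ Submodule.span (ResF M) (Set.range r) := by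
    intro F _
    have hF : F = ∑ K : ConjClasses C, F K • fun L => if L = K then (1 : ResF M) else 0 := by
      funext L; simp
    rw [hF]
    refine Submodule.sum_mem _ fun K _ => Submodule.smul_mem _ _ ?_
    set x := ι K.out with hx
    have hcent : ¬ p ∣ Nat.card (Subgroup.centralizer ({x} : Set G)) := fun hd =>
      hp (hd.trans (Subgroup.card_subgroup_dvd_card _))
    set n : ResF M := ((Nat.card (Subgroup.centralizer ({x} : Set G)) : ℕ) : ResF M) with hn
    have hn0 : n ≠ 0 := by rw [hn, ne_eq, natCast_resF_eq_zero hM]; exact hcent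
    have key : (fun L => if L = K then (1 : ResF M) else 0)
        = ∑ χ : {χ : IrrCharacter G // IsInv φ (χ : G → ℂ)}, (n⁻¹ * red M ((χ.1 : G → ℂ) x⁻¹)) • r χ := by
      funext L
      have h := congrArg (red M) (column_orthogonality (ι L.out) x)
      rw [red_sum _ fun χ _ => mul_mem (char_mem_locRing M χ _) (by
        rw [← char_inv_eq_conj χ.2.isCharacter]; exact char_mem_locRing M χ _)] at h
      have hsum := sum_eq_sum_fixed hS (red_p hM)
        (fun χ : IrrCharacter G => red M ((χ : G → ℂ) (ι L.out) * conj ((χ : G → ℂ) x)))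
        (fun s χ => by simp only [hsmul, hx, hsym])
      rw [hsum] at h
      have hiff : IsConj (ι L.out) x ↔ L = K := by
        constructor
        · intro hc
          have h2 := ConjClasses.mk_eq_mk_iff_isConj.mpr (isConj_of_fixed φ ι hS hι hfix hM hp hc)
          have e : ∀ J : ConjClasses C, ConjClasses.mk J.out = J := fun J => Quotient.out_eq J
          rwa [e, e] at h2
        · rintro rfl; exact IsConj.refl _
      simp only [Finset.sum_apply, Pi.smul_apply, smul_eq_mul, r, mul_assoc, ← Finset.mul_sum]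
      have hrhs : ∑ χ : {χ : IrrCharacter G // IsInv φ (χ : G → ℂ)},
          red M ((χ.1 : G → ℂ) x⁻¹) * red M ((χ.1 : G → ℂ) (ι L.out))
          = if L = K then n else 0 := by
        have h' : (∑ χ ∈ univ.filter (fun χ : IrrCharacter G => ∀ s : S, s • χ = χ),
            red M ((χ : G → ℂ) (ι L.out) * conj ((χ : G → ℂ) x))) = if L = K then n else 0 := by
          rw [h]
          by_cases hc : IsConj (ι L.out) x
          · rw [if_pos hc, if_pos (hiff.mp hc), red_natCast]
          · rw [if_neg hc, if_neg (hiff.not.mp hc), red_zero]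
        rw [← h', ← Finset.sum_subtype (univ.filter fun χ : IrrCharacter G => ∀ s : S, s • χ = χ)
          (p := fun χ : IrrCharacter G => IsInv φ (χ : G → ℂ)) (fun χ => ?_)
          (fun χ => red M ((χ : G → ℂ) x⁻¹) * red M ((χ : G → ℂ) (ι L.out)))]
        · refine Finset.sum_congr rfl fun χ _ => ?_
          rw [← char_inv_eq_conj χ.2.isCharacter, red_mul (char_mem_locRing M χ _) (char_mem_locRing M χ _)]
          ring
        · simp only [Finset.mem_filter, Finset.mem_univ, true_and]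
          constructor
          · intro hfx s g
            have := congrFun (congrArg Subtype.val (hfx s)) (φ s g)
            rw [hsmul, MulEquiv.symm_apply_apply] at this
            exact this.symm
          · intro hinv s
            refine Subtype.ext (funext fun g => ?_)
            rw [hsmul, ← hinv s ((φ s).symm g), MulEquiv.apply_symm_apply]
      rw [hrhs]
      split_ifs
      · rw [inv_mul_cancel₀ hn0]
      · rw [mul_zero]
    rw [key]
    exact Submodule.sum_mem _ fun χ _ => Submodule.smul_mem _ _ (Submodule.subset_span ⟨χ, rfl⟩)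
  have h := finrank_range_le_card (R := ResF M) r
  rw [Set.finrank, top_le_iff.mp hspan, finrank_top, Module.finrank_fintype_fun_eq_card] at h
  rwa [Nat.card_eq_fintype_card, Nat.card_eq_fintype_card]

/-- The Glauberman correspondence as a bijection with its multiplicity property. -/
theorem glauberman (hp : ¬ p ∣ Nat.card G) :
    ∃ Φ : {χ : IrrCharacter G // IsInv φ (χ : G → ℂ)} → IrrCharacter C, Function.Bijective Φ ∧
      (∀ χ β, ¬ p ∣ gMult ι χ.1 β ↔ β = Φ χ) ∧
      ∀ χ, (gMult ι χ.1 (Φ χ) : ℤ) ≡ 1 [ZMOD p] ∨ (gMult ι χ.1 (Φ χ) : ℤ) ≡ -1 [ZMOD p] := by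
  obtain ⟨M, hM⟩ := exists_isPModular p
  haveI := hM.2.1.isPrime
  have hpC := not_dvd_card_fixed φ ι hS hι hfix hM hp
  have hGne : (Nat.card G : ResF M) ≠ 0 := by rw [ne_eq, natCast_resF_eq_zero hM]; exact hp
  have hex : ∀ χ : {χ : IrrCharacter G // IsInv φ (χ : G → ℂ)}, ∃ β, ¬ p ∣ gMult ι χ.1 β := by
    intro χ
    by_contra hno
    simp only [not_exists, not_not] at hno
    refine hGne ?_
    rw [gMult_norm φ ι hS hι hfix hM χ.2, Finset.sum_eq_zero fun β _ => ?_, mul_zero]
    rw [(natCast_resF_eq_zero hM _).mpr (hno β), zero_pow two_ne_zero]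
  choose Φ hΦ using hex
  have hinj : ∀ χ χ' : {χ : IrrCharacter G // IsInv φ (χ : G → ℂ)}, ∀ β,
      ¬ p ∣ gMult ι χ.1 β → ¬ p ∣ gMult ι χ'.1 β → χ = χ' := by
    intro χ χ' β h1 h2
    by_contra hne
    have h := gMult_relations φ ι hS hι hfix hM hp χ.2 χ'.2 β
    rw [if_neg fun e => hne (Subtype.ext e), zero_mul] at h
    simp only [mul_eq_zero, natCast_resF_eq_zero hM] at h
    rcases h with (h | h) | h
    · exact h1 h
    · exact h2 h
    · exact hpC (h.trans (Nat.div_dvd_of_dvd (charDegree_dvd_card β)))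
  have hΦinj : Function.Injective Φ := fun χ χ' h => hinj χ χ' _ (hΦ χ) (h ▸ hΦ χ')
  have hbij : Function.Bijective Φ := by
    refine (Fintype.bijective_iff_injective_and_card Φ).mpr ⟨hΦinj, le_antisymm
      (Fintype.card_le_of_injective Φ hΦinj) ?_⟩
    have := card_le_card_inv φ ι hS hι hfix hM hp
    rwa [Nat.card_eq_fintype_card, Nat.card_eq_fintype_card] at this
  have hiff : ∀ χ β, ¬ p ∣ gMult ι χ.1 β ↔ β = Φ χ := by
    intro χ β
    refine ⟨fun h => ?_, fun h => h ▸ hΦ χ⟩
    obtain ⟨χ', rfl⟩ := hbij.2 β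
    rw [hinj χ χ' _ h (hΦ χ')]
  refine ⟨Φ, hbij, hiff, fun χ => ?_⟩
  have h := gMult_norm φ ι hS hι hfix hM χ.2
  rw [Finset.sum_eq_single (Φ χ) (fun β _ hne => by
    rw [(natCast_resF_eq_zero hM _).mpr (not_not.mp fun h => hne ((hiff χ β).mp h)), zero_pow two_ne_zero])
    (by simp), card_eq_mod φ ι hS hι hfix hM] at h
  have hC0 : (Nat.card C : ResF M) ≠ 0 := by rw [ne_eq, natCast_resF_eq_zero hM]; exact hpC
  have h2 : (gMult ι χ.1 (Φ χ) : ResF M) ^ 2 = 1 := (mul_eq_left₀ hC0).mp h.symm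
  haveI := charP_resF hM
  rcases sq_eq_one_iff.mp h2 with h3 | h3
  · left
    exact (CharP.intCast_eq_intCast (ResF M) p).mp (by push_cast; exact h3)
  · right
    exact (CharP.intCast_eq_intCast (ResF M) p).mp (by push_cast; exact h3)

end Main

end Cfsg.Lib.Blocks

namespace Cfsg.Lib.Blocks

/-- Conjugation of a normalized subgroup by the elements of another subgroup. -/
def conjAct {Γ : Type*} [Group Γ] (G S : Subgroup Γ) (hnorm : ∀ s ∈ S, ∀ g ∈ G, s * g * s⁻¹ ∈ G) :
    S →* MulAut G where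
  toFun s :=
    { toFun := fun g => ⟨(s : Γ) * g * (s : Γ)⁻¹, hnorm s s.2 g g.2⟩
      invFun := fun g => ⟨(s : Γ)⁻¹ * g * s, by simpa using hnorm _ (inv_mem s.2) g g.2⟩
      left_inv := fun g => Subtype.ext (by simp [mul_assoc])
      right_inv := fun g => Subtype.ext (by simp [mul_assoc])
      map_mul' := fun g h => Subtype.ext (by simp [mul_assoc]) }
  map_one' := MulEquiv.ext fun g => Subtype.ext (by simp)
  map_mul' s t := MulEquiv.ext fun g => Subtype.ext (by simp [mul_assoc])

@[simp] theorem coe_conjAct {Γ : Type*} [Group Γ] (G S : Subgroup Γ)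
    (hnorm : ∀ s ∈ S, ∀ g ∈ G, s * g * s⁻¹ ∈ G) (s : S) (g : G) :
    ((conjAct G S hnorm s g : G) : Γ) = s * g * (s : Γ)⁻¹ := rfl

theorem isInv_conjAct_iff {Γ : Type*} [Group Γ] (G S : Subgroup Γ)
    (hnorm : ∀ s ∈ S, ∀ g ∈ G, s * g * s⁻¹ ∈ G) (χ : G → ℂ) :
    IsInv (conjAct G S hnorm) χ ↔
      ∀ s ∈ S, ∀ g g' : G, (g' : Γ) = s * g * s⁻¹ → χ g' = χ g := by
  constructor
  · intro h s hs g g' hg
    rw [← h ⟨s, hs⟩ g]
    exact congrArg χ (Subtype.ext hg)
  · exact fun h s g => h s s.2 g _ rfl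

end Cfsg.Lib.Blocks
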