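import Mathlib
import Cfsg.Agent.Lib.Blocks.Principal
import Cfsg.Agent.Lib.Blocks.DefectZero
import Cfsg.Agent.Lib.Characters.Gallagher

/-!
# Restriction of principal blocks to normal subgroups of index prime to `p`
-/

namespace Cfsg.Lib.Blocks

open Finset
open scoped ComplexConjugate Classical
open Cfsg.Lib.Characters

set_option linter.unusedSectionVars false
set_option linter.style.haveILetI false
set_option linter.style.longLine false

universe u

variable {G : Type u} [Group G] [Fintype G] {M : Ideal Cfsg.AlgInt} [M.IsPrime]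
  {p : ℕ} [Fact p.Prime]

/-- Every coset of `N` contains a `p`-regular element whose class has order prime to `p`. -/
def CosetRep (p : ℕ) (N : Subgroup G) : Prop :=
  ∀ g : G, ∃ c : G, g⁻¹ * c ∈ N ∧ ¬ p ∣ orderOf c ∧
    ¬ p ∣ (Subgroup.centralizer ({c} : Set G)).index

/-- The sum of a function over the regular elements of a coset. -/
noncomputable def cosetSum (p : ℕ) (N : Subgroup G) (f : G → ℂ) (g : G) : ℂ :=
  ∑ h, if g⁻¹ * h ∈ N ∧ ¬ p ∣ orderOf h then f h else 0

theorem sum_fiber (N : Subgroup G) [N.Normal] (f : G → ℂ) (g : G) :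
    ∑ h : G, (if (h : G ⧸ N) = (g : G ⧸ N) then f h else 0) = ∑ h : G, if g⁻¹ * h ∈ N then f h else 0 := by
  refine Finset.sum_congr rfl fun h _ => if_congr ⟨fun e => ?_, fun e => ?_⟩ rfl rfl
  · exact QuotientGroup.eq.mp e.symm
  · exact (QuotientGroup.eq.mpr e).symm

theorem exists_regular_mem_zpowers (g : G) :
    ∃ x y : G, x * y = g ∧ (∃ k : ℕ, orderOf x = p ^ k) ∧ ¬ p ∣ orderOf y ∧
      y ∈ Subgroup.zpowers g := by
  obtain ⟨x, y, hxy, hc, ⟨k, hk⟩, hy⟩ := exists_pPart_commute (p := p) g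
  refine ⟨x, y, hxy, ⟨k, hk⟩, hy, ?_⟩
  obtain ⟨j, hj⟩ := exists_pow_eq_self_of_coprime (x := y) (n := p ^ k)
    (Nat.Coprime.pow_left k (((Fact.out : p.Prime).coprime_iff_not_dvd).mpr hy))
  have : g ^ p ^ k = y ^ p ^ k := by rw [← hxy, hc.mul_pow, ← hk, pow_orderOf_eq_one, one_mul]
  rw [← hj, ← this, ← pow_mul]
  exact Subgroup.npow_mem_zpowers g _

theorem isIrrCharacter_linear_mul (lam : G →* ℂˣ) {χ : G → ℂ} (hχ : IsIrrCharacter G χ) :
    IsIrrCharacter G fun h => (lam h : ℂ) * χ h := by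
  have hl := isIrrCharacter_linear lam
  refine isIrrCharacter_of_classInner_eq_one (isCharacter_mul hl.isCharacter hχ.isCharacter) ?_
  rw [← classInner_irr_self hχ]
  simp only [classInner, map_mul]
  refine congrArg _ (Finset.sum_congr rfl fun h _ => ?_)
  have e : (lam h : ℂ) * conj (lam h : ℂ) = 1 := by
    rw [← char_inv_eq_conj hl.isCharacter h, map_inv]
    exact Units.mul_inv _
  linear_combination (χ h * conj (χ h)) * e

theorem sylow_le_of_not_dvd (N : Subgroup G) [N.Normal] (hidx : ¬ p ∣ N.index) (P : Sylow p G) :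
    (P : Subgroup G) ≤ N := by
  intro u hu
  rw [← QuotientGroup.eq_one_iff, ← orderOf_eq_one_iff]
  obtain ⟨k, hk⟩ := P.isPGroup'.exists_orderOf_eq_pow ⟨u, hu⟩
  rw [← Subgroup.orderOf_coe] at hk
  have h1 : orderOf (u : G ⧸ N) ∣ p ^ k := hk ▸ orderOf_map_dvd (QuotientGroup.mk' N) u
  have h2 : orderOf (u : G ⧸ N) ∣ N.index := by
    rw [Subgroup.index_eq_card]; exact orderOf_dvd_natCard _
  exact Nat.eq_one_of_dvd_coprimes
    (Nat.Coprime.pow_left k (((Fact.out : p.Prime).coprime_iff_not_dvd).mpr hidx)) h1 h2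

theorem exists_rep_centralizer (N : Subgroup G) [N.Normal] (hidx : ¬ p ∣ N.index) (P : Sylow p G)
    (hsup : N ⊔ Subgroup.centralizer ((P : Subgroup G) : Set G) = ⊤) (g : G) :
    ∃ c : G, g⁻¹ * c ∈ N ∧ ¬ p ∣ orderOf c ∧
      c ∈ Subgroup.centralizer ((P : Subgroup G) : Set G) := by
  obtain ⟨n, hn, c₀, hc₀, rfl⟩ := Subgroup.mem_sup_of_normal_left.mp
    (show g ∈ N ⊔ Subgroup.centralizer ((P : Subgroup G) : Set G) from hsup ▸ Subgroup.mem_top g)
  obtain ⟨u, c, hmul, ⟨k, hk⟩, hc, hmem⟩ := exists_regular_mem_zpowers (p := p) c₀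
  have huN : u ∈ N := by
    rw [← QuotientGroup.eq_one_iff, ← orderOf_eq_one_iff]
    have h1 : orderOf (u : G ⧸ N) ∣ p ^ k := hk ▸ orderOf_map_dvd (QuotientGroup.mk' N) u
    have h2 : orderOf (u : G ⧸ N) ∣ N.index := by
      rw [Subgroup.index_eq_card]; exact orderOf_dvd_natCard _
    exact Nat.eq_one_of_dvd_coprimes
      (Nat.Coprime.pow_left k (((Fact.out : p.Prime).coprime_iff_not_dvd).mpr hidx)) h1 h2
  refine ⟨c, ?_, hc, Subgroup.zpowers_le.mpr hc₀ hmem⟩
  have : (n * c₀)⁻¹ * c = c₀⁻¹ * n⁻¹ * c₀ * (c⁻¹ * u⁻¹ * c) := by rw [← hmul]; group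
  rw [this]
  exact N.mul_mem (by simpa using Subgroup.Normal.conj_mem inferInstance n⁻¹ (N.inv_mem hn) c₀⁻¹)
    (by simpa using Subgroup.Normal.conj_mem inferInstance u⁻¹ (N.inv_mem huN) c⁻¹)

theorem cosetRep_of_sup (N : Subgroup G) [N.Normal] (hidx : ¬ p ∣ N.index) (P : Sylow p G)
    (hsup : N ⊔ Subgroup.centralizer ((P : Subgroup G) : Set G) = ⊤) : CosetRep p N := by
  intro g
  obtain ⟨c, hc, hreg, hcP⟩ := exists_rep_centralizer N hidx P hsup g
  refine ⟨c, hc, hreg, fun hd => P.not_dvd_index (hd.trans (Subgroup.index_dvd_of_le fun x hx => ?_))⟩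
  rw [Subgroup.mem_centralizer_singleton_iff]
  exact Subgroup.mem_centralizer_iff.mp hcP x hx

/-- A class function on a quotient orthogonal to all nontrivial irreducible characters is constant. -/
theorem eq_one_of_orthogonal {Q : Type u} [Group Q] [Fintype Q] {F : Q → ℂ} (hF : IsClassFunction Q F)
    (h : ∀ μ : IrrCharacter Q, μ ≠ trivChar Q → classInner F (μ : Q → ℂ) = 0) (u : Q) :
    F u = F 1 := by
  have e : F = classInner F (fun _ => 1) • (fun _ : Q => (1 : ℂ)) := by
    refine classFunction_ext hF (fun a b => rfl) fun μ => ?_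
    rw [classInner_smul_left]
    by_cases hμ : μ = trivChar Q
    · subst hμ
      show classInner F (fun _ => 1) = _
      rw [show classInner (fun _ : Q => (1 : ℂ)) (trivChar Q : Q → ℂ) = 1 from
        classInner_irr_self (trivChar Q).2, mul_one]
    · rw [h μ hμ, show classInner (fun _ : Q => (1 : ℂ)) (μ : Q → ℂ) = 0 from
        classInner_irr_ne (trivChar Q).2 μ.2 fun e => hμ (Subtype.ext e.symm), mul_zero]
  rw [congrFun e u, congrFun e 1]
  rfl

theorem inflate_not_principal (hM : IsPModular p M) (N : Subgroup G) [N.Normal] [Fintype (G ⧸ N)]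
    (hidx : ¬ p ∣ N.index) (hrep : CosetRep p N) (μ : IrrCharacter (G ⧸ N)) (hμ : μ ≠ trivChar _)
    (ψ : IrrCharacter G) (hψ : ∀ g : G, (ψ : G → ℂ) g = (μ : G ⧸ N → ℂ) g) :
    ψ ∉ principalBlock M G := by
  intro hmem
  have key : ∀ u : G ⧸ N, red M ((μ : G ⧸ N → ℂ) u) = red M ((μ : G ⧸ N → ℂ) 1) := by
    intro u
    obtain ⟨g, rfl⟩ := QuotientGroup.mk_surjective u
    obtain ⟨c, hc, -, hci⟩ := hrep g
    have hcc := (sameBlock_iff M (trivChar G) _).mp hmem c
    rw [show centralChar (trivChar G : G → ℂ) c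
      = ((Subgroup.centralizer ({c} : Set G)).index : ℂ) by simp [centralChar]] at hcc
    have hm1 := char_mem_locRing (G := G ⧸ N) M μ 1
    have e : centralChar (ψ : G → ℂ) c * (μ : G ⧸ N → ℂ) 1
        = ((Subgroup.centralizer ({c} : Set G)).index : ℂ) * (μ : G ⧸ N → ℂ) g := by
      have := μ.2.one_ne_zero
      rw [centralChar, hψ, hψ, (QuotientGroup.eq (s := N) (a := g) (b := c)).mpr hc, QuotientGroup.mk_one]
      field_simp
    have h2 := congrArg (red M) e
    rw [red_mul (centralChar_mem_locRing (G := G) M ψ c) hm1, ← hcc,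
      red_mul (natCast_mem _ _) (char_mem_locRing (G := G ⧸ N) M μ _)] at h2
    refine (mul_left_cancel₀ ?_ h2).symm
    rw [red_natCast, ne_eq, natCast_resF_eq_zero hM]
    exact hci
  have hU : (Fintype.card (G ⧸ N) : ResF M) ≠ 0 := by
    rw [ne_eq, natCast_resF_eq_zero hM, ← Nat.card_eq_fintype_card, ← Subgroup.index_eq_card]
    exact hidx
  have h1 := congrArg (fun z : ℂ => z * (Nat.card (G ⧸ N) : ℂ)) (classInner_irr_self μ.2)
  have h0 := congrArg (fun z : ℂ => z * (Nat.card (G ⧸ N) : ℂ))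
    (classInner_irr_ne μ.2 (trivChar (G ⧸ N)).2 fun e => hμ (Subtype.ext e))
  have hcard : (Nat.card (G ⧸ N) : ℂ) ≠ 0 := Nat.cast_ne_zero.mpr Nat.card_pos.ne'
  simp only [classInner, trivChar_apply, map_one, mul_one, zero_mul, one_mul] at h0 h1
  have hs0 : ∑ u, (μ : G ⧸ N → ℂ) u = 0 := by
    refine (mul_eq_zero.mp ?_).resolve_right hcard
    rw [← mul_left_cancel₀ (inv_ne_zero hcard) (b := (∑ u, (μ : G ⧸ N → ℂ) u) * (Nat.card (G ⧸ N) : ℂ))
      (c := 0)]
    rw [mul_zero, ← mul_assoc]; exact h0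
  have hs1 : ∑ u, (μ : G ⧸ N → ℂ) u * (μ : G ⧸ N → ℂ) u⁻¹ = (Fintype.card (G ⧸ N) : ℂ) := by
    rw [← Nat.card_eq_fintype_card]
    refine Eq.trans ?_ h1
    rw [mul_comm _ (Nat.card (G ⧸ N) : ℂ), ← mul_assoc, mul_inv_cancel₀ hcard, one_mul]
    exact Finset.sum_congr rfl fun u _ => by rw [char_inv_eq_conj μ.2.isCharacter]
  have r0 := congrArg (red M) hs0
  rw [red_sum _ fun u _ => char_mem_locRing (G := G ⧸ N) M μ u, Finset.sum_congr rfl fun u _ => key u,
    Finset.sum_const, Finset.card_univ, nsmul_eq_mul, red_zero] at r0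
  have r1 := congrArg (red M) hs1
  rw [red_sum _ fun u _ => mul_mem (char_mem_locRing (G := G ⧸ N) M μ u) (char_mem_locRing (G := G ⧸ N) M μ u⁻¹),
    Finset.sum_congr rfl fun u _ => (red_mul (char_mem_locRing (G := G ⧸ N) M μ u)
      (char_mem_locRing (G := G ⧸ N) M μ u⁻¹)).trans (congrArg₂ (· * ·) (key u) (key u⁻¹)),
    Finset.sum_const, Finset.card_univ, nsmul_eq_mul, red_natCast,
    (mul_eq_zero.mp r0).resolve_left hU, mul_zero, mul_zero] at r1
  exact hU r1.symm

/-- Regular coset sums of a principal block character are constant. -/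
theorem cosetSum_const (hM : IsPModular p M) (N : Subgroup G) [N.Normal]
    (hidx : ¬ p ∣ N.index) (hrep : CosetRep p N) {χ : IrrCharacter G}
    (hχ : χ ∈ principalBlock M G) (g : G) :
    cosetSum p N (χ : G → ℂ) g = cosetSum p N (χ : G → ℂ) 1 := by
  classical
  haveI := Fintype.ofFinite (G ⧸ N)
  have hχ' : SameBlock M (trivChar G : G → ℂ) (χ : G → ℂ) := by
    rw [principalBlock_eq] at hχ
    exact (mem_blockOf M).mp hχ
  set F : G ⧸ N → ℂ := fun u => ∑ h : G,
    if (h : G ⧸ N) = u then (if p ∣ orderOf h then 0 else (χ : G → ℂ) h) else 0 with hF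
  have hcl : IsClassFunction (G ⧸ N) F := by
    intro u v
    obtain ⟨b, rfl⟩ := QuotientGroup.mk_surjective v
    simp only [hF]
    refine (Fintype.sum_equiv (MulAut.conj b).toEquiv _ _ fun h => ?_).symm
    have h2 : (χ : G → ℂ) (b * h * b⁻¹) = (χ : G → ℂ) h := χ.2.isClassFunction h b
    show _ = ite (((b * h * b⁻¹ : G) : G ⧸ N) = _) (ite (p ∣ orderOf (b * h * b⁻¹)) 0 ((χ : G → ℂ) (b * h * b⁻¹))) 0
    rw [show orderOf (b * h * b⁻¹) = orderOf h from MulEquiv.orderOf_eq (MulAut.conj b) h, h2]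
    refine if_congr ?_ rfl rfl
    rw [QuotientGroup.mk_mul, QuotientGroup.mk_mul, QuotientGroup.mk_inv, mul_left_inj, mul_right_inj]
  have horth : ∀ μ : IrrCharacter (G ⧸ N), μ ≠ trivChar _ → classInner F (μ : G ⧸ N → ℂ) = 0 := by
    intro μ hμ
    obtain ⟨ψ, hψ⟩ : ∃ ψ : IrrCharacter G, ∀ g : G, (ψ : G → ℂ) g = (μ : G ⧸ N → ℂ) g :=
      ⟨⟨_, isIrrCharacter_comp_surjective μ.2 (QuotientGroup.mk' N)
        (QuotientGroup.mk'_surjective N)⟩, fun g => rfl⟩
    have h0 := sum_regular_eq_zero hM (φ := χ) (ψ := ψ)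
      fun hs => inflate_not_principal hM N hidx hrep μ hμ ψ hψ (by
        rw [principalBlock_eq]
        exact (mem_blockOf M).mpr (sameBlock_trans M hχ' hs))
    simp only [hψ] at h0
    simp only [classInner, hF, Finset.sum_mul]
    rw [Finset.sum_comm]
    refine mul_eq_zero_of_right _ (Eq.trans (Finset.sum_congr rfl fun h _ => ?_) h0)
    simp only [ite_mul, zero_mul, Finset.sum_ite_eq, Finset.mem_univ, if_true]
  have := eq_one_of_orthogonal hcl horth (g : G ⧸ N)
  simp only [hF, ← QuotientGroup.mk_one, sum_fiber N] at this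
  simp only [cosetSum, ite_and, ite_not]
  exact this

theorem sum_regular_eq_index_mul (hM : IsPModular p M) (N : Subgroup G) [N.Normal]
    (hidx : ¬ p ∣ N.index) (hrep : CosetRep p N) {χ : IrrCharacter G}
    (hχ : χ ∈ principalBlock M G) :
    ∑ h, (if p ∣ orderOf h then 0 else (χ : G → ℂ) h) = (N.index : ℂ) * cosetSum p N (χ : G → ℂ) 1 := by
  classical
  haveI := Fintype.ofFinite (G ⧸ N)
  rw [Subgroup.index_eq_card, Nat.card_eq_fintype_card, ← Finset.card_univ, ← nsmul_eq_mul,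
    ← Finset.sum_const, ← Finset.sum_fiberwise Finset.univ (QuotientGroup.mk : G → G ⧸ N)]
  refine Finset.sum_congr rfl fun u _ => ?_
  obtain ⟨g, rfl⟩ := QuotientGroup.mk_surjective u
  rw [← cosetSum_const hM N hidx hrep hχ g, Finset.sum_filter, sum_fiber N]
  simp only [cosetSum, ite_and, ite_not]

theorem sum_regular_ne_zero (hM : IsPModular p M) {χ : IrrCharacter G}
    (hχ : χ ∈ principalBlock M G) :
    ∑ h, (if p ∣ orderOf h then 0 else (χ : G → ℂ) h) ≠ 0 := by
  intro h0
  refine (mem_principal_iff_lam_regSum hM χ).mp hχ ?_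
  rw [← redG_regSum, lam_redG M χ regSum_mem_locCenter]
  have : omega χ (regSum ℂ p G) = 0 := by
    rw [omega]
    simp only [coeff_regSum, ite_mul, zero_mul, one_mul]
    rw [h0, zero_div]
  rw [this, red_zero]

theorem mem_principal_of_sum_ne (hM : IsPModular p M) {χ : IrrCharacter G}
    (h : ∑ x, (if p ∣ orderOf x then 0 else (χ : G → ℂ) x) ≠ 0) :
    χ ∈ principalBlock M G := by
  by_contra hn
  refine h (Eq.trans ?_ (sum_regular_eq_zero hM (φ := χ) (ψ := trivChar G)
    fun h' => hn (sameBlock_symm M h')))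
  simp

/-- For a cyclic quotient, products of principal block characters have constant coset sums. -/
theorem coset_inner_const (hM : IsPModular p M) (N : Subgroup G) [N.Normal]
    (hcyc : IsCyclic (G ⧸ N)) (hidx : ¬ p ∣ N.index) (hrep : CosetRep p N) {ξ ξ' : IrrCharacter G}
    (hξ : ξ ∈ principalBlock M G) (hξ' : ξ' ∈ principalBlock M G) (g : G) :
    ∑ h, (if g⁻¹ * h ∈ N then (ξ : G → ℂ) h * conj ((ξ' : G → ℂ) h) else 0)
      = ∑ h, (if h ∈ N then (ξ : G → ℂ) h * conj ((ξ' : G → ℂ) h) else 0) := by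
  classical
  haveI := Fintype.ofFinite (G ⧸ N)
  set F : G ⧸ N → ℂ := fun u => ∑ h : G,
    if (h : G ⧸ N) = u then (ξ : G → ℂ) h * conj ((ξ' : G → ℂ) h) else 0 with hF
  haveI : IsMulCommutative (G ⧸ N) := IsCyclic.isMulCommutative
  have hcl : IsClassFunction (G ⧸ N) F := fun u v => by
    rw [show v * u * v⁻¹ = u by rw [mul_comm' v u, mul_inv_cancel_right]]
  have horth : ∀ μ : IrrCharacter (G ⧸ N), μ ≠ trivChar _ → classInner F (μ : G ⧸ N → ℂ) = 0 := by
    intro μ hμ
    obtain ⟨lam, hlam⟩ := exists_hom_of_degree_one μ.2.isCharacter (degree_one_of_isMulCommutative μ.2)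
    let lamG : G →* ℂˣ := lam.comp (QuotientGroup.mk' N)
    have hψ : IsIrrCharacter G fun h => (lamG h : ℂ) * (ξ' : G → ℂ) h :=
      isIrrCharacter_linear_mul lamG ξ'.2
    have hne : (fun h => (lamG h : ℂ) * (ξ' : G → ℂ) h) ≠ (ξ : G → ℂ) := by
      intro he
      refine hμ (Subtype.ext (funext fun u => ?_))
      obtain ⟨a, rfl⟩ := QuotientGroup.mk_surjective u
      have hs : ∀ b, cosetSum p N (ξ : G → ℂ) b = (lamG b : ℂ) * cosetSum p N (ξ' : G → ℂ) b := by
        intro b
        simp only [cosetSum, Finset.mul_sum, mul_ite, mul_zero]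
        refine Finset.sum_congr rfl fun h _ => ?_
        split_ifs with hh
        · rw [← congrFun he h]
          show (lam (h : G ⧸ N) : ℂ) * _ = (lam (b : G ⧸ N) : ℂ) * _
          rw [(QuotientGroup.eq (s := N) (a := b) (b := h)).mpr hh.1]
        · rfl
      have hs1 : cosetSum p N (ξ : G → ℂ) 1 = cosetSum p N (ξ' : G → ℂ) 1 := by simpa using hs 1
      have hsa := hs a
      rw [cosetSum_const hM N hidx hrep hξ, cosetSum_const hM N hidx hrep hξ', hs1] at hsa
      have hnz : cosetSum p N (ξ' : G → ℂ) 1 ≠ 0 := fun h0 => sum_regular_ne_zero hM hξ'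
        (by rw [sum_regular_eq_index_mul hM N hidx hrep hξ', h0, mul_zero])
      rw [hlam, trivChar_apply]
      exact ((mul_eq_right₀ hnz).mp hsa.symm)
    have h0 := congrArg (fun z : ℂ => z * (Nat.card G : ℂ)) (classInner_irr_ne ξ.2 hψ hne.symm)
    simp only [zero_mul, classInner] at h0
    simp only [classInner, hF, Finset.sum_mul]
    rw [Finset.sum_comm]
    refine mul_eq_zero_of_right _ ?_
    rw [mul_comm, ← mul_assoc, mul_inv_cancel₀ (Nat.cast_ne_zero.mpr Nat.card_pos.ne'), one_mul] at h0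
    refine Eq.trans (Finset.sum_congr rfl fun h _ => ?_) h0
    simp only [ite_mul, zero_mul, Finset.sum_ite_eq, Finset.mem_univ, if_true, map_mul, hlam]
    show _ = _ * (conj (lam (h : G ⧸ N) : ℂ) * _)
    ring
  have := eq_one_of_orthogonal hcl horth (g : G ⧸ N)
  simp only [hF, ← QuotientGroup.mk_one, sum_fiber N, inv_one, one_mul] at this
  exact this

theorem sum_subgroup_eq (H : Subgroup G) [Fintype H] (f : G → ℂ) :
    ∑ h : H, f h = ∑ g : G, if g ∈ H then f g else 0 := by
  rw [← Finset.sum_subtype (univ.filter (· ∈ H)) (fun x => by simp), Finset.sum_filter]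

/-- Double counting of coset sums. -/
theorem sum_coset_double (N H : Subgroup G) (hNH : N ≤ H) (f : G → ℂ) :
    ∑ k : G, (if k ∈ H then ∑ h : G, (if k⁻¹ * h ∈ N then f h else 0) else 0)
      = (Nat.card N : ℂ) * ∑ h : G, if h ∈ H then f h else 0 := by
  simp only [← Finset.sum_filter]
  rw [Finset.sum_comm' (s' := fun h => univ.filter fun k => k ∈ H ∧ k⁻¹ * h ∈ N)
    (t' := univ.filter (· ∈ H)), Finset.mul_sum]
  · refine Finset.sum_congr rfl fun h hh => ?_
    rw [Finset.sum_const, nsmul_eq_mul]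
    congr 2
    rw [Nat.card_eq_fintype_card, ← Finset.card_univ]
    refine Finset.card_bij (fun k hk => (⟨k⁻¹ * h, (Finset.mem_filter.mp hk).2.2⟩ : N))
      (fun _ _ => Finset.mem_univ _) (fun a _ b _ hab => by simpa using congrArg Subtype.val hab)
      fun n _ => ⟨h * (n : G)⁻¹, ?_, by ext; simp⟩
    have hH : h ∈ H := (Finset.mem_filter.mp hh).2
    simp only [Finset.mem_filter, Finset.mem_univ, true_and]
    exact ⟨H.mul_mem hH (H.inv_mem (hNH n.2)), by simp⟩
  · intro k h
    simp only [Finset.mem_filter, Finset.mem_univ, true_and]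
    constructor
    · rintro ⟨hk, hn⟩
      refine ⟨⟨hk, hn⟩, ?_⟩
      simpa using H.mul_mem hk (hNH hn)
    · rintro ⟨⟨hk, hn⟩, -⟩
      exact ⟨hk, hn⟩

theorem cosetRep_subgroupOf (N : Subgroup G) {H : Subgroup G} (hNH : N ≤ H)
    (hrep : CosetRep p N) (P : Sylow p G) (hPN : (P : Subgroup G) ≤ N)
    (hcent : ∀ g : G, ∃ c : G, g⁻¹ * c ∈ N ∧ ¬ p ∣ orderOf c ∧
      c ∈ Subgroup.centralizer ((P : Subgroup G) : Set G)) :
    CosetRep p (N.subgroupOf H) := by
  intro g
  obtain ⟨c, hc, hreg, hcP⟩ := hcent g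
  have hcH : c ∈ H := by simpa using H.mul_mem g.2 (hNH hc)
  refine ⟨⟨c, hcH⟩, hc, ?_, fun hd => ?_⟩
  · rwa [← Subgroup.orderOf_coe]
  · refine (P.subtype (hPN.trans hNH)).not_dvd_index (hd.trans (Subgroup.index_dvd_of_le fun x hx => ?_))
    rw [Subgroup.mem_centralizer_singleton_iff]
    exact Subtype.ext (Subgroup.mem_centralizer_iff.mp hcP (x : G) hx)

/-- Constituents on an intermediate subgroup of a principal block character are principal. -/
theorem constituent_principal (hM : IsPModular p M) (N : Subgroup G) [N.Normal]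
    (hidx : ¬ p ∣ N.index) (hrep : CosetRep p N) {H : Subgroup G} [Fintype H] (hNH : N ≤ H)
    (hidxH : ¬ p ∣ (N.subgroupOf H).index) (hrepH : CosetRep p (N.subgroupOf H))
    {χ : IrrCharacter G} (hχ : χ ∈ principalBlock M G) {m : IrrCharacter H → ℕ}
    (hm : (fun h : H => (χ : G → ℂ) h) = ∑ ξ : IrrCharacter H, (m ξ : ℂ) • (ξ : H → ℂ))
    (ξ₀ : IrrCharacter H) (hξ₀ : m ξ₀ ≠ 0) : ξ₀ ∈ principalBlock M H := by
  haveI := Fintype.ofFinite N
  set s := cosetSum p N (χ : G → ℂ) 1 with hs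
  set tN : (N → ℂ) → ℂ := fun f => ∑ n : N, if p ∣ orderOf n then 0 else f n with htN
  have hsN : tN (fun n : N => (χ : G → ℂ) n) = s := by
    rw [hs, cosetSum, htN]
    simp only [inv_one, one_mul, ite_and, ite_not, ← Subgroup.orderOf_coe]
    exact sum_subgroup_eq N fun g => if p ∣ orderOf g then 0 else (χ : G → ℂ) g
  obtain ⟨k, hk⟩ := exists_decomposition (isCharacter_restrict χ.2.isCharacter N)
  have hkc : ∀ θ : IrrCharacter N, classInner (fun n : N => (χ : G → ℂ) n) (θ : N → ℂ) = (k θ : ℂ) :=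
    fun θ => by rw [hk]; exact classInner_sum_irr _ θ
  obtain ⟨θ₀, hθ₀, hne₀⟩ := classInner_res_ne_zero (N := N) χ.2
  have hconj : ∀ θ : IrrCharacter N, k θ ≠ 0 →
      tN (θ : N → ℂ) = tN θ₀ ∧ (θ : N → ℂ) 1 = θ₀ 1 := by
    intro θ hθ
    obtain ⟨g, hg⟩ := exists_conjFn_eq χ.2 hθ₀ θ.2 hne₀ (by rw [hkc]; exact_mod_cast hθ)
    rw [hg]
    refine ⟨?_, ?_⟩
    · simp only [htN]
      refine Fintype.sum_equiv (MulAut.conjNormal g : N ≃* N).toEquiv _ _ fun n => ?_
      rw [conjFn_eq_comp]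
      simp [orderOf_injective (MulEquiv.toMonoidHom (MulAut.conjNormal g : N ≃* N))
        (MulEquiv.injective _) n]
    · rw [conjFn_eq_comp]; simp
  have hlin : ∀ (c : IrrCharacter N → ℂ), tN (∑ θ, c θ • (θ : N → ℂ)) = ∑ θ, c θ * tN (θ : N → ℂ) := by
    intro c
    simp only [htN, Finset.sum_apply, Pi.smul_apply, smul_eq_mul, Finset.mul_sum]
    rw [Finset.sum_comm]
    exact Finset.sum_congr rfl fun n _ => by split_ifs <;> simp
  -- the regular sum is proportional to the degree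
  have key : ∀ (f : N → ℂ) (c : IrrCharacter N → ℂ), f = ∑ θ, c θ • (θ : N → ℂ) →
      (∀ θ, c θ ≠ 0 → k θ ≠ 0) → tN f * θ₀ 1 = f 1 * tN θ₀ := by
    intro f c hf hc
    rw [hf, hlin]
    simp only [Finset.sum_apply, Pi.smul_apply, smul_eq_mul, Finset.sum_mul]
    refine Finset.sum_congr rfl fun θ _ => ?_
    by_cases h : c θ = 0
    · simp [h]
    · rw [(hconj θ (hc θ h)).1, (hconj θ (hc θ h)).2]; ring
  have hχN := key _ _ hk fun θ h => by exact_mod_cast h
  have hξN : ∀ ξ : IrrCharacter H, m ξ ≠ 0 →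
      tN (fun n : N => (ξ : H → ℂ) ⟨n, hNH n.2⟩) * (χ : G → ℂ) 1 = (ξ : H → ℂ) 1 * s := by
    intro ξ hξ
    have hcharξ : ∀ η : IrrCharacter H, IsCharacter N fun n : N => (η : H → ℂ) ⟨n, hNH n.2⟩ :=
      fun η => isCharacter_comp η.2.isCharacter (Subgroup.inclusion hNH)
    obtain ⟨l, hl⟩ := exists_decomposition (hcharξ ξ)
    have h := key _ _ hl fun θ hθ => by
      intro h0
      apply hθ
      have e : (k θ : ℂ) = ∑ η : IrrCharacter H, (m η : ℂ) *
          classInner (fun n : N => (η : H → ℂ) ⟨n, hNH n.2⟩) (θ : N → ℂ) := by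
        rw [← hkc, show (fun n : N => (χ : G → ℂ) n)
          = ∑ η : IrrCharacter H, (m η : ℂ) • fun n : N => (η : H → ℂ) ⟨n, hNH n.2⟩ by
            funext n
            simpa [Finset.sum_apply] using congrFun hm ⟨n, hNH n.2⟩,
          classInner_sum_left]
        exact Finset.sum_congr rfl fun η _ => classInner_smul_left _ _ _
      choose q hq using fun η => classInner_nat (hcharξ η) θ.2.isCharacter
      simp only [hq, h0] at e
      have e2 : 0 = ∑ η : IrrCharacter H, m η * q η := by exact_mod_cast e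
      have e3 := (Finset.sum_eq_zero_iff.mp e2.symm) ξ (Finset.mem_univ _)
      have e4 : (q ξ : ℂ) = (l θ : ℂ) := by
        rw [← hq ξ, hl]; exact classInner_sum_irr _ θ
      rw [← e4, (mul_eq_zero.mp e3).resolve_left hξ, Nat.cast_zero]
    refine mul_right_cancel₀ hθ₀.one_ne_zero ?_
    rw [mul_right_comm, h, ← hsN]
    have h1 : (⟨((1 : N) : G), hNH (1 : N).2⟩ : H) = 1 := rfl
    rw [h1]
    have h2 := hχN
    simp only [OneMemClass.coe_one] at h2
    linear_combination -((ξ : H → ℂ) 1) * h2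
  -- regular sums over `H`
  have hsumH : ∀ ξ : IrrCharacter H, m ξ ≠ 0 →
      (∑ h : H, if p ∣ orderOf h then 0 else (ξ : H → ℂ) h) * (χ : G → ℂ) 1
        = if ξ ∈ principalBlock M H then ((N.subgroupOf H).index : ℂ) * ((ξ : H → ℂ) 1 * s) else 0 := by
    intro ξ hξ
    split_ifs with hp
    · rw [sum_regular_eq_index_mul hM _ hidxH hrepH hp, mul_assoc]
      congr 1
      rw [← hξN ξ hξ]
      congr 1
      simp only [cosetSum, htN, inv_one, one_mul, ite_and, ite_not]
      rw [← sum_subgroup_eq (N.subgroupOf H) fun h => if p ∣ orderOf h then 0 else (ξ : H → ℂ) h]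
      refine Fintype.sum_equiv (Subgroup.subgroupOfEquivOfLe hNH).toEquiv _ _ fun y => ?_
      simp only [← Subgroup.orderOf_coe]
      rfl
    · rw [mul_eq_zero]
      exact Or.inl (by_contra fun h => hp (mem_principal_of_sum_ne hM h))
  have hχH : ∑ h : H, (if p ∣ orderOf h then 0 else (χ : G → ℂ) h)
      = ((N.subgroupOf H).index : ℂ) * s := by
    refine mul_left_cancel₀ (Nat.cast_ne_zero.mpr (Nat.card_pos (α := N)).ne') ?_
    simp only [← Subgroup.orderOf_coe]
    rw [sum_subgroup_eq H fun g => if p ∣ orderOf g then 0 else (χ : G → ℂ) g,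
      ← sum_coset_double N H hNH, ← mul_assoc, ← Nat.cast_mul]
    have hc : ∀ k : G, (∑ h : G, if k⁻¹ * h ∈ N then (if p ∣ orderOf h then 0 else (χ : G → ℂ) h) else 0) = s :=
      fun k => by
        rw [hs, ← cosetSum_const hM N hidx hrep hχ k]
        simp only [cosetSum, ite_and, ite_not]
    simp only [hc]
    rw [← sum_subgroup_eq H fun _ => s, Finset.sum_const, Finset.card_univ, nsmul_eq_mul,
      ← Nat.card_eq_fintype_card]
    congr 2
    rw [← Subgroup.index_mul_card (N.subgroupOf H), mul_comm,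
      Nat.card_congr (Subgroup.subgroupOfEquivOfLe hNH).toEquiv]
  have hs0 : s ≠ 0 := fun h0 => sum_regular_ne_zero hM hχ
    (by rw [sum_regular_eq_index_mul hM N hidx hrep hχ, ← hs, h0, mul_zero])
  have hI : ((N.subgroupOf H).index : ℂ) ≠ 0 := Nat.cast_ne_zero.mpr Subgroup.index_ne_zero_of_finite
  have hsum : ∑ ξ : IrrCharacter H, (if ξ ∈ principalBlock M H then (m ξ : ℂ) * (ξ : H → ℂ) 1 else 0)
      = ∑ ξ : IrrCharacter H, (m ξ : ℂ) * (ξ : H → ℂ) 1 := by
    have h2 : ∑ ξ : IrrCharacter H, (m ξ : ℂ) *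
        ((∑ h : H, if p ∣ orderOf h then 0 else (ξ : H → ℂ) h) * (χ : G → ℂ) 1)
        = ((N.subgroupOf H).index : ℂ) * s * (χ : G → ℂ) 1 := by
      simp only [← mul_assoc, ← Finset.sum_mul]
      congr 1
      rw [← hχH]
      simp only [Finset.mul_sum]
      rw [Finset.sum_comm]
      refine Finset.sum_congr rfl fun h _ => ?_
      rw [congrFun hm h, Finset.sum_apply]
      split_ifs <;> simp
    rw [Finset.sum_congr rfl fun ξ _ => show _ = ((N.subgroupOf H).index : ℂ) * s *
        (if ξ ∈ principalBlock M H then (m ξ : ℂ) * (ξ : H → ℂ) 1 else 0) by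
      by_cases hξ : m ξ = 0
      · simp [hξ]
      · rw [hsumH ξ hξ]; split_ifs <;> ring, ← Finset.mul_sum] at h2
    rw [mul_left_cancel₀ (mul_ne_zero hI hs0) h2, ← OneMemClass.coe_one H, congrFun hm 1]
    simp [Finset.sum_apply]
  by_contra hn
  have h3 : ∑ ξ : IrrCharacter H, (if ξ ∈ principalBlock M H then 0 else (m ξ * charDegree (ξ : H → ℂ))) = 0 := by
    have : ∑ ξ : IrrCharacter H, (if ξ ∈ principalBlock M H then 0 else (m ξ : ℂ) * (ξ : H → ℂ) 1) = 0 := by
      refine Eq.trans ?_ (sub_eq_zero.mpr hsum.symm)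
      rw [← Finset.sum_sub_distrib]
      exact Finset.sum_congr rfl fun ξ _ => by split_ifs <;> simp
    simp only [← coe_charDegree] at this
    exact_mod_cast this
  have h4 := Finset.sum_eq_zero_iff.mp h3 ξ₀ (Finset.mem_univ _)
  rw [if_neg hn, mul_eq_zero] at h4
  exact h4.elim hξ₀ (charDegree_pos ξ₀).ne'

/-- Restriction is an isometry on the principal block. -/
theorem classInner_res_principal (hM : IsPModular p M) (N : Subgroup G) [N.Normal] [Fintype N]
    (hidx : ¬ p ∣ N.index) (P : Sylow p G)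
    (hsup : N ⊔ Subgroup.centralizer ((P : Subgroup G) : Set G) = ⊤) {χ χ' : IrrCharacter G}
    (hχ : χ ∈ principalBlock M G) (hχ' : χ' ∈ principalBlock M G) :
    classInner (fun n : N => (χ : G → ℂ) n) (fun n : N => (χ' : G → ℂ) n)
      = classInner (χ : G → ℂ) (χ' : G → ℂ) := by
  have hrep := cosetRep_of_sup N hidx P hsup
  have hPN : (P : Subgroup G) ≤ N := sylow_le_of_not_dvd N hidx P
  have hcent := exists_rep_centralizer N hidx P hsup
  set f : G → ℂ := fun h => (χ : G → ℂ) h * conj ((χ' : G → ℂ) h) with hf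
  have hconst : ∀ g : G, (∑ h : G, if g⁻¹ * h ∈ N then f h else 0)
      = ∑ h : G, if h ∈ N then f h else 0 := by
    intro g
    set H := N ⊔ Subgroup.zpowers g with hH
    haveI := Fintype.ofFinite H
    have hNH : N ≤ H := le_sup_left
    have hgH : g ∈ H := (le_sup_right : Subgroup.zpowers g ≤ H) (Subgroup.mem_zpowers g)
    have hidxH : ¬ p ∣ (N.subgroupOf H).index := fun hd =>
      hidx (hd.trans (Subgroup.relIndex_dvd_index_of_normal N H))
    have hrepH := cosetRep_subgroupOf N hNH hrep P hPN hcent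
    haveI hcyc : IsCyclic (H ⧸ N.subgroupOf H) := by
      refine ⟨⟨((⟨g, hgH⟩ : H) : H ⧸ N.subgroupOf H), fun u => ?_⟩⟩
      obtain ⟨⟨a, ha⟩, rfl⟩ := QuotientGroup.mk_surjective u
      obtain ⟨n, hn, z, hz, rfl⟩ := Subgroup.mem_sup_of_normal_left.mp ha
      obtain ⟨i, rfl⟩ := hz
      refine ⟨i, ?_⟩
      show ((⟨g, hgH⟩ : H) : H ⧸ N.subgroupOf H) ^ i = _
      rw [← QuotientGroup.mk_zpow, QuotientGroup.eq, Subgroup.mem_subgroupOf]
      have hcalc : ((g ^ i)⁻¹ * (n * g ^ i) : G) ∈ N := by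
        simpa [mul_assoc] using Subgroup.Normal.conj_mem (inferInstance : N.Normal) n hn (g ^ i)⁻¹
      simpa using hcalc
    obtain ⟨a, ha⟩ := exists_decomposition (isCharacter_restrict χ.2.isCharacter H)
    obtain ⟨b, hb⟩ := exists_decomposition (isCharacter_restrict χ'.2.isCharacter H)
    have hloc : ∀ k : H, (∑ h : G, if (k : G)⁻¹ * h ∈ N then f h else 0)
        = ∑ ξ : IrrCharacter H, ∑ η : IrrCharacter H, (a ξ : ℂ) * (b η : ℂ) *
          ∑ h : H, (if k⁻¹ * h ∈ N.subgroupOf H then (ξ : H → ℂ) h * conj ((η : H → ℂ) h) else 0) := by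
      intro k
      rw [show (∑ h : G, if (k : G)⁻¹ * h ∈ N then f h else 0)
          = ∑ h : H, if k⁻¹ * h ∈ N.subgroupOf H then f h else 0 by
        rw [show (fun h : H => if k⁻¹ * h ∈ N.subgroupOf H then f h else 0)
          = fun h : H => (fun x : G => if (k : G)⁻¹ * x ∈ N then f x else 0) h from rfl,
          sum_subgroup_eq H fun x : G => if (k : G)⁻¹ * x ∈ N then f x else 0]
        refine Finset.sum_congr rfl fun h _ => ?_
        by_cases hn : (k : G)⁻¹ * h ∈ N
        · rw [if_pos (c := h ∈ H) (by simpa using H.mul_mem k.2 (hNH hn))]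
        · simp [if_neg hn]]
      simp only [Finset.mul_sum]
      rw [Finset.sum_congr rfl fun ξ _ => Finset.sum_comm, Finset.sum_comm]
      refine Finset.sum_congr rfl fun h _ => ?_
      split_ifs
      · simp only [hf]
        rw [congrFun ha h, congrFun hb h]
        simp only [Finset.sum_apply, Pi.smul_apply, smul_eq_mul, map_sum, map_mul, map_natCast,
          Finset.sum_mul, Finset.mul_sum]
        rw [Finset.sum_comm]
        exact Finset.sum_congr rfl fun ξ _ => Finset.sum_congr rfl fun η _ => by ring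
      · simp
    have h0 := hloc 1
    simp only [OneMemClass.coe_one, inv_one, one_mul] at h0
    rw [hloc ⟨g, hgH⟩, h0]
    refine Finset.sum_congr rfl fun ξ _ => Finset.sum_congr rfl fun η _ => ?_
    by_cases hξ : a ξ = 0
    · simp [hξ]
    by_cases hη : b η = 0
    · simp [hη]
    congr 1
    exact coset_inner_const hM _ hcyc hidxH hrepH
      (constituent_principal hM N hidx hrep hNH hidxH hrepH hχ ha ξ hξ)
      (constituent_principal hM N hidx hrep hNH hidxH hrepH hχ' hb η hη) _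
  have h2 := sum_coset_double N ⊤ le_top f
  simp only [Subgroup.mem_top, if_true, hconst, Finset.sum_const, Finset.card_univ, nsmul_eq_mul] at h2
  rw [classInner, classInner, sum_subgroup_eq N f]
  have hN : (Nat.card N : ℂ) ≠ 0 := Nat.cast_ne_zero.mpr Nat.card_pos.ne'
  have hG : (Nat.card G : ℂ) ≠ 0 := Nat.cast_ne_zero.mpr Nat.card_pos.ne'
  rw [← Nat.card_eq_fintype_card] at h2
  field_simp
  linear_combination h2

end Cfsg.Lib.Blocks
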