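import Cfsg.Agent.Lib.Blocks.Covering
import Cfsg.Agent.Lib.Blocks.Rank
import Cfsg.Agent.Lib.Blocks.PrincipalRestriction
import Cfsg.Agent.Lib.Blocks.CosetAverage
import Cfsg.Agent.Lib.Characters.Integrality

/-!
# Inflation of blocks through a normal p-subgroup with p-power centralizer index
-/

set_option autoImplicit false
set_option linter.unusedSectionVars false
set_option linter.style.haveILetI false

namespace Cfsg.Lib.Blocks

open Finset Cfsg Cfsg.Lib.Characters
open scoped ComplexConjugate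

variable {G : Type*} [Group G] [Fintype G] {M : Ideal Cfsg.AlgInt} [M.IsPrime]
variable {p : ℕ} [hp : Fact p.Prime]

/-- Characters whose central characters agree on regular classes share their block. -/
theorem sameBlock_of_regular (hM : IsPModular p M) {χ ψ : IrrCharacter G}
    (h : ∀ g : G, ¬ p ∣ orderOf g →
      MemLocalIdeal M (centralChar (χ : G → ℂ) g - centralChar (ψ : G → ℂ) g)) :
    SameBlock M (χ : G → ℂ) (ψ : G → ℂ) := by
  classical
  set B := blockOf M (χ : G → ℂ) with hBdef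
  have hB : IsPBlock M B := ⟨χ, rfl⟩
  have he : lam M χ (bIdem M B) = lam M ψ (bIdem M B) := by
    simp only [lam]
    refine Finset.sum_congr rfl fun C _ => ?_
    by_cases hc : p ∣ orderOf (cOut C)
    · have h0 : blockCoeff B (cOut C) = 0 := blockCoeff_eq_zero_of_singular hM hB hc
      rw [coeff_bIdem, h0]
      simp
    · rw [(memLocalIdeal_sub_iff (centralChar_mem_locRing M χ _) (centralChar_mem_locRing M ψ _)).1 (h _ hc)]
  rw [lam_bIdem hB, lam_bIdem hB, if_pos (mem_blockOf_self M χ)] at he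
  by_contra hn
  rw [if_neg (show ψ ∉ B from hn)] at he
  exact one_ne_zero he

variable {P : Subgroup G} [P.Normal]

theorem eq_of_mk_eq_of_regular (hP : IsPGroup p P) (hC : ∃ k : ℕ, (Subgroup.centralizer (P : Set G)).index = p ^ k)
    {x x' : G} (hx : ¬ p ∣ orderOf x) (hx' : ¬ p ∣ orderOf x') (h : (x : G ⧸ P) = x') : x = x' := by
  obtain ⟨k, hk⟩ := hC
  haveI := Fintype.ofFinite (Subgroup.centralizer (P : Set G))
  have hmem : x ∈ Subgroup.centralizer (P : Set G) := regular_mem_of_index_pPow hk hx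
  have hz : x⁻¹ * x' ∈ P := QuotientGroup.eq.mp h
  have hcomm : Commute x (x⁻¹ * x') :=
    ((Subgroup.mem_centralizer_iff.mp hmem) _ hz).symm
  set m := orderOf x * orderOf x'
  have hm : ¬ p ∣ m := fun hd => (hp.out.dvd_mul.mp hd).elim hx hx'
  have h1 : (x⁻¹ * x') ^ m = 1 := by
    have e := hcomm.mul_pow m
    rw [mul_inv_cancel_left, orderOf_dvd_iff_pow_eq_one.mp (dvd_mul_left _ _),
      orderOf_dvd_iff_pow_eq_one.mp (dvd_mul_right _ _), one_mul] at e
    exact e.symm
  obtain ⟨j, hj⟩ := hP.exists_orderOf_eq_pow ⟨_, hz⟩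
  have h2 : orderOf (x⁻¹ * x') = p ^ j := by rw [← hj, ← Subgroup.orderOf_coe]
  have h3 := orderOf_dvd_of_pow_eq_one h1
  rw [h2] at h3
  rcases Nat.eq_zero_or_pos j with rfl | hj0
  · rw [pow_zero, orderOf_eq_one_iff, inv_mul_eq_one] at h2
    exact h2
  · exact absurd ((dvd_pow_self p hj0.ne').trans h3) hm

theorem not_dvd_orderOf_mk {x : G} (hx : ¬ p ∣ orderOf x) : ¬ p ∣ orderOf (x : G ⧸ P) :=
  fun h => hx (h.trans (orderOf_map_dvd (QuotientGroup.mk' P) x))

theorem exists_regular_lift {q : G ⧸ P} (hq : ¬ p ∣ orderOf q) :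
    ∃ x : G, (x : G ⧸ P) = q ∧ ¬ p ∣ orderOf x := by
  obtain ⟨g, rfl⟩ := QuotientGroup.mk_surjective q
  obtain ⟨u, y, hxy, ⟨k, hk⟩, hy, hymem⟩ := exists_regular_mem_zpowers (p := p) g
  refine ⟨y, ?_, hy⟩
  have hu : u ∈ Subgroup.zpowers g := by
    have : u = g * y⁻¹ := by rw [← hxy, mul_inv_cancel_right]
    rw [this]; exact mul_mem (Subgroup.mem_zpowers g) (inv_mem hymem)
  obtain ⟨i, hi⟩ := Subgroup.mem_zpowers_iff.mp hu
  have h1 : orderOf (u : G ⧸ P) ∣ orderOf (g : G ⧸ P) := by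
    rw [← hi, QuotientGroup.mk_zpow]; exact orderOf_dvd_of_mem_zpowers ⟨i, rfl⟩
  have h2 : orderOf (u : G ⧸ P) ∣ p ^ k := hk ▸ orderOf_map_dvd (QuotientGroup.mk' P) u
  obtain ⟨j, -, hj⟩ := (Nat.dvd_prime_pow hp.out).mp h2
  rcases Nat.eq_zero_or_pos j with rfl | hj0
  · rw [pow_zero, orderOf_eq_one_iff] at hj
    rw [← hxy, QuotientGroup.mk_mul, hj, one_mul]
  · exact absurd ((hj ▸ dvd_pow_self p hj0.ne').trans h1) hq

theorem comap_centralizer_mk (hP : IsPGroup p P) (hC : ∃ k : ℕ, (Subgroup.centralizer (P : Set G)).index = p ^ k)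
    {x : G} (hx : ¬ p ∣ orderOf x) :
    (Subgroup.centralizer ({(x : G ⧸ P)} : Set (G ⧸ P))).comap (QuotientGroup.mk' P)
      = Subgroup.centralizer ({x} : Set G) := by
  ext y
  simp only [Subgroup.mem_comap, Subgroup.mem_centralizer_singleton_iff, QuotientGroup.mk'_apply,
    ← QuotientGroup.mk_mul]
  refine ⟨fun h => ?_, fun h => by rw [h]⟩
  have h' : ((y * x * y⁻¹ : G) : G ⧸ P) = (x : G ⧸ P) := by
    rw [QuotientGroup.mk_mul, h, QuotientGroup.mk_mul, QuotientGroup.mk_inv, mul_inv_cancel_right]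
  have hord : orderOf (y * x * y⁻¹) = orderOf x := MulEquiv.orderOf_eq (MulAut.conj y) x
  have := eq_of_mk_eq_of_regular hP hC (hord ▸ hx) hx h'
  exact mul_inv_eq_iff_eq_mul.mp this

theorem centralChar_inflate (hP : IsPGroup p P) (hC : ∃ k : ℕ, (Subgroup.centralizer (P : Set G)).index = p ^ k)
    (f : G ⧸ P → ℂ) {x : G} (hx : ¬ p ∣ orderOf x) :
    centralChar (f ∘ QuotientGroup.mk) x = centralChar f (x : G ⧸ P) := by
  simp only [centralChar, Function.comp_apply, QuotientGroup.mk_one]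
  rw [← comap_centralizer_mk hP hC hx, Subgroup.index_comap_of_surjective _ (QuotientGroup.mk'_surjective P)]

theorem sameBlock_inflate_iff [Fintype (G ⧸ P)] (hM : IsPModular p M) (hP : IsPGroup p P)
    (hC : ∃ k : ℕ, (Subgroup.centralizer (P : Set G)).index = p ^ k) (χ ψ : IrrCharacter (G ⧸ P)) :
    SameBlock M (χ : G ⧸ P → ℂ) (ψ : G ⧸ P → ℂ) ↔
      SameBlock M ((χ : G ⧸ P → ℂ) ∘ QuotientGroup.mk) ((ψ : G ⧸ P → ℂ) ∘ QuotientGroup.mk) := by
  have hi : ∀ φ : IrrCharacter (G ⧸ P), IsIrrCharacter G ((φ : G ⧸ P → ℂ) ∘ QuotientGroup.mk) :=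
    fun φ => isIrrCharacter_comp_surjective φ.2 (QuotientGroup.mk' P) (QuotientGroup.mk'_surjective P)
  constructor
  · intro h
    refine sameBlock_of_regular hM (χ := ⟨_, hi χ⟩) (ψ := ⟨_, hi ψ⟩) fun g hg => ?_
    rw [centralChar_inflate hP hC _ hg, centralChar_inflate hP hC _ hg]
    exact h _
  · intro h
    refine sameBlock_of_regular hM fun q hq => ?_
    obtain ⟨x, rfl, hx⟩ := exists_regular_lift hq
    have := h x
    rwa [centralChar_inflate hP hC _ hx, centralChar_inflate hP hC _ hx] at this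

theorem exists_descend {χ : G → ℂ} (hχ : IsIrrCharacter G χ) (h : ∀ z ∈ P, χ z = χ 1) :
    ∃ φ : IrrCharacter (G ⧸ P), χ = (φ : G ⧸ P → ℂ) ∘ QuotientGroup.mk := by
  obtain ⟨n, ρ, hρ, rfl⟩ := hχ
  have hker : P ≤ (ρ : G →* Module.End ℂ (Fin n → ℂ)).ker := fun z hz =>
    (char_eq_one_iff ρ z).1 (h z hz)
  let σ : Representation ℂ (G ⧸ P) (Fin n → ℂ) := QuotientGroup.lift P ρ hker
  have hσ : ρ.character = σ.character ∘ QuotientGroup.mk := rfl
  refine ⟨⟨σ.character, ?_⟩, hσ⟩
  haveI := Fintype.ofFinite (G ⧸ P)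
  refine isIrrCharacter_of_classInner_eq_one (isCharacter_character σ) ?_
  have h1 := classInner_irr_self (isIrrCharacter_character ρ)
  rw [hσ] at h1
  have hcard : (Nat.card G : ℂ) = (Nat.card P : ℂ) * (Nat.card (G ⧸ P) : ℂ) := by
    rw [← Nat.cast_mul, ← Subgroup.index_eq_card, Subgroup.card_mul_index]
  rw [← h1, classInner, classInner, hcard, mul_inv]
  have hsum : ∀ F : G ⧸ P → ℂ, ∑ g : G, F g = (Nat.card P : ℂ) * ∑ q, F q := by
    intro F
    classical
    rw [← Finset.sum_fiberwise (univ : Finset G) (fun g : G => (g : G ⧸ P)) (fun g => F g), Finset.mul_sum]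
    refine Finset.sum_congr rfl fun q _ => ?_
    rw [Finset.sum_congr rfl (fun g hg => by rw [(Finset.mem_filter.mp hg).2]), Finset.sum_const, nsmul_eq_mul]
    congr 2
    rw [← Fintype.card_subtype, ← Nat.card_eq_fintype_card]
    obtain ⟨g₀, rfl⟩ := QuotientGroup.mk_surjective q
    exact Nat.card_congr
      { toFun := fun g => ⟨g₀⁻¹ * g.1, QuotientGroup.eq.mp g.2.symm⟩
        invFun := fun z => ⟨g₀ * z.1, (QuotientGroup.eq.mpr (by simp [z.2])).symm⟩
        left_inv := fun g => by simp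
        right_inv := fun z => by simp }
  have e := hsum fun q => σ.character q * conj (σ.character q)
  simp only [Function.comp_apply]
  rw [e]
  have hp0 : (Nat.card P : ℂ) ≠ 0 := Nat.cast_ne_zero.mpr Nat.card_pos.ne'
  field_simp

theorem exists_inflated_mem (hM : IsPModular p M) (hP : IsPGroup p P)
    (hC : ∃ k : ℕ, (Subgroup.centralizer (P : Set G)).index = p ^ k)
    {B : Set (IrrCharacter G)} (hB : IsPBlock M B) :
    ∃ χ : IrrCharacter (G ⧸ P), ∃ θ ∈ B, (θ : G → ℂ) = (χ : G ⧸ P → ℂ) ∘ QuotientGroup.mk := by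
  classical
  haveI := Fintype.ofFinite P
  by_contra hcon
  push_neg at hcon
  have havg : ∀ θ ∈ B, cosetAvg P (θ : G → ℂ) = 0 := by
    intro θ hθ
    rcases cosetAvg_irr P θ with h | h
    · refine absurd ?_ (fun e => (Classical.choose_spec (exists_descend θ.2 e) |> hcon _ θ hθ))
      intro z hz
      have h1 := congrFun h z
      have h2 := congrFun h 1
      simp only [cosetAvg] at h1 h2
      rw [← h1, ← h2]
      congr 1
      exact Fintype.sum_equiv (Equiv.mulRight (⟨z, hz⟩ : P)) _ _ fun n => by simp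
    · exact h
  have hzero : ∀ x : G, ¬ p ∣ orderOf x → blockCoeff B x = 0 := by
    intro x hx
    have hsum : ∑ z : P, blockCoeff B ((z : G) * x) = 0 := by
      simp only [blockCoeff_eq]
      rw [← Finset.mul_sum, Finset.sum_comm]
      refine mul_eq_zero_of_right _ (Finset.sum_eq_zero fun θ _ => ?_)
      by_cases hθ : θ ∈ B
      · simp only [if_pos hθ, ← Finset.mul_sum, ← map_sum]
        have h0 := congrFun (havg θ hθ) x
        simp only [cosetAvg, Pi.zero_apply, mul_eq_zero, inv_eq_zero, Nat.cast_eq_zero, Nat.card_pos.ne', false_or] at h0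
        rw [h0, map_zero, mul_zero]
      · simp [hθ]
    rw [Finset.sum_eq_single (1 : P)] at hsum
    · simpa using hsum
    · intro z _ hz
      have hsing : p ∣ orderOf ((z : G) * x) := by
        by_contra hreg
        have := eq_of_mk_eq_of_regular hP hC hreg hx (by
          rw [QuotientGroup.mk_mul, (QuotientGroup.eq_one_iff _).mpr z.2, one_mul])
        exact hz (Subtype.ext (by simpa using this))
      exact blockCoeff_eq_zero_of_singular hM hB hsing
    · simp
  obtain ⟨χ, hχ⟩ := IsPBlock.nonempty hB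
  have h := lam_bIdem hB χ
  rw [if_pos hχ, lam] at h
  rw [Finset.sum_eq_zero] at h
  · exact zero_ne_one h
  intro C _
  rw [coeff_bIdem]
  by_cases hc : p ∣ orderOf (cOut C)
  · simp [blockCoeff_eq_zero_of_singular hM hB hc]
  · simp [hzero _ hc]

end Cfsg.Lib.Blocks
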