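import Cfsg.Agent.Lib.Blocks.InvariantOver
import Cfsg.Agent.Lib.Characters.Extension
import Cfsg.Agent.Lib.Blocks.PrincipalRestriction

/-!
# Invariant characters over an invariant character, for coprime actions on a solvable section
-/

namespace Cfsg.Lib.Blocks

open Cfsg.Lib.Characters Finset
open scoped ComplexConjugate Classical

set_option linter.unusedSectionVars false
set_option linter.style.haveILetI false
set_option linter.style.longLine false

universe u v

/-- Irreducible characters with a common constituent below an abelian section differ by a linear factor. -/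
theorem exists_linear_of_common {G : Type u} [Group G] [Fintype G] {M : Subgroup G} [M.Normal] [Fintype M]
    (hab : ∀ x y : G, x * y * x⁻¹ * y⁻¹ ∈ M) (χ χ' : IrrCharacter G)
    (hne : classInner (fun x : M => (χ : G → ℂ) x) (fun x : M => (χ' : G → ℂ) x) ≠ 0) :
    ∃ μ : G →* ℂˣ, (∀ g ∈ M, μ g = 1) ∧ ∀ g, (μ g : ℂ) * (χ : G → ℂ) g = (χ' : G → ℂ) g := by
  haveI := Fintype.ofFinite (G ⧸ M)
  haveI : IsMulCommutative (G ⧸ M) := ⟨⟨fun a b => by
    obtain ⟨x, rfl⟩ := QuotientGroup.mk_surjective a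
    obtain ⟨y, rfl⟩ := QuotientGroup.mk_surjective b
    rw [← QuotientGroup.mk_mul, ← QuotientGroup.mk_mul, eq_comm, ← mul_inv_eq_one, ← QuotientGroup.mk_inv,
      ← QuotientGroup.mk_mul, QuotientGroup.eq_one_iff, mul_inv_rev, ← mul_assoc]
    exact hab y x⟩⟩
  set F : G → ℂ := fun g => (χ : G → ℂ) g * conj ((χ' : G → ℂ) g) with hF
  have hcol : ∀ g : G, ∑ ν : IrrCharacter (G ⧸ M), (ν : G ⧸ M → ℂ) g
      = if g ∈ M then (Nat.card (G ⧸ M) : ℂ) else 0 := by
    intro g
    have h := sum_degree_mul_irr (g : G ⧸ M)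
    simp only [degree_one_of_isMulCommutative (Subtype.prop _), one_mul, QuotientGroup.eq_one_iff] at h
    exact h
  have hsum : ∑ ν : IrrCharacter (G ⧸ M), ∑ g : G, (ν : G ⧸ M → ℂ) g * F g
      = (Nat.card (G ⧸ M) : ℂ) * ∑ x : M, F x := by
    rw [Finset.sum_comm]
    simp only [← Finset.sum_mul, hcol, ite_mul, zero_mul, ← Finset.sum_filter, Finset.mul_sum]
    exact Finset.sum_subtype _ (fun g => by simp) _
  have h0 : ∑ x : M, F x ≠ 0 := fun h => hne (by rw [classInner]; exact mul_eq_zero_of_right _ h)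
  obtain ⟨ν, -, hν⟩ : ∃ ν ∈ (univ : Finset (IrrCharacter (G ⧸ M))),
      ∑ g : G, (ν : G ⧸ M → ℂ) g * F g ≠ 0 := by
    refine Finset.exists_ne_zero_of_sum_ne_zero ?_
    rw [hsum]
    exact mul_ne_zero (Nat.cast_ne_zero.mpr Nat.card_pos.ne') h0
  obtain ⟨lam, hlam⟩ := exists_hom_of_degree_one ν.2.isCharacter (degree_one_of_isMulCommutative ν.2)
  set μ : G →* ℂˣ := lam.comp (QuotientGroup.mk' M) with hμ
  have hval : ∀ g : G, (μ g : ℂ) = (ν : G ⧸ M → ℂ) g := fun g => by rw [hlam]; rfl
  refine ⟨μ, fun g hg => ?_, ?_⟩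
  · show lam (g : G ⧸ M) = 1
    rw [(QuotientGroup.eq_one_iff g).mpr hg, map_one]
  · by_contra hno
    refine hν ?_
    have h := classInner_irr_ne (isIrrCharacter_linear_mul μ χ.2) χ'.2 fun h => hno fun g => congrFun h g
    rw [classInner, mul_eq_zero] at h
    refine Eq.trans ?_ (h.resolve_left (inv_ne_zero (Nat.cast_ne_zero.mpr Nat.card_pos.ne')))
    exact Finset.sum_congr rfl fun g _ => by rw [hval, hF]; ring

/-- Constituency is transitive along restriction. -/
theorem classInner_res_trans {G : Type u} [Group G] [Fintype G] {N : Type*} [Group N] [Fintype N]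
    {K : Type*} [Group K] [Fintype K] (ι : K →* G) (κ : N →* K) {χ : G → ℂ} (hχ : IsCharacter G χ)
    (ψ : IrrCharacter K) (θ : IrrCharacter N) (h1 : classInner (fun x => χ (ι x)) (ψ : K → ℂ) ≠ 0)
    (h2 : classInner (fun x => (ψ : K → ℂ) (κ x)) (θ : N → ℂ) ≠ 0) :
    classInner (fun x => χ (ι (κ x))) (θ : N → ℂ) ≠ 0 := by
  obtain ⟨m, hm⟩ := exists_decomposition (isCharacter_comp hχ ι)
  choose q hq using fun ψ' : IrrCharacter K =>
    classInner_nat (isCharacter_comp ψ'.2.isCharacter κ) θ.2.isCharacter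
  have e : classInner (fun x => χ (ι (κ x))) (θ : N → ℂ)
      = ((∑ ψ' : IrrCharacter K, m ψ' * q ψ' : ℕ) : ℂ) := by
    rw [show (fun x => χ (ι (κ x))) = ∑ ψ' : IrrCharacter K, (m ψ' : ℂ) • fun x => (ψ' : K → ℂ) (κ x) from
      funext fun x => by simpa [Finset.sum_apply] using congrFun hm (κ x), classInner_sum_left, Nat.cast_sum]
    exact Finset.sum_congr rfl fun ψ' _ => by rw [classInner_smul_left, hq, Nat.cast_mul]
  rw [e, Nat.cast_ne_zero]
  intro h0
  rw [hm, classInner_sum_irr, Nat.cast_ne_zero] at h1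
  rw [hq, Nat.cast_ne_zero] at h2
  exact mul_ne_zero h1 h2 (Finset.sum_eq_zero_iff.mp h0 ψ (mem_univ _))

theorem exists_constituent_over {G : Type u} [Group G] [Fintype G] (M : Subgroup G) [Fintype M]
    (ψ : IrrCharacter M) :
    ∃ χ : IrrCharacter G, classInner (fun x : M => (χ : G → ℂ) x) (ψ : M → ℂ) ≠ 0 := by
  obtain ⟨m, hm⟩ := exists_decomposition (isCharacter_indFun M ψ.2.isCharacter)
  obtain ⟨χ, hχ⟩ : ∃ χ : IrrCharacter G, m χ ≠ 0 := by
    by_contra hall
    simp only [not_exists, not_not] at hall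
    have h := congrFun hm 1
    simp only [hall, Nat.cast_zero, zero_smul, Finset.sum_const_zero, Pi.zero_apply,
      indFun_one_apply] at h
    exact mul_ne_zero (Nat.cast_ne_zero.mpr Subgroup.index_ne_zero_of_finite) ψ.2.one_ne_zero h
  refine ⟨χ, fun h0 => hχ ?_⟩
  have h := classInner_indFun M (ψ : M → ℂ) (χ := (χ : G → ℂ)) χ.2.isClassFunction
  rw [hm, classInner_sum_irr, ← conj_classInner, h0, map_zero] at h
  exact_mod_cast h

/-- The abelian step. -/
theorem exists_invariant_over_abelian {G : Type u} [Group G] [Fintype G] {S : Type v} [Group S] [Finite S]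
    (φ : S →* MulAut G) (M : Subgroup G) [M.Normal] [Fintype M] (hM : ∀ s, ∀ g ∈ M, φ s g ∈ M)
    (hab : ∀ x y : G, x * y * x⁻¹ * y⁻¹ ∈ M) (hcop : M.index.Coprime (Nat.card S))
    (ψ : IrrCharacter M) (hψ : IsInv (resAct φ M hM) (ψ : M → ℂ)) :
    ∃ χ : IrrCharacter G, IsInv φ (χ : G → ℂ) ∧
      classInner (fun x : M => (χ : G → ℂ) x) (ψ : M → ℂ) ≠ 0 := by
  haveI := Fintype.ofFinite S
  obtain ⟨χ₀, hχ₀⟩ := exists_constituent_over M ψ
  have hres : ∀ x : M, (χ₀ : G → ℂ) x = (χ₀ : G → ℂ) x := fun _ => rfl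
  -- translates of `χ₀` are linear multiples
  have hc : ∀ s : S, ∃ μ : G →* ℂˣ, (∀ g ∈ M, μ g = 1) ∧
      ∀ g, (μ g : ℂ) * (χ₀ : G → ℂ) g = (χ₀ : G → ℂ) (φ s g) := by
    intro s
    let χ' : IrrCharacter G := ⟨fun g => (χ₀ : G → ℂ) (φ s g),
      isIrrCharacter_comp_surjective χ₀.2 (φ s).toMonoidHom (φ s).surjective⟩
    refine exists_linear_of_common hab χ₀ χ' ?_
    have h1 : classInner (fun x : M => (χ' : G → ℂ) x) (ψ : M → ℂ) ≠ 0 := by
      intro h
      refine hχ₀ (Eq.trans ?_ h)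
      rw [classInner, classInner]
      congr 1
      refine (Fintype.sum_equiv (resAct φ M hM s).toEquiv _ _ fun x => ?_).symm
      show (χ₀ : G → ℂ) (φ s x) * _ = (χ₀ : G → ℂ) (φ s x) * conj ((ψ : M → ℂ) (resAct φ M hM s x))
      rw [hψ]
    obtain ⟨a, ha⟩ := exists_decomposition (isCharacter_restrict χ₀.2.isCharacter M)
    obtain ⟨b, hb⟩ := exists_decomposition (isCharacter_restrict χ'.2.isCharacter M)
    rw [ha, classInner_sum_irr, Nat.cast_ne_zero] at hχ₀
    rw [hb, classInner_sum_irr, Nat.cast_ne_zero] at h1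
    rw [ha, classInner_sum_left]
    intro h0
    have e : ∀ θ : IrrCharacter M, classInner ((a θ : ℂ) • (θ : M → ℂ)) (fun x : M => (χ' : G → ℂ) x)
        = ((a θ * b θ : ℕ) : ℂ) := fun θ => by
      rw [classInner_smul_left, hb, ← conj_classInner, classInner_sum_irr, map_natCast, Nat.cast_mul]
    rw [Finset.sum_congr rfl fun θ _ => e θ, ← Nat.cast_sum, Nat.cast_eq_zero] at h0
    exact mul_ne_zero hχ₀ h1 (Finset.sum_eq_zero_iff.mp h0 ψ (mem_univ _))
  choose c hcM hcχ using hc
  let L₀ : Subgroup (G →* ℂˣ) :=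
    { carrier := {μ | ∀ g, (μ g : ℂ) * (χ₀ : G → ℂ) g = (χ₀ : G → ℂ) g}
      one_mem' := fun g => by simp
      mul_mem' := fun {a b} ha hb g => by
        rw [MonoidHom.mul_apply, Units.val_mul, mul_assoc, hb, ha]
      inv_mem' := fun {a} ha g => by
        rw [MonoidHom.inv_apply, Units.val_inv_eq_inv_val]
        conv_lhs => rw [← ha g, ← mul_assoc, inv_mul_cancel₀ (Units.ne_zero _), one_mul] }
  let T : S → (G →* ℂˣ) →* (G →* ℂˣ) := fun t =>
    { toFun := fun μ => μ.comp (φ t).toMonoidHom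
      map_one' := rfl
      map_mul' := fun _ _ => rfl }
  have hrel : ∀ s t : S, c (s * t) / (T t (c s) * c t) ∈ L₀ := by
    intro s t g
    have e : ((T t (c s) * c t) g : ℂ) * (χ₀ : G → ℂ) g = (c (s * t) g : ℂ) * (χ₀ : G → ℂ) g := by
      rw [MonoidHom.mul_apply, Units.val_mul, mul_assoc, hcχ, hcχ, map_mul, MulAut.mul_apply]
      exact hcχ s (φ t g)
    rw [MonoidHom.div_apply, Units.val_div_eq_div_val, div_mul_eq_mul_div, div_eq_iff (Units.ne_zero _),
      ← e]
    ring
  set m := Nat.card S with hm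
  obtain ⟨k, hk⟩ : ∃ k, m * k ≡ 1 [MOD M.index] := by
    have ht : 0 < Nat.totient M.index :=
      Nat.totient_pos.mpr (Nat.pos_of_ne_zero Subgroup.index_ne_zero_of_finite)
    refine ⟨m ^ (Nat.totient M.index - 1), ?_⟩
    rw [← pow_succ', Nat.sub_add_cancel ht]
    exact Nat.ModEq.pow_totient hcop.symm
  set P := ∏ s, c s with hP
  set d := P ^ k with hd
  have hpow : ∀ t g, c t g ^ (m * k) = c t g := by
    intro t g
    have h1 : c t g ^ M.index = 1 := by rw [← map_pow, hcM t _ (M.pow_index_mem g)]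
    conv_rhs => rw [← pow_one (c t g)]
    exact pow_eq_pow_iff_modEq.mpr (hk.of_dvd (orderOf_dvd_of_pow_eq_one h1))
  have hkey : ∀ t, d / (T t d * c t) ∈ L₀ := by
    intro t
    have h2 := L₀.prod_mem (t := (univ : Finset S))
        (f := fun s => c (s * t) / (T t (c s) * c t)) fun s _ => hrel s t
    have h3 := L₀.pow_mem h2 k
    convert h3 using 1
    refine MonoidHom.ext fun g => ?_
    have e : ∏ s, c (s * t) g = ∏ s, c s g :=
      Fintype.prod_equiv (Equiv.mulRight t) _ _ fun s => rfl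
    simp only [hd, hP, T, MonoidHom.div_apply, MonoidHom.mul_apply, MonoidHom.coe_mk, OneHom.coe_mk,
      MonoidHom.comp_apply, MonoidHom.pow_apply, MonoidHom.finsetProd_apply, Finset.prod_div_distrib,
      Finset.prod_mul_distrib, Finset.prod_const, Finset.card_univ, ← Nat.card_eq_fintype_card, div_pow,
      mul_pow, ← pow_mul, ← hm, hpow, e]
  let χ : IrrCharacter G := ⟨fun g => (d g : ℂ) * (χ₀ : G → ℂ) g, isIrrCharacter_linear_mul d χ₀.2⟩
  refine ⟨χ, fun t g => ?_, ?_⟩
  · show (d (φ t g) : ℂ) * (χ₀ : G → ℂ) (φ t g) = (d g : ℂ) * (χ₀ : G → ℂ) g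
    have h := hkey t g
    rw [MonoidHom.div_apply, Units.val_div_eq_div_val, div_mul_eq_mul_div, div_eq_iff (Units.ne_zero _)] at h
    rw [h, MonoidHom.mul_apply, Units.val_mul, ← hcχ t g]
    show (T t d g : ℂ) * _ = _
    ring
  · have e : (fun x : M => (χ : G → ℂ) x) = fun x : M => (χ₀ : G → ℂ) x := by
      funext x
      show (d x : ℂ) * _ = _
      rw [hd, hP, MonoidHom.pow_apply, MonoidHom.finsetProd_apply, Finset.prod_eq_one fun s _ => hcM s _ x.2,
        one_pow, Units.val_one, one_mul]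
    rw [e]
    exact hχ₀

/-- An invariant character over an invariant one, for a coprime action on a solvable section. -/
theorem exists_invariant_over_of_solvable : ∀ (n : ℕ) (G : Type u) [Group G] [Fintype G] (S : Type v) [Group S]
    [Finite S] (φ : S →* MulAut G) (N : Subgroup G) [N.Normal] [Fintype N] (hN : ∀ s, ∀ g ∈ N, φ s g ∈ N)
    (θ : IrrCharacter N), N.index = n → Group.IsSolvable (G ⧸ N) → n.Coprime (Nat.card S) →
    IsInv (resAct φ N hN) (θ : N → ℂ) →
    ∃ χ : IrrCharacter G, IsInv φ (χ : G → ℂ) ∧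
      classInner (fun x : N => (χ : G → ℂ) x) (θ : N → ℂ) ≠ 0 := by
  intro n
  induction n using Nat.strong_induction_on with
  | _ n ih =>
    intro G _ _ S _ _ φ N _ _ hN θ hn hsolv hcop hθ
    set M : Subgroup G := N ⊔ commutator G with hMdef
    have hNM : N ≤ M := le_sup_left
    have hab : ∀ x y : G, x * y * x⁻¹ * y⁻¹ ∈ M := fun x y =>
      (le_sup_right : commutator G ≤ M) (Subgroup.commutator_mem_commutator (Subgroup.mem_top x) (Subgroup.mem_top y))
    haveI : M.Normal := ⟨fun a ha g => by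
      have := mul_mem (hab g a) ha
      simpa [mul_assoc] using this⟩
    haveI := Fintype.ofFinite M
    have hMinv : ∀ s, ∀ g ∈ M, φ s g ∈ M := by
      intro s
      show M ≤ M.comap (φ s).toMonoidHom
      refine sup_le (fun g hg => hNM (hN s g hg)) ?_
      rw [commutator_def, Subgroup.commutator_le]
      intro x _ y _
      rw [Subgroup.mem_comap, map_commutatorElement]
      exact hab _ _
    by_cases htriv : N = ⊤
    · refine exists_invariant_over_abelian φ N hN (fun x y => htriv ▸ Subgroup.mem_top _) (hn ▸ hcop) θ hθ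
    have hMtop : M ≠ ⊤ := by
      intro hM
      haveI := hsolv
      haveI : Nontrivial (G ⧸ N) := QuotientGroup.nontrivial_iff.mpr htriv
      refine (Group.IsSolvable.commutator_lt_top_of_nontrivial (G := G ⧸ N)).ne ?_
      have h := congrArg (Subgroup.map (QuotientGroup.mk' N)) hM
      rw [hMdef, Subgroup.map_sup, commutator_def, Subgroup.map_commutator,
        Subgroup.map_top_of_surjective _ (QuotientGroup.mk'_surjective N), QuotientGroup.map_mk'_self,
        bot_sup_eq] at h
      exact h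
    set N' := N.subgroupOf M with hN'
    haveI := Fintype.ofFinite N'
    have hidx : N'.index * M.index = N.index := Subgroup.relIndex_mul_index hNM
    have hMi : 1 < M.index := Nat.one_lt_iff_ne_zero_and_ne_one.mpr
      ⟨Subgroup.index_ne_zero_of_finite, fun h => hMtop (Subgroup.index_eq_one.mp h)⟩
    have hlt : N'.index < n := by
      rw [← hn, ← hidx]
      exact lt_mul_of_one_lt_right (Nat.pos_of_ne_zero Subgroup.index_ne_zero_of_finite) hMi
    let e := Subgroup.subgroupOfEquivOfLe hNM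
    let θ' : IrrCharacter N' := ⟨fun x => (θ : N → ℂ) (e x),
      isIrrCharacter_comp_surjective θ.2 e.toMonoidHom e.surjective⟩
    have hN'inv : ∀ s, ∀ x ∈ N', resAct φ M hMinv s x ∈ N' := fun s x hx => hN s _ hx
    have hsolv' : Group.IsSolvable (M ⧸ N') := by
      haveI := hsolv
      refine Group.isSolvable_of_isSolvable_injective
        (f := QuotientGroup.map N' N M.subtype fun x hx => hx) ?_
      rw [injective_iff_map_eq_one]
      intro q
      obtain ⟨x, rfl⟩ := QuotientGroup.mk_surjective q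
      intro hx
      exact (QuotientGroup.eq_one_iff x).mpr ((QuotientGroup.eq_one_iff (x : G)).mp hx)
    obtain ⟨ψ, hψ, hψθ⟩ := ih _ hlt M S (resAct φ M hMinv) N' hN'inv θ' rfl hsolv'
      (hcop.coprime_dvd_left (hn ▸ hidx ▸ dvd_mul_right _ _))
      fun s x => hθ s (e x)
    obtain ⟨χ, hχ, hχψ⟩ := exists_invariant_over_abelian φ M hMinv hab
      (hcop.coprime_dvd_left (hn ▸ hidx ▸ dvd_mul_left _ _)) ψ hψ
    refine ⟨χ, hχ, ?_⟩
    have h := classInner_res_trans M.subtype (N'.subtype.comp e.symm.toMonoidHom) χ.2.isCharacter ψ θ hχψ ?_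
    · exact h
    · intro h0
      refine hψθ (Eq.trans ?_ h0)
      rw [← classInner_comp_equiv e]
      refine congrArg₂ _ (funext fun x => ?_) rfl
      show (ψ : M → ℂ) x = (ψ : M → ℂ) ((e.symm (e x) : N') : M)
      rw [MulEquiv.symm_apply_apply]

end Cfsg.Lib.Blocks
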