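import Cfsg.Agent.Lib.Blocks.Glauberman
import Cfsg.Agent.Lib.Blocks.InflationBijection
import Cfsg.Agent.Lib.Blocks.InvariantOverSolvable
import Cfsg.Agent.Lib.Characters.Gallagher
import Cfsg.Agent.Lib.Characters.Correspondence
import Cfsg.Agent.Lib.Characters.Extension

/-!
# The Glauberman correspondence over a normal Sylow subgroup
-/

set_option autoImplicit false
set_option linter.unusedSectionVars false
set_option linter.style.haveILetI false
set_option linter.style.longLine false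

namespace Cfsg.Lib.Blocks

open Cfsg Cfsg.Lib.Characters Finset
open scoped ComplexConjugate Classical

/-- A `p`-group of permutations fixes a point of each stable finite set of size prime to `p`. -/
theorem exists_fixed_mem {p : ℕ} [Fact p.Prime] {P α : Type*} [Group P] [Finite P] (hP : IsPGroup p P)
    (a : P →* Equiv.Perm α) (S : Finset α) (hst : ∀ s, ∀ x ∈ S, a s x ∈ S) (hS : ¬ p ∣ S.card) :
    ∃ x ∈ S, ∀ s, a s x = x := by
  letI : MulAction P {x // x ∈ S} :=
    { smul := fun s x => ⟨a s x, hst s x x.2⟩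
      one_smul := fun x => Subtype.ext (show a 1 (x : α) = x by rw [map_one]; rfl)
      mul_smul := fun s t x => Subtype.ext (show a (s * t) (x : α) = a s (a t x) by rw [map_mul]; rfl) }
  haveI : Finite {x // x ∈ S} := Finite.of_fintype _
  obtain ⟨x, hx⟩ := hP.nonempty_fixed_point_of_prime_not_dvd_card {x // x ∈ S} (by
    rwa [Nat.card_eq_fintype_card, Fintype.card_coe])
  exact ⟨x, x.2, fun s => congrArg Subtype.val (hx s)⟩

section Restrict

variable {K P : Type*} [Group K] [Group P]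

/-- Automorphisms restricted to a stable subgroup. -/
def restrictAut (φ : P →* MulAut K) (H : Subgroup K) (h : ∀ s, ∀ x ∈ H, φ s x ∈ H) : P →* MulAut H where
  toFun s :=
    { toFun := fun x => ⟨φ s x, h s x x.2⟩
      invFun := fun x => ⟨φ s⁻¹ x, h s⁻¹ x x.2⟩
      left_inv := fun x => Subtype.ext (show φ s⁻¹ (φ s (x : K)) = x by
        rw [← MulAut.mul_apply, ← map_mul, inv_mul_cancel, map_one]; rfl)
      right_inv := fun x => Subtype.ext (show φ s (φ s⁻¹ (x : K)) = x by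
        rw [← MulAut.mul_apply, ← map_mul, mul_inv_cancel, map_one]; rfl)
      map_mul' := fun x y => Subtype.ext (map_mul (φ s) (x : K) y) }
  map_one' := MulEquiv.ext fun x => Subtype.ext (show φ 1 (x : K) = x by rw [map_one]; rfl)
  map_mul' s t := MulEquiv.ext fun x => Subtype.ext (show φ (s * t) (x : K) = φ s (φ t x) by rw [map_mul]; rfl)

@[simp] theorem coe_restrictAut (φ : P →* MulAut K) (H : Subgroup K) (h : ∀ s, ∀ x ∈ H, φ s x ∈ H) (s : P)
    (x : H) : ((restrictAut φ H h s x : H) : K) = φ s x := rfl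

/-- The action on functions induced by an action by automorphisms. -/
def funPerm (φ : P →* MulAut K) : P →* Equiv.Perm (K → ℂ) where
  toFun s :=
    { toFun := fun f x => f (φ s⁻¹ x)
      invFun := fun f x => f (φ s x)
      left_inv := fun f => funext fun x => show f (φ s⁻¹ (φ s x)) = f x by
        rw [← MulAut.mul_apply, ← map_mul, inv_mul_cancel, map_one]; rfl
      right_inv := fun f => funext fun x => show f (φ s (φ s⁻¹ x)) = f x by
        rw [← MulAut.mul_apply, ← map_mul, mul_inv_cancel, map_one]; rfl }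
  map_one' := Equiv.ext fun f => funext fun x => show f (φ 1⁻¹ x) = f x by rw [inv_one, map_one]; rfl
  map_mul' s t := Equiv.ext fun f => funext fun x => show f (φ (s * t)⁻¹ x) = f (φ t⁻¹ (φ s⁻¹ x)) by
    rw [mul_inv_rev, map_mul]; rfl

@[simp] theorem funPerm_apply (φ : P →* MulAut K) (s : P) (f : K → ℂ) (x : K) :
    funPerm φ s f x = f (φ s⁻¹ x) := rfl

theorem isInv_of_funPerm_fixed {φ : P →* MulAut K} {f : K → ℂ} (h : ∀ s, funPerm φ s f = f) : IsInv φ f := by
  intro s x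
  have := congrFun (h s⁻¹) x
  rwa [funPerm_apply, inv_inv] at this

theorem funPerm_of_isInv {φ : P →* MulAut K} {f : K → ℂ} (h : IsInv φ f) (s : P) : funPerm φ s f = f :=
  funext fun x => h _ x

end Restrict

/-- Gallagher's theorem, parametrized by the characters of the quotient. -/
theorem gallagher_quot {G : Type*} [Group G] [Fintype G] {N : Subgroup G} [N.Normal] {θ : N → ℂ}
    (hθ : IsIrrCharacter N θ) (hinv : ∀ g, conjFn N θ g = θ) {χ : G → ℂ} (hχ : IsIrrCharacter G χ)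
    (hext : ∀ n : N, χ n = θ n) :
    (∀ β : IrrCharacter (G ⧸ N), IsIrrCharacter G (fun g : G => (β : G ⧸ N → ℂ) g * χ g) ∧
        classInner (fun n : N => (β : G ⧸ N → ℂ) ((n : G) : G ⧸ N) * χ n) θ ≠ 0) ∧
      (∀ β β' : IrrCharacter (G ⧸ N),
        (∀ g : G, (β : G ⧸ N → ℂ) g * χ g = (β' : G ⧸ N → ℂ) g * χ g) → β = β') ∧
      ∀ ψ : G → ℂ, IsIrrCharacter G ψ → classInner (fun n : N => ψ n) θ ≠ 0 →
        ∃ β : IrrCharacter (G ⧸ N), ∀ g : G, (β : G ⧸ N → ℂ) g * χ g = ψ g := by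
  have h1 : ∀ g, conjFn N (fun _ : N => (1 : ℂ)) g = fun _ => 1 := fun g => rfl
  have hprod : (fun _ : N => (1 : ℂ)) * θ = θ := by funext n; simp
  obtain ⟨hA, hB, hS⟩ := gallagher (φ := fun _ : N => (1 : ℂ)) isIrrCharacter_one h1 hinv
    (hprod.symm ▸ hθ) hχ hext
  have hinfl : ∀ β : IrrCharacter (G ⧸ N), IsIrrCharacter G (fun g : G => (β : G ⧸ N → ℂ) g) ∧
      classInner (indFun N fun _ => (1 : ℂ)) (fun g : G => (β : G ⧸ N → ℂ) g) ≠ 0 := by
    intro β
    have hb := isIrrCharacter_comp_surjective β.2 (QuotientGroup.mk' N) (QuotientGroup.mk'_surjective N)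
    refine ⟨hb, ?_⟩
    rw [classInner_indFun N _ (show IsClassFunction G (fun g : G => (β : G ⧸ N → ℂ) g) from hb.isClassFunction)]
    have hc : (fun h : N => (β : G ⧸ N → ℂ) ((h : G) : G ⧸ N)) = ((β : G ⧸ N → ℂ) 1) • fun _ : N => (1 : ℂ) := by
      funext n
      rw [Pi.smul_apply, smul_eq_mul, mul_one, (QuotientGroup.eq_one_iff (n : G)).mpr n.2]
    rw [hc, classInner_smul_right, classInner_irr_self isIrrCharacter_one, mul_one, map_ne_zero]
    exact β.2.one_ne_zero
  refine ⟨fun β => ?_, fun β β' h => ?_, fun ψ hψ hne => ?_⟩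
  · obtain ⟨hb, hn⟩ := hinfl β
    refine ⟨(hA _ hb hn).1, ?_⟩
    have h2 := (hA _ hb hn).2
    rw [hprod, classInner_indFun N θ (hA _ hb hn).1.isClassFunction] at h2
    intro h0
    apply h2
    rw [← conj_classInner]
    simp only [Pi.mul_apply]
    rw [h0, map_zero]
  · obtain ⟨hb, hn⟩ := hinfl β
    obtain ⟨hb', hn'⟩ := hinfl β'
    have := hB _ _ hb hb' hn hn' (funext h)
    exact Subtype.ext (funext fun q => by
      obtain ⟨g, rfl⟩ := QuotientGroup.mk_surjective q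
      exact congrFun this g)
  · obtain ⟨β, hβ, hβ1, rfl⟩ := hS ψ hψ (by
      rw [hprod, classInner_indFun N θ hψ.isClassFunction, ← conj_classInner, map_ne_zero]
      exact hne)
    have hker : ∀ z ∈ N, β z = β 1 := by
      intro z hz
      rw [classInner_indFun N _ hβ.isClassFunction, ← conj_classInner, map_ne_zero] at hβ1
      have hcl := clifford hβ isIrrCharacter_one hβ1
      have hz' := congrFun hcl ⟨z, hz⟩
      have h1' := congrFun hcl 1
      simp only [Pi.smul_apply, Finset.sum_apply] at hz' h1'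
      rw [OneMemClass.coe_one] at h1'
      rw [hz', h1']
      congr 1
      refine Finset.sum_congr rfl fun f hf => ?_
      obtain ⟨g, rfl⟩ := mem_orbitFinset.mp hf
      rfl
    obtain ⟨b, hb⟩ := exists_descend (P := N) hβ hker
    exact ⟨b, fun g => by rw [Pi.mul_apply, hb]; rfl⟩

section Main

variable {p : ℕ} [Fact p.Prime] {P : Type*} [Group P] [Finite P]

section Stable

variable {T : Type*} [Group T] [Fintype T] {φ : P →* MulAut T} {Q : Subgroup T} [Q.Normal]
  {C : Type*} [Group C] [Fintype C] {ι : C →* T} {j : Q →* C}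

/-- The correspondence over a character stable under the group and the operators. -/
theorem correspondence_stable (hP : IsPGroup p P) (hQ : ∀ s, ∀ q ∈ Q, φ s q ∈ Q) (hQp : IsPGroup p Q)
    (hQsyl : ¬ p ∣ Q.index) (hι : Function.Injective ι) (hfix : ∀ t, t ∈ ι.range ↔ ∀ s, φ s t * t⁻¹ ∈ Q)
    (hj : ∀ q : Q, ι (j q) = q) {θ : Q → ℂ} (hθ : IsIrrCharacter Q θ) (hTinv : ∀ g, conjFn Q θ g = θ)
    (hPinv : IsInv (restrictAut φ Q hQ) θ) :
    ∃ f : {ψ : IrrCharacter T // IsInv φ (ψ : T → ℂ) ∧ classInner (fun q : Q => (ψ : T → ℂ) q) θ ≠ 0} →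
        {η : IrrCharacter C // classInner (fun q : Q => (η : C → ℂ) (j q)) θ ≠ 0},
      Function.Bijective f ∧
      (∀ η : {η : IrrCharacter C // classInner (fun q : Q => (η : C → ℂ) (j q)) θ ≠ 0},
        ∀ (s : P) (c c' : C), ι c' = φ s (ι c) → (η.1 : C → ℂ) c' = (η.1 : C → ℂ) c) ∧
      ∀ ψ η, ∃ m : ℕ, classInner (fun c => (ψ.1 : T → ℂ) (ι c)) (η.1 : C → ℂ) = m ∧
        (η = f ψ → (m : ZMod p) = 1 ∨ (m : ZMod p) = -1) ∧ (η ≠ f ψ → p ∣ m) := by
  haveI : Fintype (T ⧸ Q) := Fintype.ofFinite _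
  obtain ⟨d, hd⟩ := exists_degree hθ.isCharacter
  obtain ⟨k, hk⟩ := IsPGroup.iff_card.mp hQp
  have hdetpow : ∀ n : Q, detChar θ n ^ Nat.card Q = 1 := by
    intro n
    obtain ⟨D, hD, -⟩ := exists_detHom hθ.isCharacter
    rw [← hD, ← Units.val_pow_eq_pow_val, ← map_pow, pow_card_eq_one', map_one, Units.val_one]
  have hddvd : d ∣ Nat.card Q := by
    have h := charDegree_dvd_card (⟨θ, hθ⟩ : IrrCharacter Q)
    rwa [charDegree_eq hd] at h
  have hcop : Nat.Coprime Q.index (d * Nat.card Q) := by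
    refine Nat.Coprime.mul_right ?_ ?_
    · refine Nat.Coprime.coprime_dvd_right hddvd ?_
      rw [hk]
      exact ((Nat.Prime.coprime_iff_not_dvd Fact.out).mpr hQsyl).symm.pow_right _
    · rw [hk]
      exact ((Nat.Prime.coprime_iff_not_dvd Fact.out).mpr hQsyl).symm.pow_right _
  obtain ⟨χ₀, hχ₀, hext₀⟩ := exists_extension_of_coprime hθ hTinv hd hdetpow hcop
  -- an extension fixed by the operators
  let L := T ⧸ Q →* ℂˣ
  haveI : Finite L := inferInstance
  haveI := Fintype.ofFinite L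
  let ext : L → (T → ℂ) := fun μ g => (μ (g : T ⧸ Q) : ℂ) * χ₀ g
  obtain ⟨-, hinj₀, -⟩ := gallagher_quot hθ hTinv hχ₀ hext₀
  have hextinj : Function.Injective ext := by
    intro μ μ' h
    have := hinj₀ ⟨_, isIrrCharacter_linear μ⟩ ⟨_, isIrrCharacter_linear μ'⟩ (congrFun h)
    exact MonoidHom.ext fun q => Units.ext (congrFun (congrArg Subtype.val this) q)
  have hLcard : ¬ p ∣ Fintype.card L := by
    intro h
    obtain ⟨μ, hμ⟩ := exists_prime_orderOf_dvd_card p h
    apply hQsyl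
    rw [← hμ]
    refine orderOf_dvd_of_pow_eq_one (MonoidHom.ext fun q => ?_)
    rw [MonoidHom.pow_apply, MonoidHom.one_apply, ← map_pow, Subgroup.index_eq_card, pow_card_eq_one', map_one]
  obtain ⟨χ₁, hχ₁mem, hχ₁fix⟩ := exists_fixed_mem hP (funPerm φ) (univ.image ext) (fun s x hx => by
    obtain ⟨μ, -, rfl⟩ := Finset.mem_image.mp hx
    have hmul : IsIrrCharacter T (ext μ) :=
      ((gallagher_quot hθ hTinv hχ₀ hext₀).1 ⟨_, isIrrCharacter_linear μ⟩).1
    have hirr : IsIrrCharacter T (funPerm φ s (ext μ)) :=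
      isIrrCharacter_comp_surjective hmul (φ s⁻¹).toMonoidHom (φ s⁻¹).surjective
    have hres : ∀ n : Q, funPerm φ s (ext μ) n = χ₀ n := by
      intro n
      rw [funPerm_apply]
      show (μ ((φ s⁻¹ (n : T) : T) : T ⧸ Q) : ℂ) * χ₀ (φ s⁻¹ (n : T)) = χ₀ n
      rw [(QuotientGroup.eq_one_iff _).mpr (hQ _ _ n.2), map_one, Units.val_one, one_mul, hext₀ n,
        hext₀ ⟨_, hQ _ _ n.2⟩]
      exact hPinv s⁻¹ n
    obtain ⟨ν, hν1, hν⟩ := exists_linear_of_extensions hχ₀ hirr hres (by simpa only [hext₀] using hθ)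
    refine Finset.mem_image.mpr ⟨QuotientGroup.lift Q ν fun g hg => hν1 g hg, Finset.mem_univ _, funext fun g => ?_⟩
    exact hν g) (by rwa [Finset.card_image_of_injective _ hextinj, Finset.card_univ])
  obtain ⟨μ₁, -, rfl⟩ := Finset.mem_image.mp hχ₁mem
  set χe := ext μ₁ with hχe
  have hχeirr : IsIrrCharacter T χe := ((gallagher_quot hθ hTinv hχ₀ hext₀).1 ⟨_, isIrrCharacter_linear μ₁⟩).1
  have hχeinv : IsInv φ χe := isInv_of_funPerm_fixed hχ₁fix
  have hexte : ∀ n : Q, χe n = θ n := fun n => by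
    show (μ₁ ((n : T) : T ⧸ Q) : ℂ) * χ₀ n = θ n
    rw [(QuotientGroup.eq_one_iff _).mpr n.2, map_one, Units.val_one, one_mul, hext₀ n]
  -- the quotient action
  have hmap : ∀ s, Q.map ((φ s : T ≃* T) : T →* T) = Q := by
    intro s
    ext x
    refine ⟨?_, fun hx => ⟨φ s⁻¹ x, hQ _ _ hx, ?_⟩⟩
    · rintro ⟨y, hy, rfl⟩; exact hQ s y hy
    · show φ s (φ s⁻¹ x) = x
      rw [← MulAut.mul_apply, ← map_mul, mul_inv_cancel, map_one]; rfl
  let φb : P →* MulAut (T ⧸ Q) :=
    { toFun := fun s => QuotientGroup.congr Q Q (φ s) (hmap s)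
      map_one' := MulEquiv.ext fun q => by
        obtain ⟨g, rfl⟩ := QuotientGroup.mk_surjective q
        show ((φ 1 g : T) : T ⧸ Q) = g
        rw [map_one]; rfl
      map_mul' := fun s t => MulEquiv.ext fun q => by
        obtain ⟨g, rfl⟩ := QuotientGroup.mk_surjective q
        show ((φ (s * t) g : T) : T ⧸ Q) = ((φ s (φ t g) : T) : T ⧸ Q)
        rw [map_mul]; rfl }
  have hφb : ∀ s (g : T), φb s (g : T ⧸ Q) = ((φ s g : T) : T ⧸ Q) := fun s g => rfl
  set N : Subgroup C := Q.comap ι with hN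
  let ιb : C ⧸ N →* T ⧸ Q := QuotientGroup.map N Q ι le_rfl
  have hιb : ∀ c : C, ιb (c : C ⧸ N) = ((ι c : T) : T ⧸ Q) := fun c => rfl
  have hιbinj : Function.Injective ιb := by
    rw [← MonoidHom.ker_eq_bot_iff, eq_bot_iff]
    intro x hx
    obtain ⟨c, rfl⟩ := QuotientGroup.mk_surjective x
    rw [MonoidHom.mem_ker, hιb, QuotientGroup.eq_one_iff] at hx
    exact Subgroup.mem_bot.mpr ((QuotientGroup.eq_one_iff c).mpr hx)
  have hfixb : ∀ x : T ⧸ Q, (∀ s, φb s x = x) ↔ x ∈ Set.range ιb := by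
    intro x
    obtain ⟨g, rfl⟩ := QuotientGroup.mk_surjective x
    constructor
    · intro h
      have hg : g ∈ ι.range := (hfix g).mpr fun s => by
        have h1 := h s
        rw [hφb, QuotientGroup.eq] at h1
        have h2 := Subgroup.Normal.conj_mem ‹Q.Normal› _ (inv_mem h1) g
        simpa [mul_assoc] using h2
      obtain ⟨c, rfl⟩ := hg
      exact ⟨c, hιb c⟩
    · rintro ⟨y, hy⟩ s
      obtain ⟨c, rfl⟩ := QuotientGroup.mk_surjective y
      rw [hιb] at hy
      rw [← hy, hφb, eq_comm, QuotientGroup.eq]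
      have h1 := (hfix (ι c)).mp ⟨c, rfl⟩ s
      have h2 := Subgroup.Normal.conj_mem ‹Q.Normal› _ h1 (ι c)⁻¹
      simpa [mul_assoc] using h2
  haveI : Fintype (C ⧸ N) := Fintype.ofFinite _
  have hp : ¬ p ∣ Nat.card (T ⧸ Q) := by rwa [← Subgroup.index_eq_card]
  obtain ⟨Φ, hΦ, hΦiff, hΦpm⟩ := glauberman φb ιb hP hιbinj hfixb hp
  -- characters of the fixed subgroup over `θ`
  let eN : N ≃* Q :=
    { toFun := fun n => ⟨ι n, n.2⟩
      invFun := fun q => ⟨j q, show ι (j q) ∈ Q by rw [hj]; exact q.2⟩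
      left_inv := fun n => Subtype.ext (hι (hj ⟨ι n, n.2⟩))
      right_inv := fun q => Subtype.ext (hj q)
      map_mul' := fun a b => Subtype.ext (map_mul ι (a : C) b) }
  let θN : N → ℂ := fun n => θ (eN n)
  have hθN : IsIrrCharacter N θN := isIrrCharacter_comp_surjective hθ eN.toMonoidHom eN.surjective
  have hθNinv : ∀ c, conjFn N θN c = θN := fun c => by
    funext n
    show θ ⟨ι (c * n * c⁻¹), _⟩ = θ ⟨ι n, _⟩
    refine (congrArg θ (Subtype.ext (by simp))).trans (congrFun (hTinv (ι c)) ⟨ι n, n.2⟩)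
  let ηe : C → ℂ := fun c => χe (ι c)
  have hηeext : ∀ n : N, ηe n = θN n := fun n => hexte ⟨ι n, n.2⟩
  have hηe : IsIrrCharacter C ηe := by
    refine isIrrCharacter_of_comp N.subtype (isCharacter_comp hχeirr.isCharacter ι) ?_
    simpa only [Subgroup.coe_subtype, hηeext] using hθN
  obtain ⟨hC1, hC2, hC3⟩ := gallagher_quot hθN hθNinv hηe hηeext
  obtain ⟨hT1, hT2, hT3⟩ := gallagher_quot hθ hTinv hχeirr hexte
  have hover : ∀ η : C → ℂ, classInner (fun n : N => η n) θN = classInner (fun q : Q => η (j q)) θ := by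
    intro η
    rw [← classInner_comp_equiv eN (fun q : Q => η (j q)) θ]
    congr 1
    funext n
    exact congrArg η (hι (hj ⟨ι n, n.2⟩)).symm
  -- both parametrizations
  let upC : IrrCharacter (C ⧸ N) → {η : IrrCharacter C // classInner (fun q : Q => (η : C → ℂ) (j q)) θ ≠ 0} :=
    fun γ => ⟨⟨_, (hC1 γ).1⟩, by
      exact (hover _).symm.trans_ne (hC1 γ).2⟩
  have hupC : Function.Bijective upC := by
    refine ⟨fun γ γ' h => hC2 γ γ' (congrFun (congrArg (fun x => (x.1 : C → ℂ)) h)), fun η => ?_⟩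
    obtain ⟨γ, hγ⟩ := hC3 η.1 η.1.2 ((hover _).trans_ne η.2)
    exact ⟨γ, Subtype.ext (Subtype.ext (funext hγ))⟩
  let upT : {β : IrrCharacter (T ⧸ Q) // IsInv φb (β : T ⧸ Q → ℂ)} →
      {ψ : IrrCharacter T // IsInv φ (ψ : T → ℂ) ∧ classInner (fun q : Q => (ψ : T → ℂ) q) θ ≠ 0} :=
    fun β => ⟨⟨_, (hT1 β.1).1⟩, fun s g => by
      show (β.1 : T ⧸ Q → ℂ) ((φ s g : T) : T ⧸ Q) * χe (φ s g) = (β.1 : T ⧸ Q → ℂ) g * χe g
      rw [hχeinv s g, ← hφb, β.2 s], (hT1 β.1).2⟩
  have hupT : Function.Bijective upT := by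
    refine ⟨fun β β' h => Subtype.ext (hT2 _ _ (congrFun (congrArg (fun x => (x.1 : T → ℂ)) h))), fun ψ => ?_⟩
    obtain ⟨β, hβ⟩ := hT3 ψ.1 ψ.1.2 ψ.2.2
    refine ⟨⟨β, fun s => ?_⟩, Subtype.ext (Subtype.ext (funext hβ))⟩
    let β' : IrrCharacter (T ⧸ Q) :=
      ⟨_, isIrrCharacter_comp_surjective β.2 (φb s).toMonoidHom (φb s).surjective⟩
    have heq : β' = β := hT2 β' β fun g => by
      show (β : T ⧸ Q → ℂ) (φb s g) * χe g = (β : T ⧸ Q → ℂ) g * χe g
      rw [hφb]
      calc (β : T ⧸ Q → ℂ) ((φ s g : T) : T ⧸ Q) * χe g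
          = (β : T ⧸ Q → ℂ) ((φ s g : T) : T ⧸ Q) * χe (φ s g) := by rw [hχeinv s g]
        _ = (ψ.1 : T → ℂ) (φ s g) := hβ _
        _ = (ψ.1 : T → ℂ) g := ψ.2.1 s g
        _ = _ := (hβ g).symm
    exact fun q => congrFun (congrArg Subtype.val heq) q
  let eT := Equiv.ofBijective _ hupT
  let eC := Equiv.ofBijective _ hupC
  refine ⟨fun ψ => eC (Φ (eT.symm ψ)), eC.bijective.comp (hΦ.comp eT.symm.bijective), ?_, ?_⟩
  · intro η s c c' hc
    obtain ⟨γ, rfl⟩ := hupC.2 η
    show (γ : C ⧸ N → ℂ) c' * χe (ι c') = (γ : C ⧸ N → ℂ) c * χe (ι c)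
    have hq : (c' : C ⧸ N) = c := hιbinj (by
      rw [hιb, hιb, hc, ← hφb]
      exact (hfixb _).mpr ⟨_, hιb c⟩ s)
    rw [hc, hχeinv s, hq]
  · intro ψ η
    obtain ⟨β, rfl⟩ := hupT.2 ψ
    obtain ⟨γ, rfl⟩ := hupC.2 η
    refine ⟨gMult ιb β.1 γ, ?_, ?_, ?_⟩
    · have hdec : (fun c => (upT β).1.1 (ι c))
          = ∑ γ' : IrrCharacter (C ⧸ N), (gMult ιb β.1 γ' : ℂ) • ((upC γ').1 : C → ℂ) := by
        funext c
        show (β.1 : T ⧸ Q → ℂ) ((ι c : T) : T ⧸ Q) * χe (ι c) = _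
        rw [← hιb, restrict_eq ιb β.1, Finset.sum_mul, Finset.sum_apply]
        refine Finset.sum_congr rfl fun γ' _ => ?_
        show _ = (gMult ιb β.1 γ' : ℂ) * ((γ' : C ⧸ N → ℂ) c * χe (ι c))
        rw [mul_assoc]
      rw [hdec, classInner_sum_left, Finset.sum_eq_single γ (fun γ' _ hne => ?_) (by simp), classInner_smul_left,
        classInner_irr_self (upC γ).1.2, mul_one]
      rw [classInner_smul_left, classInner_irr_ne (upC γ').1.2 (upC γ).1.2 (fun h => hne (hupC.1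
        (Subtype.ext (Subtype.ext h)))), mul_zero]
    · intro h
      have hγ : γ = Φ (eT.symm (upT β)) := hupC.1 h
      have he : eT.symm (upT β) = β := Equiv.ofBijective_symm_apply_apply _ _ β
      rw [he] at hγ
      subst hγ
      rcases hΦpm β with h1 | h1 <;> rw [← ZMod.intCast_eq_intCast_iff] at h1 <;> push_cast at h1
      · exact Or.inl h1
      · exact Or.inr h1
    · intro h
      by_contra hp'
      refine h ?_
      show upC γ = eC (Φ (eT.symm (upT β)))
      rw [show eT.symm (upT β) = β from Equiv.ofBijective_symm_apply_apply _ _ β, ← (hΦiff β γ).mp hp']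
      rfl

end Stable

/-- Induction commutes with an automorphism fixing the subgroup. -/
theorem indFun_transport {K : Type*} [Group K] [Fintype K] (α : MulAut K) (H : Subgroup K)
    (hH : ∀ x, α x ∈ H ↔ x ∈ H) (f f' : H → ℂ) (hf : ∀ z : H, f' ⟨α z, (hH z).mpr z.2⟩ = f z) (x : K) :
    indFun H f' (α x) = indFun H f x := by
  have hext : ∀ z : K, extendByZero H f' (α z) = extendByZero H f z := by
    intro z
    simp only [extendByZero]
    by_cases h : z ∈ H
    · exact (Subtype.val_injective.extend_apply f' 0 ⟨α z, (hH z).mpr h⟩).trans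
        ((hf ⟨z, h⟩).trans (Subtype.val_injective.extend_apply f 0 ⟨z, h⟩).symm)
    · have h1 : ¬ ∃ a : H, (a : K) = z := by rintro ⟨a, rfl⟩; exact h a.2
      have h2 : ¬ ∃ a : H, (a : K) = α z := by
        rintro ⟨a, ha⟩
        have h3 : α z ∈ H := by rw [← ha]; exact a.2
        exact h ((hH z).mp h3)
      rw [Function.extend_apply' _ _ _ h1, Function.extend_apply' _ _ _ h2]
      rfl
  simp only [indFun]
  congr 1
  symm
  refine Fintype.sum_equiv α.toEquiv _ _ fun y => ?_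
  show _ = extendByZero H f' ((α y)⁻¹ * α x * α y)
  rw [← map_inv, ← map_mul, ← map_mul, hext]

section General

variable {K : Type*} [Group K] [Fintype K] {φ : P →* MulAut K} {Q : Subgroup K} [Q.Normal]

/-- An invariant character of a stable subgroup has an invariant constituent below. -/
theorem exists_inv_constituent (hP : IsPGroup p P) (hQ : ∀ s, ∀ q ∈ Q, φ s q ∈ Q) (hQsyl : ¬ p ∣ Q.index)
    (H : Subgroup K) (hQH : Q ≤ H) (hH : ∀ s, ∀ x ∈ H, φ s x ∈ H) {ξ : H → ℂ}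
    (hξ : IsIrrCharacter H ξ) (hinv : IsInv (restrictAut φ H hH) ξ) :
    ∃ θ : Q → ℂ, IsIrrCharacter Q θ ∧ IsInv (restrictAut φ Q hQ) θ ∧
      classInner (fun q : Q => ξ ⟨q, hQH q.2⟩) θ ≠ 0 := by
  let e : Q.subgroupOf H ≃* Q := Subgroup.subgroupOfEquivOfLe hQH
  obtain ⟨θ₀, hθ₀, hne₀⟩ := classInner_res_ne_zero (N := Q.subgroupOf H) hξ
  let S : Finset (Q → ℂ) := (orbitFinset (Q.subgroupOf H) θ₀).image fun f => fun q => f (e.symm q)
  have hcomp : ∀ f : Q.subgroupOf H → ℂ, classInner (fun q : Q => ξ ⟨q, hQH q.2⟩) (fun q => f (e.symm q))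
      = classInner (fun n : Q.subgroupOf H => ξ n) f := by
    intro f
    rw [← classInner_comp_equiv e]
    congr 1
  have hmem : ∀ θ : Q → ℂ, θ ∈ S ↔ IsIrrCharacter Q θ ∧ classInner (fun q : Q => ξ ⟨q, hQH q.2⟩) θ ≠ 0 := by
    intro θ
    rw [Finset.mem_image]
    constructor
    · rintro ⟨f, hf, rfl⟩
      obtain ⟨g, rfl⟩ := mem_orbitFinset.mp hf
      refine ⟨isIrrCharacter_comp_surjective (isIrrCharacter_conjFn hθ₀ g) e.symm.toMonoidHom e.symm.surjective, ?_⟩
      rw [hcomp, classInner_res_conjFn hξ.isClassFunction]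
      exact hne₀
    · rintro ⟨hθ, hne⟩
      have hn : IsIrrCharacter (Q.subgroupOf H) fun n => θ (e n) :=
        isIrrCharacter_comp_surjective hθ e.toMonoidHom e.surjective
      refine ⟨fun n => θ (e n), mem_orbitFinset.mpr (exists_conjFn_eq hξ hθ₀ hn hne₀ ?_), ?_⟩
      · rw [← hcomp]
        simpa only [MulEquiv.apply_symm_apply] using hne
      · funext q; simp only [MulEquiv.apply_symm_apply]
  have hcard : ¬ p ∣ S.card := by
    rw [Finset.card_image_of_injective _ fun f f' h => funext fun n => by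
      simpa only [MulEquiv.symm_apply_apply] using congrFun h (e n)]
    intro h
    apply hQsyl
    refine (h.trans ?_).trans (show (Q.subgroupOf H).index ∣ Q.index from Subgroup.relIndex_dvd_index_of_normal Q H)
    have h1 := card_stabilizer_mul_card_orbit (N := Q.subgroupOf H) θ₀
    rw [← card_inertia] at h1
    obtain ⟨c, hc⟩ := Subgroup.card_dvd_of_le (le_inertia (N := Q.subgroupOf H) hθ₀.isClassFunction)
    have h2 := (Q.subgroupOf H).card_mul_index
    refine ⟨c, mul_left_cancel₀ (Nat.card_pos (α := Q.subgroupOf H)).ne' ?_⟩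
    rw [h2, ← h1, hc]
    ring
  obtain ⟨θ, hθS, hθfix⟩ := exists_fixed_mem hP (funPerm (restrictAut φ Q hQ)) S (fun s θ hθ => by
    obtain ⟨hirr, hne⟩ := (hmem θ).mp hθ
    refine (hmem _).mpr ⟨isIrrCharacter_comp_surjective hirr (restrictAut φ Q hQ s⁻¹).toMonoidHom
      (restrictAut φ Q hQ s⁻¹).surjective, ?_⟩
    rw [← classInner_comp_equiv (restrictAut φ Q hQ s)]
    convert hne using 2
    · funext q
      exact hinv s ⟨q, hQH q.2⟩
    · funext q
      rw [funPerm_apply, ← MulAut.mul_apply, ← map_mul, inv_mul_cancel, map_one]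
      rfl) hcard
  exact ⟨θ, ((hmem θ).mp hθS).1, isInv_of_funPerm_fixed hθfix, ((hmem θ).mp hθS).2⟩

/-- Invariant conjugate characters are conjugate by an element fixed modulo `Q`. -/
theorem exists_fixed_conj_char (hP : IsPGroup p P) (hQ : ∀ s, ∀ q ∈ Q, φ s q ∈ Q) (hQsyl : ¬ p ∣ Q.index)
    {θ θ' : Q → ℂ} (hθ : IsClassFunction Q θ) (hθinv : IsInv (restrictAut φ Q hQ) θ)
    (hθ'inv : IsInv (restrictAut φ Q hQ) θ') {k : K} (hk : conjFn Q θ k = θ') :
    ∃ c : K, (∀ s, φ s c * c⁻¹ ∈ Q) ∧ conjFn Q θ c = θ' := by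
  haveI : Fintype (K ⧸ Q) := Fintype.ofFinite _
  have hmap : ∀ s, ∀ x : K, conjFn Q θ x = θ' → conjFn Q θ (φ s x) = θ' := by
    intro s x hx
    funext n
    obtain ⟨m, rfl⟩ : ∃ m, restrictAut φ Q hQ s m = n := (restrictAut φ Q hQ s).surjective n
    rw [hθ'inv s m, ← hx]
    exact (congrArg θ (Subtype.ext (by simp))).trans (hθinv s ⟨x * m * x⁻¹, ‹Q.Normal›.conj_mem m m.2 x⟩)
  have hθ'c : IsClassFunction Q θ' := by
    rw [← hk]
    intro a b
    simp only [conjFn_eq_comp, map_mul, map_inv]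
    exact hθ _ _
  have hsat : ∀ x : K, ∀ q ∈ Q, conjFn Q θ x = θ' → conjFn Q θ (x * q) = θ' := by
    intro x q hq hx
    rw [← conjFn_conjFn, hx]
    exact conjFn_mem hθ'c ⟨q, hq⟩
  let a : P →* Equiv.Perm (K ⧸ Q) :=
    { toFun := fun s =>
        { toFun := fun x => QuotientGroup.map Q Q (φ s).toMonoidHom (fun y hy => hQ s y hy) x
          invFun := fun x => QuotientGroup.map Q Q (φ s⁻¹).toMonoidHom (fun y hy => hQ s⁻¹ y hy) x
          left_inv := fun x => by
            obtain ⟨g, rfl⟩ := QuotientGroup.mk_surjective x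
            show ((φ s⁻¹ (φ s g) : K) : K ⧸ Q) = g
            rw [← MulAut.mul_apply, ← map_mul, inv_mul_cancel, map_one]; rfl
          right_inv := fun x => by
            obtain ⟨g, rfl⟩ := QuotientGroup.mk_surjective x
            show ((φ s (φ s⁻¹ g) : K) : K ⧸ Q) = g
            rw [← MulAut.mul_apply, ← map_mul, mul_inv_cancel, map_one]; rfl }
      map_one' := Equiv.ext fun x => by
        obtain ⟨g, rfl⟩ := QuotientGroup.mk_surjective x
        show ((φ 1 g : K) : K ⧸ Q) = g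
        rw [map_one]; rfl
      map_mul' := fun s t => Equiv.ext fun x => by
        obtain ⟨g, rfl⟩ := QuotientGroup.mk_surjective x
        show ((φ (s * t) g : K) : K ⧸ Q) = ((φ s (φ t g) : K) : K ⧸ Q)
        rw [map_mul]; rfl }
  let S : Finset (K ⧸ Q) := (univ.filter fun x : K => conjFn Q θ x = θ').image fun x : K => (x : K ⧸ Q)
  have hS : ¬ p ∣ S.card := by
    have hpre : (QuotientGroup.mk : K → K ⧸ Q) ⁻¹' (S : Set (K ⧸ Q)) = {x : K | conjFn Q θ x = θ'} := by
      ext x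
      simp only [Set.mem_preimage, S, Finset.mem_coe, Finset.mem_image, Finset.mem_filter, Finset.mem_univ,
        true_and, Set.mem_setOf_eq]
      refine ⟨?_, fun h => ⟨x, h, rfl⟩⟩
      rintro ⟨y, hy, hyx⟩
      rw [QuotientGroup.eq] at hyx
      simpa [← mul_assoc] using hsat y _ hyx hy
    have h1 : Nat.card Q * S.card = Nat.card (inertia Q θ) := by
      rw [card_inertia, ← card_conjFn_eq k, hk, ← Fintype.card_coe S, ← Nat.card_eq_fintype_card (α := {x // x ∈ S}),
        ← Nat.card_prod]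
      exact (Nat.card_congr (QuotientGroup.preimageMkEquivSubgroupProdSet Q (S : Set (K ⧸ Q)))).symm.trans
        (Nat.card_congr (Equiv.setCongr hpre))
    intro h
    apply hQsyl
    obtain ⟨c, hc⟩ := Subgroup.card_subgroup_dvd_card (inertia Q θ)
    refine h.trans ⟨c, mul_left_cancel₀ (Nat.card_pos (α := Q)).ne' ?_⟩
    rw [Subgroup.card_mul_index, hc, ← h1]
    ring
  obtain ⟨x, hxS, hxfix⟩ := exists_fixed_mem hP a S (fun s x hx => by
    obtain ⟨y, hy, rfl⟩ := Finset.mem_image.mp hx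
    exact Finset.mem_image.mpr ⟨φ s y, Finset.mem_filter.mpr ⟨Finset.mem_univ _, hmap s y (Finset.mem_filter.mp hy).2⟩, rfl⟩) hS
  obtain ⟨c, hc, rfl⟩ := Finset.mem_image.mp hxS
  refine ⟨c, fun s => ?_, (Finset.mem_filter.mp hc).2⟩
  have h1 : ((φ s c : K) : K ⧸ Q) = c := hxfix s
  rw [QuotientGroup.eq] at h1
  have h2 := Subgroup.Normal.conj_mem ‹Q.Normal› _ (inv_mem h1) c
  simpa [mul_assoc] using h2

/-- The Glauberman correspondence over a normal Sylow subgroup. -/
theorem glauberman_normal_sylow (hP : IsPGroup p P) (hQ : ∀ s, ∀ q ∈ Q, φ s q ∈ Q) (hQp : IsPGroup p Q)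
    (hQsyl : ¬ p ∣ Q.index) (Cs : Subgroup K) (hCs : ∀ k, k ∈ Cs ↔ ∀ s, φ s k * k⁻¹ ∈ Q)
    (hCst : ∀ s, ∀ x ∈ Cs, φ s x ∈ Cs) :
    ∃ f : {χ : IrrCharacter K // IsInv φ (χ : K → ℂ)} →
        {ξ : IrrCharacter Cs // IsInv (restrictAut φ Cs hCst) (ξ : Cs → ℂ)},
      Function.Bijective f ∧
      ∀ χ, (∀ ξ, ∃ m : ℕ, classInner (fun c : Cs => (χ.1 : K → ℂ) c) (ξ.1 : Cs → ℂ) = m ∧
          (ξ = f χ → (m : ZMod p) = 1 ∨ (m : ZMod p) = -1) ∧ (ξ ≠ f χ → p ∣ m)) ∧
        ((charDegree ((f χ).1 : Cs → ℂ) : ZMod p) = charDegree (χ.1 : K → ℂ) ∨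
          (charDegree ((f χ).1 : Cs → ℂ) : ZMod p) = -(charDegree (χ.1 : K → ℂ) : ZMod p)) := by
  have hQCs : Q ≤ Cs := fun q hq => (hCs q).mpr fun s => mul_mem (hQ s q hq) (inv_mem hq)
  choose mm hmm using fun (χ : IrrCharacter K) (ξ : IrrCharacter Cs) =>
    classInner_nat (isCharacter_restrict χ.2.isCharacter Cs) ξ.2.isCharacter
  -- the local correspondence over an invariant character of `Q`
  have key : ∀ θ : Q → ℂ, IsIrrCharacter Q θ → IsInv (restrictAut φ Q hQ) θ →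
      (∀ χ : {χ : IrrCharacter K // IsInv φ (χ : K → ℂ)}, classInner (fun q : Q => (χ.1 : K → ℂ) q) θ ≠ 0 →
        ∃ ξ : {ξ : IrrCharacter Cs // IsInv (restrictAut φ Cs hCst) (ξ : Cs → ℂ)},
          ((mm χ.1 ξ.1 : ZMod p) = 1 ∨ (mm χ.1 ξ.1 : ZMod p) = -1) ∧
          ∀ ξ' : {ξ : IrrCharacter Cs // IsInv (restrictAut φ Cs hCst) (ξ : Cs → ℂ)},
            classInner (fun q : Q => (ξ'.1 : Cs → ℂ) ⟨q, hQCs q.2⟩) θ ≠ 0 → ¬ p ∣ mm χ.1 ξ'.1 → ξ' = ξ) ∧
      ∀ ξ : {ξ : IrrCharacter Cs // IsInv (restrictAut φ Cs hCst) (ξ : Cs → ℂ)},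
        classInner (fun q : Q => (ξ.1 : Cs → ℂ) ⟨q, hQCs q.2⟩) θ ≠ 0 →
        ∃ χ : {χ : IrrCharacter K // IsInv φ (χ : K → ℂ)}, ¬ p ∣ mm χ.1 ξ.1 ∧
          ∀ χ' : {χ : IrrCharacter K // IsInv φ (χ : K → ℂ)},
            classInner (fun q : Q => (χ'.1 : K → ℂ) q) θ ≠ 0 → ¬ p ∣ mm χ'.1 ξ.1 → χ' = χ := by
    intro θ hθ hθinv
    let I := inertia Q θ
    have hQI : Q ≤ I := le_inertia hθ.isClassFunction
    have hIst : ∀ s, ∀ x ∈ I, φ s x ∈ I := by
      intro s x hx
      show conjFn Q θ (φ s x) = θ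
      funext n
      obtain ⟨n', rfl⟩ : ∃ m, restrictAut φ Q hQ s m = n := (restrictAut φ Q hQ s).surjective n
      have h1 : conjFn Q θ x n' = θ n' := congrFun hx n'
      rw [hθinv s n', ← h1]
      exact (congrArg θ (Subtype.ext (by simp))).trans (hθinv s ⟨x * n' * x⁻¹, ‹Q.Normal›.conj_mem n' n'.2 x⟩)
    have hIiff : ∀ s x, φ s x ∈ I ↔ x ∈ I := fun s x => ⟨fun h => by
      have := hIst s⁻¹ _ h
      rwa [← MulAut.mul_apply, ← map_mul, inv_mul_cancel, map_one] at this, hIst s x⟩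
    let ι : I.subgroupOf Cs →* I :=
      { toFun := fun x => ⟨((x : Cs) : K), x.2⟩
        map_one' := rfl
        map_mul' := fun _ _ => rfl }
    let j : Q.subgroupOf I →* I.subgroupOf Cs :=
      { toFun := fun x => ⟨⟨((x : I) : K), hQCs x.2⟩, hQI x.2⟩
        map_one' := rfl
        map_mul' := fun _ _ => rfl }
    let eQ : Q.subgroupOf I ≃* Q := Subgroup.subgroupOfEquivOfLe hQI
    let θI : Q.subgroupOf I → ℂ := fun x => θ (eQ x)
    have hQ' : ∀ s, ∀ q ∈ Q.subgroupOf I, restrictAut φ I hIst s q ∈ Q.subgroupOf I := fun s q hq => hQ s _ hq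
    obtain ⟨fA, hfA, hAinv, hAm⟩ := correspondence_stable (φ := restrictAut φ I hIst) (Q := Q.subgroupOf I)
      (ι := ι) (j := j) (θ := θI) hP hQ' (hQp.of_equiv eQ.symm)
      (fun h => hQsyl (h.trans (Subgroup.relIndex_dvd_index_of_normal Q I)))
      (fun a b h => Subtype.ext (Subtype.ext (congrArg (fun x : I => (x : K)) h)))
      (fun t => by
        constructor
        · rintro ⟨c, rfl⟩ s
          exact (hCs _).mp c.1.2 s
        · intro h
          exact ⟨⟨⟨(t : K), (hCs _).mpr h⟩, t.2⟩, rfl⟩)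
      (fun q => rfl) (isIrrCharacter_comp_surjective hθ eQ.toMonoidHom eQ.surjective)
      (fun g => funext fun n => congrFun (show conjFn Q θ (g : K) = θ from g.2) (eQ n))
      (fun s n => hθinv s (eQ n))
    have hresI : ∀ ψ : I → ℂ, classInner (fun q : Q.subgroupOf I => ψ q) θI
        = classInner (fun q : Q => ψ ⟨q, hQI q.2⟩) θ := fun ψ => by
      rw [← classInner_comp_equiv eQ (fun q : Q => ψ ⟨q, hQI q.2⟩) θ]; rfl
    have hresJ : ∀ η : I.subgroupOf Cs → ℂ, classInner (fun q : Q.subgroupOf I => η (j q)) θI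
        = classInner (fun q : Q => η ⟨⟨q, hQCs q.2⟩, hQI q.2⟩) θ := fun η => by
      rw [← classInner_comp_equiv eQ (fun q : Q => η ⟨⟨q, hQCs q.2⟩, hQI q.2⟩) θ]; rfl
    -- Clifford correspondence on both sides
    have hψex : ∀ χ : {χ : IrrCharacter K // IsInv φ (χ : K → ℂ)},
        classInner (fun q : Q => (χ.1 : K → ℂ) q) θ ≠ 0 →
        ∃ ψ : {ψ : IrrCharacter I // IsInv (restrictAut φ I hIst) (ψ : I → ℂ) ∧
          classInner (fun q : Q.subgroupOf I => (ψ : I → ℂ) q) θI ≠ 0},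
          indFun I (ψ.1 : I → ℂ) = (χ.1 : K → ℂ) ∧
          classInner (fun q : Q => (ψ.1 : I → ℂ) ⟨q, hQI q.2⟩) θ = classInner (fun q : Q => (χ.1 : K → ℂ) q) θ := by
      intro χ hne
      obtain ⟨ψ, hψ, hind, hmult⟩ := exists_indFun_eq hθ I rfl hQI χ.1.2 hne
      have hψθ : classInner (fun q : Q => ψ ⟨q, hQI q.2⟩) θ ≠ 0 := hmult ▸ hne
      refine ⟨⟨⟨ψ, hψ⟩, fun s => ?_, by rw [hresI]; exact hψθ⟩, hind, hmult⟩
      let α := restrictAut φ I hIst s
      have hψ' : IsIrrCharacter I fun x => ψ (α x) := isIrrCharacter_comp_surjective hψ α.toMonoidHom α.surjective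
      have heq : (fun x => ψ (α x)) = ψ := by
        refine (indFun_of_mem_inertia hθ I rfl hQI hψ hψθ).2 _ hψ' ?_ ?_
        · intro h0
          apply hψθ
          rw [← classInner_comp_equiv (restrictAut φ Q hQ s)]
          refine Eq.trans ?_ h0
          congr 1
          funext q
          exact hθinv s q
        · funext x
          have hχs : indFun I ψ (φ s x) = indFun I ψ x := by rw [hind]; exact χ.2 s x
          rw [← hχs]
          exact (indFun_transport (φ s) I (hIiff s) _ ψ (fun z => rfl) x).symm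
      exact fun x => congrFun heq x
    let eC : Q.subgroupOf Cs ≃* Q := Subgroup.subgroupOfEquivOfLe hQCs
    let θC : Q.subgroupOf Cs → ℂ := fun x => θ (eC x)
    have hθC : IsIrrCharacter (Q.subgroupOf Cs) θC :=
      isIrrCharacter_comp_surjective hθ eC.toMonoidHom eC.surjective
    have hIC : I.subgroupOf Cs = inertia (Q.subgroupOf Cs) θC := by
      ext c
      rw [mem_inertia, Subgroup.mem_subgroupOf]
      constructor
      · intro h; funext n; exact congrFun h (eC n)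
      · intro h; show conjFn Q θ (c : K) = θ
        funext q
        obtain ⟨n, rfl⟩ := eC.surjective q
        exact congrFun h n
    have hQIC : Q.subgroupOf Cs ≤ I.subgroupOf Cs := fun x hx => hQI hx
    have hresC : ∀ ξ : Cs → ℂ, classInner (fun n : Q.subgroupOf Cs => ξ n) θC
        = classInner (fun q : Q => ξ ⟨q, hQCs q.2⟩) θ := fun ξ => by
      rw [← classInner_comp_equiv eC (fun q : Q => ξ ⟨q, hQCs q.2⟩) θ]; rfl
    have hresCI : ∀ η : I.subgroupOf Cs → ℂ,
        classInner (fun n : Q.subgroupOf Cs => η ⟨(n : Cs), hQIC n.2⟩) θC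
        = classInner (fun q : Q => η ⟨⟨q, hQCs q.2⟩, hQI q.2⟩) θ := fun η => by
      rw [← classInner_comp_equiv eC (fun q : Q => η ⟨⟨q, hQCs q.2⟩, hQI q.2⟩) θ]; rfl
    have hηex : ∀ ξ : IrrCharacter Cs, classInner (fun q : Q => (ξ : Cs → ℂ) ⟨q, hQCs q.2⟩) θ ≠ 0 →
        ∃ η : {η : IrrCharacter (I.subgroupOf Cs) //
          classInner (fun q : Q.subgroupOf I => (η : I.subgroupOf Cs → ℂ) (j q)) θI ≠ 0},
          indFun (I.subgroupOf Cs) (η.1 : I.subgroupOf Cs → ℂ) = (ξ : Cs → ℂ) := by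
      intro ξ hne
      obtain ⟨η, hη, hind, hmult⟩ := exists_indFun_eq hθC (I.subgroupOf Cs) hIC hQIC ξ.2 (by rw [hresC]; exact hne)
      refine ⟨⟨⟨η, hη⟩, ?_⟩, hind⟩
      rw [hresJ, ← hresCI, hmult, hresC]
      exact hne
    -- a multiplicity is computed in the inertia groups
    have hmult : ∀ (χ : IrrCharacter K) (ψ : IrrCharacter I) (ξ : IrrCharacter Cs)
        (η : IrrCharacter (I.subgroupOf Cs)), indFun I (ψ : I → ℂ) = (χ : K → ℂ) →
        classInner (fun q : Q => (ψ : I → ℂ) ⟨q, hQI q.2⟩) θ = classInner (fun q : Q => (χ : K → ℂ) q) θ →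
        classInner (fun q : Q.subgroupOf I => (η : I.subgroupOf Cs → ℂ) (j q)) θI ≠ 0 →
        indFun (I.subgroupOf Cs) (η : I.subgroupOf Cs → ℂ) = (ξ : Cs → ℂ) →
        classInner (fun c => (ψ : I → ℂ) (ι c)) (η : I.subgroupOf Cs → ℂ) = (mm χ ξ : ℂ) := by
      intro χ ψ ξ η hχψ hψm hη hξη
      rw [← hmm, ← hξη, classInner_indFun_right (I.subgroupOf Cs) _
        (isClassFunction_of_isCharacter (isCharacter_restrict χ.2.isCharacter Cs))]
      obtain ⟨a, ha⟩ := exists_decomposition (isCharacter_restrict χ.2.isCharacter I)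
      have hθI : IsIrrCharacter (Q.subgroupOf I) θI := isIrrCharacter_comp_surjective hθ eQ.toMonoidHom eQ.surjective
      choose b hb using fun l : IrrCharacter I =>
        classInner_nat (isCharacter_comp (isCharacter_comp l.2.isCharacter ι) j) hθI.isCharacter
      have haψ : a ψ ≠ 0 := by
        intro h0
        have h1 : classInner (fun x : I => (χ : K → ℂ) x) (ψ : I → ℂ) = 0 := by
          rw [ha, classInner_sum_irr, h0, Nat.cast_zero]
        rw [← classInner_indFun_right I _ χ.2.isClassFunction, hχψ, classInner_irr_self χ.2] at h1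
        exact one_ne_zero h1
      have hsum : (b ψ : ℕ) = ∑ l, a l * b l := by
        have e1 : ((∑ l, a l * b l : ℕ) : ℂ) = classInner (fun q : Q => (χ : K → ℂ) q) θ := by
          rw [← classInner_comp_equiv eQ, show (fun x : Q.subgroupOf I => (χ : K → ℂ) (eQ x : K))
              = ∑ l : IrrCharacter I, (a l : ℂ) • (fun x => (l : I → ℂ) (ι (j x))) from funext fun x => by
            refine (congrFun ha (x : I)).trans ?_
            simp only [Finset.sum_apply, Pi.smul_apply]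
            rfl, classInner_sum_left, Nat.cast_sum]
          exact Finset.sum_congr rfl fun l _ => by rw [classInner_smul_left, hb, Nat.cast_mul]
        have e2 : (b ψ : ℂ) = classInner (fun q : Q => (χ : K → ℂ) q) θ := by
          rw [← hψm, ← hb, ← hresI]; rfl
        exact_mod_cast e2.trans e1.symm
      choose c hc using fun l : IrrCharacter I =>
        classInner_nat (isCharacter_comp l.2.isCharacter ι) η.2.isCharacter
      have hzero : ∀ l, l ≠ ψ → a l ≠ 0 → c l = 0 := by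
        intro l hne hal
        by_contra hcl
        have hbl : b l ≠ 0 := by
          intro h0
          have h1 := classInner_res_trans ι j l.2.isCharacter η
            ⟨θI, hθI⟩
            (by rw [hc]; exact_mod_cast hcl) hη
          rw [hb, h0, Nat.cast_zero] at h1
          exact h1 rfl
        have hbψ : b ψ ≠ 0 := by
          intro h0
          have h2 := Finset.sum_eq_zero_iff.mp (hsum ▸ h0) l (Finset.mem_univ _)
          exact mul_ne_zero hal hbl h2
        have h3 : a ψ * b ψ + a l * b l ≤ ∑ l, a l * b l :=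
          (Finset.sum_pair (f := fun l => a l * b l) (Ne.symm hne)).symm.le.trans
            (Finset.sum_le_sum_of_subset (Finset.subset_univ _))
        have h4 := Nat.le_mul_of_pos_left (b ψ) (Nat.pos_of_ne_zero haψ)
        have h5 := Nat.pos_of_ne_zero (mul_ne_zero hal hbl)
        omega
      have haψ1 : a ψ = 1 := by
        have h1 : classInner (fun x : I => (χ : K → ℂ) x) (ψ : I → ℂ) = 1 := by
          rw [← classInner_indFun_right I _ χ.2.isClassFunction, hχψ, classInner_irr_self χ.2]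
        rw [ha, classInner_sum_irr] at h1
        exact_mod_cast h1
      rw [show (fun h : I.subgroupOf Cs => (χ : K → ℂ) ((h : Cs) : K))
          = ∑ l : IrrCharacter I, (a l : ℂ) • (fun x => (l : I → ℂ) (ι x)) from funext fun x => by
        refine (congrFun ha (ι x)).trans ?_
        simp only [Finset.sum_apply, Pi.smul_apply], classInner_sum_left, Finset.sum_eq_single ψ
          (fun l _ hne => by
            rw [classInner_smul_left, hc]
            by_cases hal : a l = 0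
            · rw [hal, Nat.cast_zero, zero_mul]
            · rw [hzero l hne hal, Nat.cast_zero, mul_zero]) (by simp),
        classInner_smul_left, haψ1, Nat.cast_one, one_mul]
    refine ⟨fun χ hχ => ?_, fun ξ hξ => ?_⟩
    · obtain ⟨ψ, hψ, hψm⟩ := hψex χ hχ
      set η := fA ψ with hη
      have hη2 : classInner (fun n : Q.subgroupOf Cs => (η.1 : I.subgroupOf Cs → ℂ) ⟨(n : Cs), hQIC n.2⟩) θC ≠ 0 := by
        rw [hresCI, ← hresJ]; exact η.2
      have hξirr := (indFun_of_mem_inertia hθC (I.subgroupOf Cs) hIC hQIC η.1.2 hη2).1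
      have hξinv : IsInv (restrictAut φ Cs hCst) (indFun (I.subgroupOf Cs) (η.1 : I.subgroupOf Cs → ℂ)) :=
        fun s x => indFun_transport (restrictAut φ Cs hCst s) (I.subgroupOf Cs) (fun z => hIiff s (z : K)) _ _
          (fun z => hAinv η s z _ rfl) x
      refine ⟨⟨⟨_, hξirr⟩, hξinv⟩, ?_, fun ξ' hξ' hp' => ?_⟩
      · obtain ⟨m, hm, hm1, -⟩ := hAm ψ η
        rw [hmult χ.1 ψ.1 ⟨_, hξirr⟩ η.1 hψ hψm η.2 rfl] at hm
        rw [show mm χ.1 ⟨_, hξirr⟩ = m from by exact_mod_cast hm]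
        exact hm1 rfl
      · obtain ⟨η', hη'⟩ := hηex ξ'.1 hξ'
        obtain ⟨m, hm, -, hm2⟩ := hAm ψ η'
        rw [hmult χ.1 ψ.1 ξ'.1 η'.1 hψ hψm η'.2 hη'] at hm
        have : η' = η := by
          by_contra hne
          exact hp' ((show mm χ.1 ξ'.1 = m from by exact_mod_cast hm) ▸ hm2 hne)
        exact Subtype.ext (Subtype.ext (hη'.symm.trans (by rw [this])))
    · obtain ⟨η, hη⟩ := hηex ξ.1 hξ
      obtain ⟨ψ, hψ⟩ := hfA.2 η
      have hψθ : classInner (fun q : Q => (ψ.1 : I → ℂ) ⟨q, hQI q.2⟩) θ ≠ 0 := by rw [← hresI]; exact ψ.2.2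
      obtain ⟨hirr, huniq⟩ := indFun_of_mem_inertia hθ I rfl hQI ψ.1.2 hψθ
      have hχinv : IsInv φ (indFun I (ψ.1 : I → ℂ)) :=
        fun s x => indFun_transport (φ s) I (hIiff s) _ _ (fun z => ψ.2.1 s z) x
      have hne : classInner (fun q : Q => indFun I (ψ.1 : I → ℂ) q) θ ≠ 0 := by
        have h1 := classInner_res_trans I.subtype (Subgroup.inclusion hQI) hirr.isCharacter ψ.1 ⟨θ, hθ⟩
          (by
            show classInner (fun x : I => indFun I (ψ.1 : I → ℂ) x) (ψ.1 : I → ℂ) ≠ 0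
            rw [← classInner_indFun_right I _ hirr.isClassFunction, classInner_irr_self hirr]
            exact one_ne_zero) hψθ
        exact h1
      obtain ⟨ψ₁, hind₁, hψ₁m⟩ := hψex ⟨⟨_, hirr⟩, hχinv⟩ hne
      have hψeq : ψ₁ = ψ := Subtype.ext (Subtype.ext (huniq _ ψ₁.1.2 (hψ₁m ▸ hne) hind₁))
      subst hψeq
      refine ⟨⟨⟨_, hirr⟩, hχinv⟩, ?_, fun χ' hχ' hp' => ?_⟩
      · obtain ⟨m, hm, hm1, -⟩ := hAm ψ₁ η
        rw [hmult ⟨_, hirr⟩ ψ₁.1 ξ.1 η.1 rfl hψ₁m η.2 hη] at hm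
        rw [show mm (⟨_, hirr⟩ : IrrCharacter K) ξ.1 = m from by exact_mod_cast hm]
        intro hdvd
        have h0 : (m : ZMod p) = 0 := (CharP.cast_eq_zero_iff (ZMod p) p m).mpr hdvd
        rcases hm1 hψ.symm with h1 | h1 <;> rw [h0] at h1
        · exact zero_ne_one h1
        · exact neg_ne_zero.mpr one_ne_zero h1.symm
      · obtain ⟨ψ', hind', hψ'm⟩ := hψex χ' hχ'
        obtain ⟨m, hm, -, hm2⟩ := hAm ψ' η
        rw [hmult χ'.1 ψ'.1 ξ.1 η.1 hind' hψ'm η.2 hη] at hm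
        have hη' : η = fA ψ' := by
          by_contra hne
          exact hp' ((show mm χ'.1 ξ.1 = m from by exact_mod_cast hm) ▸ hm2 hne)
        have : ψ' = ψ₁ := hfA.1 (hη'.symm.trans hψ.symm)
        exact Subtype.ext (Subtype.ext (hind'.symm.trans (by rw [this])))
  -- constituents transfer
  have hover : ∀ (χ : {χ : IrrCharacter K // IsInv φ (χ : K → ℂ)})
      (ξ : {ξ : IrrCharacter Cs // IsInv (restrictAut φ Cs hCst) (ξ : Cs → ℂ)}) (θ : Q → ℂ),
      IsIrrCharacter Q θ → IsInv (restrictAut φ Q hQ) θ →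
      classInner (fun q : Q => (χ.1 : K → ℂ) q) θ ≠ 0 → ¬ p ∣ mm χ.1 ξ.1 →
      classInner (fun q : Q => (ξ.1 : Cs → ℂ) ⟨q, hQCs q.2⟩) θ ≠ 0 := by
    intro χ ξ θ hθ hθinv hχθ hp'
    obtain ⟨θ', hθ', hθ'inv, hξθ'⟩ := exists_inv_constituent hP hQ hQsyl Cs hQCs hCst ξ.1.2 ξ.2
    have h1 : classInner (fun q : Q => (χ.1 : K → ℂ) q) θ' ≠ 0 :=
      classInner_res_trans Cs.subtype (Subgroup.inclusion hQCs) χ.1.2.isCharacter ξ.1 ⟨θ', hθ'⟩
        (by
          show classInner (fun x : Cs => (χ.1 : K → ℂ) x) (ξ.1 : Cs → ℂ) ≠ 0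
          rw [hmm, Nat.cast_ne_zero]
          exact fun h0 => hp' (h0 ▸ dvd_zero p)) hξθ'
    obtain ⟨k, hk⟩ := exists_conjFn_eq χ.1.2 hθ' hθ h1 hχθ
    obtain ⟨c, hc, hc'⟩ := exists_fixed_conj_char hP hQ hQsyl hθ'.isClassFunction hθ'inv hθinv hk.symm
    have hres : conjFn Q (fun q : Q => (ξ.1 : Cs → ℂ) ⟨q, hQCs q.2⟩) c = fun q : Q => (ξ.1 : Cs → ℂ) ⟨q, hQCs q.2⟩ :=
      funext fun q => ξ.1.2.isClassFunction ⟨q, hQCs q.2⟩ ⟨c, (hCs c).mpr hc⟩
    rw [← hc', ← hres, classInner_conjFn]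
    exact hξθ'
  have hex : ∀ χ : {χ : IrrCharacter K // IsInv φ (χ : K → ℂ)},
      ∃ ξ : {ξ : IrrCharacter Cs // IsInv (restrictAut φ Cs hCst) (ξ : Cs → ℂ)},
        ((mm χ.1 ξ.1 : ZMod p) = 1 ∨ (mm χ.1 ξ.1 : ZMod p) = -1) ∧
        ∀ ξ' : {ξ : IrrCharacter Cs // IsInv (restrictAut φ Cs hCst) (ξ : Cs → ℂ)}, ¬ p ∣ mm χ.1 ξ'.1 → ξ' = ξ := by
    intro χ
    obtain ⟨θ, hθ, hθinv, hχθ⟩ := exists_inv_constituent hP hQ hQsyl ⊤ le_top (fun _ _ _ => Subgroup.mem_top _)
      (ξ := fun x : (⊤ : Subgroup K) => (χ.1 : K → ℂ) x)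
      (isIrrCharacter_comp_surjective χ.1.2 (Subgroup.topEquiv (G := K)).toMonoidHom (Subgroup.topEquiv).surjective)
      (fun s x => χ.2 s x)
    obtain ⟨ξ, h1, h2⟩ := (key θ hθ hθinv).1 χ hχθ
    exact ⟨ξ, h1, fun ξ' hp' => h2 ξ' (hover χ ξ' θ hθ hθinv hχθ hp') hp'⟩
  choose f hf1 hf2 using hex
  have hnd : ∀ χ, ¬ p ∣ mm χ.1 (f χ).1 := by
    intro χ hdvd
    have h0 : (mm χ.1 (f χ).1 : ZMod p) = 0 := (CharP.cast_eq_zero_iff (ZMod p) p _).mpr hdvd
    rcases hf1 χ with h1 | h1 <;> rw [h0] at h1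
    · exact zero_ne_one h1
    · exact neg_ne_zero.mpr one_ne_zero h1.symm
  refine ⟨f, ⟨fun χ χ' h => ?_, fun ξ => ?_⟩, fun χ => ⟨fun ξ => ⟨mm χ.1 ξ.1, hmm _ _, fun e => e ▸ hf1 χ, fun hne =>
    not_not.mp fun h => hne (hf2 χ ξ h)⟩, ?_⟩⟩
  · obtain ⟨θ, hθ, hθinv, hξθ⟩ := exists_inv_constituent hP hQ hQsyl Cs hQCs hCst (f χ).1.2 (f χ).2
    obtain ⟨χ₀, -, hu⟩ := (key θ hθ hθinv).2 (f χ) hξθ
    have hχθ : ∀ ω, ¬ p ∣ mm ω (f χ).1 → classInner (fun q : Q => (ω : K → ℂ) q) θ ≠ 0 := fun ω hp' =>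
      classInner_res_trans Cs.subtype (Subgroup.inclusion hQCs) ω.2.isCharacter (f χ).1 ⟨θ, hθ⟩
        (by
          show classInner (fun x : Cs => (ω : K → ℂ) x) ((f χ).1 : Cs → ℂ) ≠ 0
          rw [hmm, Nat.cast_ne_zero]
          exact fun h0 => hp' (h0 ▸ dvd_zero p)) hξθ
    have hp2 : ¬ p ∣ mm χ'.1 (f χ).1 := h.symm ▸ hnd χ'
    rw [hu χ (hχθ _ (hnd χ)) (hnd χ), hu χ' (hχθ _ hp2) hp2]
  · obtain ⟨θ, hθ, hθinv, hξθ⟩ := exists_inv_constituent hP hQ hQsyl Cs hQCs hCst ξ.1.2 ξ.2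
    obtain ⟨χ, hχ, -⟩ := (key θ hθ hθinv).2 ξ hξθ
    exact ⟨χ, (hf2 χ ξ hχ).symm⟩
  · -- degrees
    letI : MulAction P (Cs → ℂ) := MulAction.compHom (Cs → ℂ) (funPerm (restrictAut φ Cs hCst))
    have hirrperm : ∀ s (ξ : IrrCharacter Cs), IsIrrCharacter Cs (funPerm (restrictAut φ Cs hCst) s (ξ : Cs → ℂ)) :=
      fun s ξ => isIrrCharacter_comp_surjective ξ.2 (restrictAut φ Cs hCst s⁻¹).toMonoidHom
        (restrictAut φ Cs hCst s⁻¹).surjective
    letI : MulAction P (IrrCharacter Cs) :=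
      { smul := fun s ξ => ⟨_, hirrperm s ξ⟩
        one_smul := fun ξ => Subtype.ext (show funPerm (restrictAut φ Cs hCst) 1 (ξ : Cs → ℂ) = _ by rw [map_one]; rfl)
        mul_smul := fun s t ξ => Subtype.ext (show funPerm (restrictAut φ Cs hCst) (s * t) (ξ : Cs → ℂ) = _ by rw [map_mul]; rfl) }
    have hinvterm : ∀ (s : P) (ξ : IrrCharacter Cs), mm χ.1 (s • ξ) = mm χ.1 ξ ∧
        charDegree ((s • ξ : IrrCharacter Cs) : Cs → ℂ) = charDegree (ξ : Cs → ℂ) := by
      intro s ξ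
      refine ⟨?_, ?_⟩
      · have h : (mm χ.1 (s • ξ) : ℂ) = mm χ.1 ξ := by
          rw [← hmm, ← hmm, ← classInner_comp_equiv (restrictAut φ Cs hCst s)]
          congr 1
          · funext c; exact χ.2 s c
          · funext c
            show funPerm _ s (ξ : Cs → ℂ) (restrictAut φ Cs hCst s c) = _
            rw [funPerm_apply, ← MulAut.mul_apply, ← map_mul, inv_mul_cancel, map_one]; rfl
        exact_mod_cast h
      · refine charDegree_eq ?_
        show funPerm _ s (ξ : Cs → ℂ) 1 = _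
        rw [funPerm_apply, map_one, coe_charDegree]
    have hdeg : (charDegree (χ.1 : K → ℂ) : ZMod p)
        = ∑ ξ : IrrCharacter Cs, (mm χ.1 ξ : ZMod p) * (charDegree (ξ : Cs → ℂ) : ZMod p) := by
      have h : (charDegree (χ.1 : K → ℂ) : ℂ)
          = ((∑ ξ : IrrCharacter Cs, mm χ.1 ξ * charDegree (ξ : Cs → ℂ) : ℕ) : ℂ) := by
        push_cast
        simp only [coe_charDegree, ← hmm]
        have e := congrFun (classFunction_expansion
          (isClassFunction_of_isCharacter (isCharacter_restrict χ.1.2.isCharacter Cs))) 1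
        simpa [Finset.sum_apply] using e
      rw [show charDegree (χ.1 : K → ℂ) = ∑ ξ : IrrCharacter Cs, mm χ.1 ξ * charDegree (ξ : Cs → ℂ) from
        by exact_mod_cast h]
      push_cast
      rfl
    rw [sum_eq_sum_fixed hP (CharP.cast_eq_zero (ZMod p) p) _ (fun s ξ => by
      rw [(hinvterm s ξ).1, (hinvterm s ξ).2]), Finset.sum_eq_single (f χ).1] at hdeg
    · rcases hf1 χ with h1 | h1 <;> rw [h1] at hdeg
      · left; rw [hdeg, one_mul]
      · right; rw [hdeg, neg_one_mul, neg_neg]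
    · intro ξ hξ hne
      have hinv : IsInv (restrictAut φ Cs hCst) (ξ : Cs → ℂ) :=
        isInv_of_funPerm_fixed fun s => congrArg Subtype.val ((Finset.mem_filter.mp hξ).2 s)
      have : (mm χ.1 ξ : ZMod p) = 0 := (CharP.cast_eq_zero_iff (ZMod p) p _).mpr
        (not_not.mp fun h => hne (congrArg Subtype.val (hf2 χ ⟨ξ, hinv⟩ h)))
      rw [this, zero_mul]
    · intro h
      exact absurd (Finset.mem_filter.mpr ⟨Finset.mem_univ _, fun s => Subtype.ext (funPerm_of_isInv (f χ).2 s)⟩) h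

end General

end Main

end Cfsg.Lib.Blocks
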