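import Cfsg.Agent.Lib.Blocks.Glauberman

/-!
# Solvable coprime operator groups: fixed characters and fixed classes
-/

namespace Cfsg.Lib.Blocks

open Cfsg.Lib.Characters Finset
open scoped ComplexConjugate Classical commutatorElement

set_option linter.unusedSectionVars false
set_option linter.style.haveILetI false
set_option linter.style.longLine false

universe u v

/-- A nontrivial finite solvable group has a nontrivial normal subgroup of prime power order. -/
theorem exists_normal_pSubgroup {S : Type v} [Group S] [Finite S] [hs : Group.IsSolvable S]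
    (hS : Nat.card S ≠ 1) :
    ∃ (p : ℕ) (N : Subgroup S), p.Prime ∧ N.Normal ∧ IsPGroup p N ∧ p ∣ Nat.card N := by
  haveI : Nontrivial S := Finite.one_lt_card_iff_nontrivial.mp (by
    have := Nat.card_pos (α := S); omega)
  obtain ⟨n, hn⟩ := hs.solvable
  obtain ⟨m, -, hm1, hm2⟩ : ∃ m, m < n ∧ derivedSeries S m ≠ ⊥ ∧ derivedSeries S (m + 1) = ⊥ := by
    by_contra hcon
    simp only [not_exists, not_and] at hcon
    have : ∀ k, k ≤ n → derivedSeries S k ≠ ⊥ := by
      intro k
      induction k with
      | zero => exact fun _ => top_ne_bot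
      | succ k ih => exact fun hk => hcon k hk (ih (Nat.le_of_succ_le hk))
    exact this n le_rfl hn
  set A := derivedSeries S m with hA
  haveI : A.Normal := derivedSeries_normal S m
  have hab : ∀ a b : A, a * b = b * a := by
    intro a b
    have h : ⁅(a : S), (b : S)⁆ ∈ derivedSeries S (m + 1) := by
      rw [derivedSeries_succ]; exact Subgroup.commutator_mem_commutator a.2 b.2
    rw [hm2, Subgroup.mem_bot, commutatorElement_eq_one_iff_mul_comm] at h
    exact Subtype.ext h
  haveI : Nontrivial A := (Subgroup.nontrivial_iff_ne_bot A).mpr hm1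
  set p := (Nat.card A).minFac with hp
  have hpp : p.Prime := Nat.minFac_prime (by
    have := Finite.one_lt_card (α := A); omega)
  haveI := Fact.mk hpp
  obtain ⟨P⟩ := (Sylow.nonempty : Nonempty (Sylow p A))
  have hPn : (P : Subgroup A).Normal := ⟨fun x hx a => by rw [hab a x, mul_inv_cancel_right]; exact hx⟩
  haveI := P.characteristic_of_normal hPn
  refine ⟨p, (P : Subgroup A).map A.subtype, hpp, ConjAct.normal_of_characteristic_of_normal,
    P.isPGroup'.map _, ?_⟩
  rw [Subgroup.card_subtype, Sylow.card_eq_multiplicity]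
  exact dvd_pow_self p ((Nat.Prime.factorization_pos_of_dvd hpp Nat.card_pos.ne' (Nat.minFac_dvd _)).ne')

variable {G : Type u} [Group G] [Fintype G] {S : Type v} [Group S] (φ : S →* MulAut G)

/-- The fixed subgroup of a subgroup of operators. -/
def fixSub (N : Subgroup S) : Subgroup G where
  carrier := {g | ∀ s ∈ N, φ s g = g}
  mul_mem' := fun {a b} ha hb s hs => by rw [map_mul, ha s hs, hb s hs]
  one_mem' := fun s _ => map_one _
  inv_mem' := fun {a} ha s hs => by rw [map_inv, ha s hs]

theorem fixSub_map (N : Subgroup S) [N.Normal] (s : S) {g : G} (hg : g ∈ fixSub φ N) :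
    φ s g ∈ fixSub φ N := by
  intro t ht
  have h1 : s⁻¹ * t * s ∈ N := by
    have := Subgroup.Normal.conj_mem (H := N) inferInstance t ht s⁻¹
    rwa [inv_inv] at this
  calc φ t (φ s g) = φ (s * (s⁻¹ * t * s)) g := by
        rw [← MulAut.mul_apply, ← map_mul]; congr 2; group
    _ = φ s g := by rw [map_mul, MulAut.mul_apply, hg _ h1]

/-- The action on the fixed points of a normal subgroup of operators. -/
def fixAct (N : Subgroup S) [N.Normal] : S →* MulAut (fixSub φ N) where
  toFun s :=
    { toFun := fun g => ⟨φ s g, fixSub_map φ N s g.2⟩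
      invFun := fun g => ⟨φ s⁻¹ g, fixSub_map φ N s⁻¹ g.2⟩
      left_inv := fun g => Subtype.ext (by
        show φ s⁻¹ (φ s g) = g
        rw [← MulAut.mul_apply, ← map_mul, inv_mul_cancel, map_one]; rfl)
      right_inv := fun g => Subtype.ext (by
        show φ s (φ s⁻¹ g) = g
        rw [← MulAut.mul_apply, ← map_mul, mul_inv_cancel, map_one]; rfl)
      map_mul' := fun g h => Subtype.ext (map_mul (φ s) _ _) }
  map_one' := MulEquiv.ext fun g => Subtype.ext (by show φ 1 g = g; rw [map_one]; rfl)
  map_mul' s t := MulEquiv.ext fun g => Subtype.ext (by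
    show φ (s * t) g = φ s (φ t g); rw [map_mul]; rfl)

@[simp] theorem coe_fixAct (N : Subgroup S) [N.Normal] (s : S) (g : fixSub φ N) :
    ((fixAct φ N s g : fixSub φ N) : G) = φ s g := rfl

theorem fixAct_ker (N : Subgroup S) [N.Normal] : N ≤ (fixAct φ N).ker := fun t ht =>
  MonoidHom.mem_ker.mpr (MulEquiv.ext fun g => Subtype.ext (g.2 t ht))

/-- Invariant classes. -/
def IsInvClass (K : ConjClasses G) : Prop := ∀ (s : S) (g : G), ConjClasses.mk g = K → ConjClasses.mk (φ s g) = K

theorem isInvClass_mk (g : G) : IsInvClass φ (ConjClasses.mk g) ↔ ∀ s, IsConj g (φ s g) := by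
  constructor
  · exact fun h s => (ConjClasses.mk_eq_mk_iff_isConj.mp (h s g rfl)).symm
  · intro h s x hx
    rw [ConjClasses.mk_eq_mk_iff_isConj] at hx ⊢
    exact ((φ s).toMonoidHom.map_isConj hx).trans (h s).symm

/-- For coprime solvable operator groups, invariant characters and invariant classes are equal in number. -/
theorem card_inv_irr_eq : ∀ (n : ℕ) (G : Type u) [Group G] [Fintype G] (S : Type v) [Group S] [Finite S]
    (φ : S →* MulAut G), Nat.card S = n → Group.IsSolvable S → (Nat.card G).Coprime (Nat.card S) →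
    Nat.card {χ : IrrCharacter G // IsInv φ (χ : G → ℂ)} = Nat.card {K : ConjClasses G // IsInvClass φ K} := by
  intro n
  induction n using Nat.strong_induction_on with
  | _ n ih =>
    intro G _ _ S _ _ φ hn hsolv hcop
    by_cases hS1 : Nat.card S = 1
    · have : ∀ s : S, s = 1 := fun s => @Subsingleton.elim S (Nat.card_eq_one_iff_unique.mp hS1).1 s 1
      rw [Nat.card_congr (Equiv.subtypeUnivEquiv fun χ => show IsInv φ _ from fun s g => by
          rw [this s, map_one]; rfl),
        Nat.card_congr (Equiv.subtypeUnivEquiv fun K => show IsInvClass φ K from fun s g h => by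
          rw [this s, map_one]; exact h)]
      exact card_irr_eq_card_conjClasses
    haveI := hsolv
    obtain ⟨p, N, hpp, hN, hNp, hpN⟩ := exists_normal_pSubgroup hS1
    haveI := hN
    haveI := Fact.mk hpp
    have hpG : ¬ p ∣ Nat.card G := fun h => hpp.not_dvd_one (by
      have := Nat.dvd_gcd h (hpN.trans (Subgroup.card_subgroup_dvd_card N))
      rwa [hcop] at this)
    set C := fixSub φ N with hC
    set ι : C →* G := C.subtype with hι
    have hfix : ∀ g : G, (∀ s : N, (φ.comp N.subtype) s g = g) ↔ g ∈ Set.range ι := by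
      intro g
      refine ⟨fun h => ⟨⟨g, fun s hs => h ⟨s, hs⟩⟩, rfl⟩, ?_⟩
      rintro ⟨c, rfl⟩ s
      exact c.2 s s.2
    obtain ⟨Φ, hbij, hΦ, -⟩ := glauberman (φ.comp N.subtype) ι hNp C.subtype_injective hfix hpG
    obtain ⟨M, hM⟩ := exists_isPModular p
    haveI := hM.2.1.isPrime
    set ψ := fixAct φ N with hψ
    set ψq : S ⧸ N →* MulAut C := QuotientGroup.lift N ψ (fixAct_ker φ N) with hψq
    have hlt : Nat.card (S ⧸ N) < n := by
      rw [← hn, N.card_eq_card_quotient_mul_card_subgroup]
      have h1 : 0 < Nat.card (S ⧸ N) := Nat.card_pos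
      have h2 : 1 < Nat.card N := lt_of_lt_of_le hpp.one_lt (Nat.le_of_dvd Nat.card_pos hpN)
      exact lt_mul_of_one_lt_right h1 h2
    have hcop' : (Nat.card C).Coprime (Nat.card (S ⧸ N)) :=
      (hcop.coprime_dvd_left (Subgroup.card_subgroup_dvd_card C)).coprime_dvd_right
        (Subgroup.card_quotient_dvd_card N)
    have IH := ih _ hlt C (S ⧸ N) ψq rfl inferInstance hcop'
    have hq : ∀ (f : C → ℂ), IsInv ψq f ↔ IsInv ψ f := fun f =>
      ⟨fun h s c => h (s : S ⧸ N) c, fun h q c => QuotientGroup.induction_on q fun s => h s c⟩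
    have hqc : ∀ K : ConjClasses C, IsInvClass ψq K ↔ IsInvClass ψ K := fun K =>
      ⟨fun h s c => h (s : S ⧸ N) c, fun h q c => QuotientGroup.induction_on q fun s => h s c⟩
    -- characters
    let mv : S → IrrCharacter G → IrrCharacter G := fun s χ =>
      ⟨fun g => (χ : G → ℂ) (φ s g), isIrrCharacter_comp_surjective χ.2 (φ s).toMonoidHom (φ s).surjective⟩
    let mv' : S → IrrCharacter C → IrrCharacter C := fun s β =>
      ⟨fun c => (β : C → ℂ) (ψ s c), isIrrCharacter_comp_surjective β.2 (ψ s).toMonoidHom (ψ s).surjective⟩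
    have hmv : ∀ (s : S) (χ : {χ : IrrCharacter G // IsInv (φ.comp N.subtype) (χ : G → ℂ)}),
        IsInv (φ.comp N.subtype) (mv s χ.1 : G → ℂ) := by
      intro s χ t g
      show (χ.1 : G → ℂ) (φ s (φ t g)) = (χ.1 : G → ℂ) (φ s g)
      have h1 : s * (t : S) * s⁻¹ ∈ N := Subgroup.Normal.conj_mem inferInstance _ t.2 s
      rw [← χ.2 ⟨_, h1⟩ (φ s g)]
      show (χ.1 : G → ℂ) (φ s (φ (t : S) g)) = (χ.1 : G → ℂ) (φ (s * (t : S) * s⁻¹) (φ s g))
      refine congrArg _ ?_
      rw [← MulAut.mul_apply, ← MulAut.mul_apply, ← map_mul, ← map_mul]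
      congr 2; group
    have heq : ∀ s χ, Φ ⟨mv s χ.1, hmv s χ⟩ = mv' s (Φ χ) := by
      intro s χ
      refine ((hΦ ⟨mv s χ.1, hmv s χ⟩ _).mp ?_).symm
      have : gMult ι (mv s χ.1) (mv' s (Φ χ)) = gMult ι χ.1 (Φ χ) := by
        apply Nat.cast_injective (R := ℂ)
        rw [← gMult_spec, ← gMult_spec, classInner, classInner]
        congr 1
        exact Fintype.sum_equiv (ψ s).toEquiv _ _ fun c => rfl
      rw [this]
      exact (hΦ χ _).mpr rfl
    have hchar : Nat.card {χ : IrrCharacter G // IsInv φ (χ : G → ℂ)}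
        = Nat.card {β : IrrCharacter C // IsInv ψ (β : C → ℂ)} := by
      let F : {χ : IrrCharacter G // IsInv φ (χ : G → ℂ)} → {β : IrrCharacter C // IsInv ψ (β : C → ℂ)} :=
        fun χ => ⟨Φ ⟨χ.1, fun t g => χ.2 t g⟩, fun s c => by
          have h := heq s ⟨χ.1, fun t g => χ.2 t g⟩
          have e : (⟨mv s χ.1, hmv s ⟨χ.1, fun t g => χ.2 t g⟩⟩ :
              {χ : IrrCharacter G // IsInv (φ.comp N.subtype) (χ : G → ℂ)}) = ⟨χ.1, fun t g => χ.2 t g⟩ :=
            Subtype.ext (Subtype.ext (funext fun g => χ.2 s g))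
          rw [e] at h
          exact (congrFun (congrArg Subtype.val h) c).symm⟩
      refine Nat.card_congr (Equiv.ofBijective F ⟨fun a b hab => ?_, fun β => ?_⟩)
      · exact Subtype.ext (congrArg (fun x => x.1) (hbij.1 (congrArg Subtype.val hab)))
      · obtain ⟨χ, hχ⟩ := hbij.2 β.1
        refine ⟨⟨χ.1, fun s g => ?_⟩, Subtype.ext hχ⟩
        have h := heq s χ
        have e : mv' s (Φ χ) = Φ χ := Subtype.ext (funext fun c => by
          rw [hχ]; exact β.2 s c)
        rw [e] at h
        exact congrFun (congrArg Subtype.val (congrArg Subtype.val (hbij.1 h))) g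
    -- classes
    have hcls : Nat.card {K : ConjClasses C // IsInvClass ψ K} = Nat.card {K : ConjClasses G // IsInvClass φ K} := by
      have hinj : ∀ c c' : C, IsConj (ι c) (ι c') → IsConj c c' := fun c c' h =>
        isConj_of_fixed (φ.comp N.subtype) ι hNp C.subtype_injective hfix hM hpG h
      have hcompat : ∀ (s : S) (c : C), ι (ψ s c) = φ s (ι c) := fun _ _ => rfl
      let F : {K : ConjClasses C // IsInvClass ψ K} → {K : ConjClasses G // IsInvClass φ K} := fun K =>
        ⟨ConjClasses.map ι K.1, by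
          obtain ⟨c, hc⟩ := ConjClasses.exists_rep K.1
          have h := K.2
          rw [← hc, isInvClass_mk] at h
          rw [← hc]
          show IsInvClass φ (ConjClasses.mk (ι c))
          rw [isInvClass_mk]
          exact fun s => hcompat s c ▸ ι.map_isConj (h s)⟩
      refine Nat.card_congr (Equiv.ofBijective F ⟨fun a b hab => ?_, fun K => ?_⟩)
      · obtain ⟨c, hc⟩ := ConjClasses.exists_rep a.1
        obtain ⟨d, hd⟩ := ConjClasses.exists_rep b.1
        have h : ConjClasses.map ι a.1 = ConjClasses.map ι b.1 := congrArg Subtype.val hab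
        rw [← hc, ← hd] at h
        exact Subtype.ext (hc.symm.trans ((ConjClasses.mk_eq_mk_iff_isConj.mpr
          (hinj c d (ConjClasses.mk_eq_mk_iff_isConj.mp h))).trans hd))
      · obtain ⟨g, hg⟩ := ConjClasses.exists_rep K.1
        have hKinv := K.2
        rw [← hg, isInvClass_mk] at hKinv
        obtain ⟨c, hc⟩ := exists_fixed_conj (φ.comp N.subtype) ι hNp C.subtype_injective hfix hM hpG g
          fun t => hKinv t
        refine ⟨⟨ConjClasses.mk c, (isInvClass_mk _ _).mpr fun s => hinj _ _ ?_⟩, Subtype.ext ?_⟩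
        · rw [hcompat]
          exact (hc.symm.trans (hKinv s)).trans ((φ s).toMonoidHom.map_isConj hc)
        · show ConjClasses.mk (ι c) = K.1
          rw [← hg, ConjClasses.mk_eq_mk_iff_isConj]
          exact hc.symm
    rw [hchar, ← hcls]
    rw [Nat.card_congr (Equiv.subtypeEquivRight fun β : IrrCharacter C => (hq (β : C → ℂ)).symm),
      Nat.card_congr (Equiv.subtypeEquivRight fun K : ConjClasses C => (hqc K).symm)]
    exact IH

end Cfsg.Lib.Blocks
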