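import Cfsg.Agent.Lib.Blocks.GlaubermanSolvable
import Cfsg.Agent.Lib.Characters.Gallagher

/-!
# Invariant characters over an invariant character, for coprime solvable operator groups
-/

namespace Cfsg.Lib.Blocks

open Cfsg.Lib.Characters Finset
open scoped ComplexConjugate Classical

set_option linter.unusedSectionVars false
set_option linter.style.haveILetI false
set_option linter.style.longLine false

universe u v

/-- The restriction of an action to a stable subgroup. -/
def resAct {G : Type u} [Group G] {S : Type v} [Group S] (φ : S →* MulAut G) (N : Subgroup G)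
    (hN : ∀ s, ∀ n ∈ N, φ s n ∈ N) : S →* MulAut N where
  toFun s :=
    { toFun := fun n => ⟨φ s n, hN s n n.2⟩
      invFun := fun n => ⟨φ s⁻¹ n, hN s⁻¹ n n.2⟩
      left_inv := fun n => Subtype.ext (by
        show φ s⁻¹ (φ s n) = n
        rw [← MulAut.mul_apply, ← map_mul, inv_mul_cancel, map_one]; rfl)
      right_inv := fun n => Subtype.ext (by
        show φ s (φ s⁻¹ n) = n
        rw [← MulAut.mul_apply, ← map_mul, mul_inv_cancel, map_one]; rfl)
      map_mul' := fun n m => Subtype.ext (map_mul (φ s) _ _) }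
  map_one' := MulEquiv.ext fun n => Subtype.ext (by show φ 1 n = n; rw [map_one]; rfl)
  map_mul' s t := MulEquiv.ext fun n => Subtype.ext (by
    show φ (s * t) n = φ s (φ t n); rw [map_mul]; rfl)

@[simp] theorem coe_resAct {G : Type u} [Group G] {S : Type v} [Group S] (φ : S →* MulAut G)
    (N : Subgroup G) (hN : ∀ s, ∀ n ∈ N, φ s n ∈ N) (s : S) (n : N) :
    ((resAct φ N hN s n : N) : G) = φ s n := rfl

/-- The multiplicity of a constituent over a normal subgroup divides the group order. -/
theorem multiplicity_dvd_card {G : Type u} [Group G] [Fintype G] {D : Subgroup G} [D.Normal]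
    [Fintype D] (β : IrrCharacter G) (η : IrrCharacter D) {e : ℕ}
    (he : classInner (fun d : D => (β : G → ℂ) d) (η : D → ℂ) = e) (he0 : e ≠ 0) :
    e ∣ Nat.card G := by
  have hne : classInner (fun d : D => (β : G → ℂ) d) (η : D → ℂ) ≠ 0 := by
    rw [he]; exact_mod_cast he0
  obtain ⟨l, hl⟩ := exists_decomposition (isCharacter_restrict β.2.isCharacter D)
  have hlc : ∀ θ : IrrCharacter D, classInner (fun d : D => (β : G → ℂ) d) (θ : D → ℂ) = (l θ : ℂ) :=
    fun θ => by rw [hl]; exact classInner_sum_irr _ θ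
  have hval : ∀ θ : IrrCharacter D, l θ ≠ 0 → l θ = e ∧ (θ : D → ℂ) 1 = (η : D → ℂ) 1 := by
    intro θ hθ
    obtain ⟨g, hg⟩ := exists_conjFn_eq β.2 η.2 θ.2 hne (by rw [hlc]; exact_mod_cast hθ)
    refine ⟨?_, ?_⟩
    · have h := classInner_res_conjFn (χ := (β : G → ℂ)) β.2.isClassFunction (η : D → ℂ) g
      rw [← hg, hlc, he] at h
      exact_mod_cast h
    · rw [hg, conjFn_eq_comp]; simp
  obtain ⟨c, hc⟩ := exists_degree β.2.isCharacter
  obtain ⟨d, hd⟩ := exists_degree η.2.isCharacter
  obtain ⟨hdc, hidx⟩ := degree_dvd_of_normal η.2 β.2 hne hc hd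
  have h1 : (c : ℂ) = ((e * d * (univ.filter fun θ : IrrCharacter D => l θ ≠ 0).card : ℕ) : ℂ) := by
    rw [← hc, ← OneMemClass.coe_one D, congrFun hl 1, Finset.sum_apply,
      ← Finset.sum_filter_of_ne (p := fun θ : IrrCharacter D => l θ ≠ 0) (fun θ _ h h0 => h (by simp [h0])),
      Finset.sum_congr rfl (g := fun _ => (e : ℂ) * d) fun θ hθ => by
        rw [Pi.smul_apply, smul_eq_mul, (hval θ (Finset.mem_filter.mp hθ).2).1,
          (hval θ (Finset.mem_filter.mp hθ).2).2, hd],
      Finset.sum_const, nsmul_eq_mul]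
    push_cast
    ring
  have h2 : c = e * d * (univ.filter fun θ : IrrCharacter D => l θ ≠ 0).card := by exact_mod_cast h1
  have hd0 : 0 < d := Nat.pos_of_ne_zero fun h => η.2.one_ne_zero (by rw [hd, h, Nat.cast_zero])
  refine (Dvd.intro (univ.filter fun θ : IrrCharacter D => l θ ≠ 0).card ?_).trans
    (hidx.trans (Subgroup.index_dvd_card _))
  rw [h2, mul_assoc, mul_comm d, ← mul_assoc, Nat.mul_div_cancel _ hd0]

/-- Glauberman: an invariant character of a normal subgroup lies under an invariant character. -/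
theorem exists_invariant_over : ∀ (n : ℕ) (G : Type u) [Group G] [Fintype G] (S : Type v) [Group S] [Finite S]
    (φ : S →* MulAut G) (N : Subgroup G) [N.Normal] [Fintype N] (hN : ∀ s, ∀ g ∈ N, φ s g ∈ N)
    (θ : IrrCharacter N), Nat.card S = n → Group.IsSolvable S → (Nat.card G).Coprime (Nat.card S) →
    IsInv (resAct φ N hN) (θ : N → ℂ) →
    ∃ χ : IrrCharacter G, IsInv φ (χ : G → ℂ) ∧
      classInner (fun x : N => (χ : G → ℂ) x) (θ : N → ℂ) ≠ 0 := by
  intro n
  induction n using Nat.strong_induction_on with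
  | _ n ih =>
    intro G _ _ S _ _ φ N _ _ hN θ hn hsolv hcop hθ
    by_cases hS1 : Nat.card S = 1
    · have : ∀ s : S, s = 1 := fun s => @Subsingleton.elim S (Nat.card_eq_one_iff_unique.mp hS1).1 s 1
      obtain ⟨m, hm⟩ := exists_decomposition (isCharacter_indFun N θ.2.isCharacter)
      obtain ⟨χ, hχ⟩ : ∃ χ : IrrCharacter G, m χ ≠ 0 := by
        by_contra hall
        simp only [not_exists, not_not] at hall
        have h := congrFun hm 1
        simp only [hall, Nat.cast_zero, zero_smul, Finset.sum_const_zero, Pi.zero_apply,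
          indFun_one_apply] at h
        exact mul_ne_zero (Nat.cast_ne_zero.mpr Subgroup.index_ne_zero_of_finite) θ.2.one_ne_zero h
      refine ⟨χ, fun s g => by rw [this s, map_one]; rfl, fun h0 => hχ ?_⟩
      have h := classInner_indFun N (θ : N → ℂ) (χ := (χ : G → ℂ)) χ.2.isClassFunction
      rw [hm, classInner_sum_irr, ← conj_classInner, h0, map_zero] at h
      exact_mod_cast h
    haveI := hsolv
    obtain ⟨p, N₀, hpp, hN₀, hN₀p, hpN₀⟩ := exists_normal_pSubgroup hS1
    haveI := hN₀
    haveI := Fact.mk hpp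
    have hpG : ¬ p ∣ Nat.card G := fun h => hpp.not_dvd_one (by
      have := Nat.dvd_gcd h (hpN₀.trans (Subgroup.card_subgroup_dvd_card N₀))
      rwa [hcop] at this)
    have hpN : ¬ p ∣ Nat.card N := fun h => hpG (h.trans (Subgroup.card_subgroup_dvd_card N))
    obtain ⟨M, hM⟩ := exists_isPModular p
    haveI := hM.2.1.isPrime
    set C := fixSub φ N₀ with hC
    set D : Subgroup C := N.comap C.subtype with hD
    let ι' : D →* N :=
      { toFun := fun d => ⟨((d : C) : G), d.2⟩
        map_one' := rfl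
        map_mul' := fun a b => rfl }
    have hι' : Function.Injective ι' := fun a b h =>
      Subtype.ext (Subtype.ext (congrArg (fun x : N => (x : G)) h))
    set φN := resAct φ N hN with hφN
    have hfix : ∀ g : G, (∀ s : N₀, (φ.comp N₀.subtype) s g = g) ↔ g ∈ Set.range C.subtype := by
      intro g
      refine ⟨fun h => ⟨⟨g, fun s hs => h ⟨s, hs⟩⟩, rfl⟩, ?_⟩
      rintro ⟨c, rfl⟩ s
      exact c.2 s s.2
    have hfix' : ∀ x : N, (∀ s : N₀, (φN.comp N₀.subtype) s x = x) ↔ x ∈ Set.range ι' := by
      intro x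
      refine ⟨fun h => ⟨⟨⟨x, fun s hs => congrArg Subtype.val (h ⟨s, hs⟩)⟩, x.2⟩, rfl⟩, ?_⟩
      rintro ⟨d, rfl⟩ s
      exact Subtype.ext ((d : C).2 s s.2)
    obtain ⟨Φ, hbij, hΦ, -⟩ := glauberman (φ.comp N₀.subtype) C.subtype hN₀p C.subtype_injective hfix hpG
    obtain ⟨ΦN, -, hΦN, -⟩ := glauberman (φN.comp N₀.subtype) ι' hN₀p hι' hfix' hpN
    set θ₀ : {θ : IrrCharacter N // IsInv (φN.comp N₀.subtype) (θ : N → ℂ)} := ⟨θ, fun t x => hθ t x⟩
    set η := ΦN θ₀ with hη
    set ψ := fixAct φ N₀ with hψ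
    have hD' : ∀ s, ∀ c ∈ D, ψ s c ∈ D := fun s c hc => hN s _ hc
    have hηinv : IsInv (resAct ψ D hD') (η : D → ℂ) := by
      intro s d
      let η' : IrrCharacter D := ⟨fun d => (η : D → ℂ) (resAct ψ D hD' s d),
        isIrrCharacter_comp_surjective η.2 (resAct ψ D hD' s).toMonoidHom (resAct ψ D hD' s).surjective⟩
      have h : η' = η := by
        refine (hΦN θ₀ η').mp ?_
        have e : gMult ι' θ η' = gMult ι' θ η := by
          apply Nat.cast_injective (R := ℂ)
          rw [← gMult_spec, ← gMult_spec, classInner, classInner]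
          congr 1
          refine Fintype.sum_equiv (resAct ψ D hD' s).toEquiv _ _ fun d => ?_
          show (θ : N → ℂ) (ι' d) * _ = (θ : N → ℂ) (ι' (resAct ψ D hD' s d)) * _
          rw [← hθ s (ι' d)]
          rfl
        rw [e]
        exact (hΦN θ₀ η).mpr rfl
      exact congrFun (congrArg Subtype.val h) d
    set ψq : S ⧸ N₀ →* MulAut C := QuotientGroup.lift N₀ ψ (fixAct_ker φ N₀) with hψq
    have hlt : Nat.card (S ⧸ N₀) < n := by
      rw [← hn, N₀.card_eq_card_quotient_mul_card_subgroup]
      exact lt_mul_of_one_lt_right Nat.card_pos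
        (lt_of_lt_of_le hpp.one_lt (Nat.le_of_dvd Nat.card_pos hpN₀))
    have hDq : ∀ q, ∀ c ∈ D, ψq q c ∈ D := fun q c hc =>
      QuotientGroup.induction_on q fun s => hD' s c hc
    obtain ⟨β, hβinv, hβη⟩ := ih _ hlt C (S ⧸ N₀) ψq D hDq η rfl inferInstance
      ((hcop.coprime_dvd_left (Subgroup.card_subgroup_dvd_card C)).coprime_dvd_right
        (Subgroup.card_quotient_dvd_card N₀))
      fun q d => QuotientGroup.induction_on q fun s => hηinv s d
    obtain ⟨χ₀, hχ₀⟩ := hbij.2 β
    have hχinv : IsInv φ (χ₀.1 : G → ℂ) := by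
      intro s g
      let χ' : IrrCharacter G := ⟨fun g => (χ₀.1 : G → ℂ) (φ s g),
        isIrrCharacter_comp_surjective χ₀.1.2 (φ s).toMonoidHom (φ s).surjective⟩
      have hinv' : IsInv (φ.comp N₀.subtype) (χ' : G → ℂ) := by
        intro t g
        show (χ₀.1 : G → ℂ) (φ s (φ t g)) = (χ₀.1 : G → ℂ) (φ s g)
        have h1 : s * (t : S) * s⁻¹ ∈ N₀ := Subgroup.Normal.conj_mem inferInstance _ t.2 s
        rw [← χ₀.2 ⟨_, h1⟩ (φ s g)]
        show (χ₀.1 : G → ℂ) (φ s (φ (t : S) g)) = (χ₀.1 : G → ℂ) (φ (s * (t : S) * s⁻¹) (φ s g))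
        refine congrArg _ ?_
        rw [← MulAut.mul_apply, ← MulAut.mul_apply, ← map_mul, ← map_mul]
        congr 2; group
      have h : Φ ⟨χ', hinv'⟩ = Φ χ₀ := by
        refine ((hΦ ⟨χ', hinv'⟩ _).mp ?_).symm
        have e : gMult C.subtype χ' (Φ χ₀) = gMult C.subtype χ₀.1 (Φ χ₀) := by
          apply Nat.cast_injective (R := ℂ)
          rw [← gMult_spec, ← gMult_spec, classInner, classInner]
          congr 1
          refine Fintype.sum_equiv (ψ s).toEquiv _ _ fun c => ?_
          show _ = (χ₀.1 : G → ℂ) (C.subtype (ψ s c)) * conj ((Φ χ₀ : C → ℂ) (ψ s c))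
          rw [hχ₀, show (β : C → ℂ) (ψ s c) = (β : C → ℂ) c from hβinv (s : S ⧸ N₀) c]
          rfl
        rw [e]
        exact (hΦ χ₀ _).mpr rfl
      exact congrFun (congrArg Subtype.val (congrArg Subtype.val (hbij.1 h))) g
    refine ⟨χ₀.1, hχinv, fun hzero => ?_⟩
    obtain ⟨e, he⟩ := classInner_nat (isCharacter_restrict β.2.isCharacter D) η.2.isCharacter
    have he0 : e ≠ 0 := fun h => hβη (by rw [he, h, Nat.cast_zero])
    have hpe : ¬ p ∣ e := fun h => hpG (h.trans ((multiplicity_dvd_card β η he he0).trans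
      (Subgroup.card_subgroup_dvd_card C)))
    choose k hk using fun θ' : IrrCharacter N =>
      classInner_nat (isCharacter_restrict χ₀.1.2.isCharacter N) θ'.2.isCharacter
    choose q hq using fun β' : IrrCharacter C =>
      classInner_nat (isCharacter_restrict β'.2.isCharacter D) η.2.isCharacter
    have hleft : classInner (fun d : D => (χ₀.1 : G → ℂ) ((d : C) : G)) (η : D → ℂ)
        = ((∑ β' : IrrCharacter C, gMult C.subtype χ₀.1 β' * q β' : ℕ) : ℂ) := by
      rw [show (fun d : D => (χ₀.1 : G → ℂ) ((d : C) : G)) = ∑ β' : IrrCharacter C,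
          (gMult C.subtype χ₀.1 β' : ℂ) • fun d : D => (β' : C → ℂ) d by
        funext d
        simpa [Finset.sum_apply] using restrict_eq C.subtype χ₀.1 (d : C), classInner_sum_left]
      push_cast
      exact Finset.sum_congr rfl fun β' _ => by rw [classInner_smul_left, hq]
    have hright : classInner (fun d : D => (χ₀.1 : G → ℂ) ((d : C) : G)) (η : D → ℂ)
        = ((∑ θ' : IrrCharacter N, k θ' * gMult ι' θ' η : ℕ) : ℂ) := by
      have hexp := classFunction_expansion
        (isClassFunction_of_isCharacter (isCharacter_restrict χ₀.1.2.isCharacter N))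
      simp only [hk] at hexp
      rw [show (fun d : D => (χ₀.1 : G → ℂ) ((d : C) : G)) = ∑ θ' : IrrCharacter N,
          (k θ' : ℂ) • fun d : D => (θ' : N → ℂ) (ι' d) by
        funext d
        have h := congrFun hexp (ι' d)
        simp only [Finset.sum_apply, Pi.smul_apply, smul_eq_mul] at h ⊢
        exact h, classInner_sum_left]
      push_cast
      exact Finset.sum_congr rfl fun θ' _ => by rw [classInner_smul_left, gMult_spec]
    have heq : ((∑ β' : IrrCharacter C, gMult C.subtype χ₀.1 β' * q β' : ℕ) : ResF M)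
        = ((∑ θ' : IrrCharacter N, k θ' * gMult ι' θ' η : ℕ) : ResF M) :=
      congrArg _ (Nat.cast_injective (hleft.symm.trans hright))
    push_cast at heq
    have hL : ∑ β' : IrrCharacter C, (gMult C.subtype χ₀.1 β' : ResF M) * (q β' : ResF M)
        = (gMult C.subtype χ₀.1 β : ResF M) * (e : ResF M) := by
      have hqe : q β = e := Nat.cast_injective (R := ℂ) ((hq β).symm.trans he)
      rw [Finset.sum_eq_single β, hqe]
      · intro β' _ hne
        rw [(natCast_resF_eq_zero hM _).mpr (not_not.mp fun h => hne (((hΦ χ₀ β').mp h).trans hχ₀)), zero_mul]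
      · simp
    have hR : ∑ θ' : IrrCharacter N, (k θ' : ResF M) * (gMult ι' θ' η : ResF M) = 0 := by
      letI act : MulAction N₀ (IrrCharacter N) :=
        { smul := fun t θ' => ⟨fun x => (θ' : N → ℂ) (φN (t : S)⁻¹ x),
            isIrrCharacter_comp_surjective θ'.2 (φN (t : S)⁻¹).toMonoidHom (φN (t : S)⁻¹).surjective⟩
          one_smul := fun θ' => Subtype.ext (funext fun x => by
            show (θ' : N → ℂ) (φN ((1 : N₀) : S)⁻¹ x) = _
            simp)
          mul_smul := fun t t' θ' => Subtype.ext (funext fun x => by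
            show (θ' : N → ℂ) (φN ((t * t' : N₀) : S)⁻¹ x) = (θ' : N → ℂ) (φN (t' : S)⁻¹ (φN (t : S)⁻¹ x))
            rw [Subgroup.coe_mul, mul_inv_rev, map_mul]; rfl) }
      have hsmul : ∀ (t : N₀) (θ' : IrrCharacter N) (x : N),
          ((t • θ' : IrrCharacter N) : N → ℂ) x = (θ' : N → ℂ) (φN (t : S)⁻¹ x) := fun _ _ _ => rfl
      rw [sum_eq_sum_fixed (P := N₀) hN₀p (red_p hM)
        (fun θ' : IrrCharacter N => (k θ' : ResF M) * (gMult ι' θ' η : ResF M)) ?_]
      · refine Finset.sum_eq_zero fun θ' hθ' => ?_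
        have hfixθ := (Finset.mem_filter.mp hθ').2
        have hinvθ : IsInv (φN.comp N₀.subtype) (θ' : N → ℂ) := fun t x => by
          have h := congrFun (congrArg Subtype.val (hfixθ t⁻¹)) x
          rw [hsmul] at h
          simpa using h
        by_cases h : p ∣ gMult ι' θ' η
        · rw [(natCast_resF_eq_zero hM _).mpr h, mul_zero]
        · have h2 := (hΦN ⟨θ', hinvθ⟩ η).mp h
          have h3 : θ' = θ := by
            by_contra hne
            have hinjN : ∀ a b : {θ : IrrCharacter N // IsInv (φN.comp N₀.subtype) (θ : N → ℂ)},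
                ΦN a = ΦN b → a = b := by
              intro a b hab
              by_contra hab'
              have hr := gMult_relations (φN.comp N₀.subtype) ι' hN₀p hι' hfix' hM hpN a.2 b.2 (ΦN a)
              rw [if_neg fun e => hab' (Subtype.ext e), zero_mul] at hr
              simp only [mul_eq_zero, natCast_resF_eq_zero hM] at hr
              rcases hr with (hr | hr) | hr
              · exact (hΦN a _).mpr rfl hr
              · exact (hΦN b _).mpr hab hr
              · exact (not_dvd_card_fixed (φN.comp N₀.subtype) ι' hN₀p hι' hfix' hM hpN)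
                  (hr.trans (Nat.div_dvd_of_dvd (charDegree_dvd_card _)))
            exact hne (congrArg Subtype.val (hinjN ⟨θ', hinvθ⟩ θ₀ h2.symm))
          have hk0 : k θ' = 0 := by
            apply Nat.cast_injective (R := ℂ)
            rw [← hk, h3, hzero, Nat.cast_zero]
          rw [hk0, Nat.cast_zero, zero_mul]
      · intro t θ'
        congr 2
        · apply Nat.cast_injective (R := ℂ)
          rw [← hk, ← hk, classInner, classInner]
          congr 1
          refine (Fintype.sum_equiv (φN (t : S)).toEquiv _ _ fun x => ?_).symm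
          show _ = (χ₀.1 : G → ℂ) (φ (t : S) x) * conj ((θ' : N → ℂ) (φN (t : S)⁻¹ (φN (t : S) x)))
          rw [hχinv, ← MulAut.mul_apply, ← map_mul, inv_mul_cancel, map_one]
          rfl
        · apply Nat.cast_injective (R := ℂ)
          rw [← gMult_spec, ← gMult_spec, classInner, classInner]
          congr 1
          refine Finset.sum_congr rfl fun d _ => ?_
          have hd : φN (t : S)⁻¹ (ι' d) = ι' d := Subtype.ext ((d : C).2 _ (inv_mem t.2))
          rw [hsmul, hd]
    rw [hL, hR, mul_eq_zero, natCast_resF_eq_zero hM, natCast_resF_eq_zero hM] at heq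
    exact heq.elim (fun h => (hΦ χ₀ β).mpr hχ₀.symm h) hpe

end Cfsg.Lib.Blocks
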