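import Cfsg.Agent.Lib.Blocks.Contribution
import Cfsg.Agent.Lib.Characters.Degree

/-!
# Contributions of major subsections
-/

namespace Cfsg.Lib.Blocks

open Cfsg.Lib.Characters Finset
open scoped ComplexConjugate Classical

set_option linter.unusedSectionVars false
set_option linter.style.haveILetI false
set_option linter.style.longLine false

variable {G : Type*} [Group G] [Fintype G]

/-- The class function on `G` supported on the section of `z` with values `f` on `z * s`. -/
noncomputable def secExt (p : ℕ) (z : G) (H : Subgroup G) (f : H → ℂ) (g : G) : ℂ :=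
  if h : ∃ ts : G × H, ¬ p ∣ orderOf ts.2 ∧ ts.1 * (z * (ts.2 : G)) * ts.1⁻¹ = g then f h.choose.2 else 0

theorem secExt_eq_zero {p : ℕ} {z : G} {H : Subgroup G} (f : H → ℂ) {g : G}
    (h : ¬ ∃ ts : G × H, ¬ p ∣ orderOf ts.2 ∧ ts.1 * (z * (ts.2 : G)) * ts.1⁻¹ = g) :
    secExt p z H f g = 0 := dif_neg h

theorem isIntegral_secExt {p : ℕ} {z : G} {H : Subgroup G} {f : H → ℂ} (hf : ∀ s, IsIntegral ℤ (f s))
    (g : G) : IsIntegral ℤ (secExt p z H f g) := by
  unfold secExt
  split_ifs
  · exact hf _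
  · exact isIntegral_zero

/-- A central element acts by a root of unity. -/
theorem exists_central_root (χ : IrrCharacter G) {z : G} (hz : z ∈ Subgroup.center G) :
    ∃ ω : ℂ, ω ^ orderOf z = 1 ∧ ∀ g, (χ : G → ℂ) (z * g) = ω * (χ : G → ℂ) g := by
  obtain ⟨χ, n, ρ, hρ, rfl⟩ := χ
  have hn : (n : ℂ) ≠ 0 := by
    have := IsIrrCharacter.one_ne_zero (χ := ρ.character) ⟨n, ρ, hρ, rfl⟩
    simpa using this
  obtain ⟨ω, hω⟩ := schur_scalar ρ (ρ z) fun x => by
    rw [← map_mul, ← map_mul, (Subgroup.mem_center_iff.mp hz x)]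
  have hzg : ∀ y, ρ.character (z * y) = ω * ρ.character y := by
    intro y
    simp only [Representation.character, map_mul, hω]
    have : (ω • (LinearMap.id : (Fin n → ℂ) →ₗ[ℂ] _)) * ρ y = ω • ρ y := by
      ext v; simp
    rw [this, map_smul, smul_eq_mul]
  refine ⟨ω, ?_, hzg⟩
  have hpow : ∀ k : ℕ, ρ.character (z ^ k) = ω ^ k * ρ.character 1 := by
    intro k
    induction k with
    | zero => simp
    | succ k ih => rw [pow_succ', hzg, ih, pow_succ']; ring
  have h := hpow (orderOf z)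
  rw [pow_orderOf_eq_one, Representation.char_one] at h
  simp only [Module.finrank_fin_fun] at h
  exact mul_right_cancel₀ hn (h.symm.trans (one_mul _).symm)

variable {M : Ideal Cfsg.AlgInt} [M.IsPrime] {p : ℕ} [hp : Fact p.Prime]
variable {x : G} {H : Subgroup G}

theorem secExt_eq (hx : ∃ k : ℕ, orderOf x = p ^ k) (hH : H = Subgroup.centralizer ({x} : Set G))
    {f : H → ℂ} (hf : IsClassFunction H f) (t : G) {s : H} (hs : ¬ p ∣ orderOf s) :
    secExt p x H f (t * (x * (s : G)) * t⁻¹) = f s := by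
  have hex : ∃ ts : G × H, ¬ p ∣ orderOf ts.2 ∧ ts.1 * (x * (ts.2 : G)) * ts.1⁻¹
      = t * (x * (s : G)) * t⁻¹ := ⟨(t, s), hs, rfl⟩
  rw [secExt, dif_pos hex]
  obtain ⟨hs', he⟩ := hex.choose_spec
  set t' := hex.choose.1 with ht'
  set s' := hex.choose.2 with hs'def
  obtain ⟨k, hk⟩ := hx
  have hcx : ∀ c : H, Commute x (c : G) := fun c =>
    (Subgroup.mem_centralizer_singleton_iff.mp (hH.le c.2)).symm
  have hord : ∀ (u : G) (c : G), orderOf (u * c * u⁻¹) = orderOf c := fun u c =>
    MulEquiv.orderOf_eq (MulAut.conj u) c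
  obtain ⟨h1, h2⟩ := pPart_unique (q := p) (a := t' * x * t'⁻¹) (b := t' * (s' : G) * t'⁻¹)
    (a' := t * x * t⁻¹) (b' := t * (s : G) * t⁻¹)
    (by calc t' * x * t'⁻¹ * (t' * (s' : G) * t'⁻¹) = t' * (x * (s' : G)) * t'⁻¹ := by group
          _ = t * (x * (s : G)) * t⁻¹ := he
          _ = t * x * t⁻¹ * (t * (s : G) * t⁻¹) := by group)
    ((hcx s').map (MulAut.conj t').toMonoidHom) ((hcx s).map (MulAut.conj t).toMonoidHom)
    ⟨k, by rw [hord, hk]⟩ ⟨k, by rw [hord, hk]⟩
    (by rw [hord, Subgroup.orderOf_coe]; exact hs') (by rw [hord, Subgroup.orderOf_coe]; exact hs)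
  have hc : t⁻¹ * t' ∈ H := by
    rw [hH, Subgroup.mem_centralizer_singleton_iff]
    calc t⁻¹ * t' * x = t⁻¹ * (t' * x * t'⁻¹) * t' := by group
      _ = x * (t⁻¹ * t') := by rw [h1]; group
  have hsc : (⟨_, hc⟩ : H) * s' * (⟨_, hc⟩ : H)⁻¹ = s := by
    apply Subtype.ext
    push_cast
    calc t⁻¹ * t' * (s' : G) * (t⁻¹ * t')⁻¹ = t⁻¹ * (t' * (s' : G) * t'⁻¹) * t := by group
      _ = (s : G) := by rw [h2]; group
  conv_rhs => rw [← hsc]
  exact (hf s' ⟨_, hc⟩).symm

theorem isClassFunction_secExt (hx : ∃ k : ℕ, orderOf x = p ^ k)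
    (hH : H = Subgroup.centralizer ({x} : Set G)) {f : H → ℂ} (hf : IsClassFunction H f) :
    IsClassFunction G (secExt p x H f) := by
  intro g a
  by_cases h : ∃ ts : G × H, ¬ p ∣ orderOf ts.2 ∧ ts.1 * (x * (ts.2 : G)) * ts.1⁻¹ = g
  · obtain ⟨⟨t, s⟩, hs, rfl⟩ := h
    rw [show a * (t * (x * (s : G)) * t⁻¹) * a⁻¹ = a * t * (x * (s : G)) * (a * t)⁻¹ by group,
      secExt_eq hx hH hf _ hs, secExt_eq hx hH hf _ hs]
  · rw [secExt_eq_zero f h, secExt_eq_zero f]
    rintro ⟨⟨t, s⟩, hs, he⟩
    refine h ⟨(a⁻¹ * t, s), hs, ?_⟩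
    show a⁻¹ * t * (x * (s : G)) * (a⁻¹ * t)⁻¹ = g
    calc a⁻¹ * t * (x * (s : G)) * (a⁻¹ * t)⁻¹ = a⁻¹ * (t * (x * (s : G)) * t⁻¹) * a := by group
      _ = g := by rw [he]; group

theorem sum_secExt_mul (hx : ∃ k : ℕ, orderOf x = p ^ k)
    (hH : H = Subgroup.centralizer ({x} : Set G)) {f : H → ℂ} (hf : IsClassFunction H f) {F : G → ℂ}
    (hF : IsClassFunction G F) :
    ∑ g, secExt p x H f g * F g
      = (H.index : ℂ) * ∑ s : H, if p ∣ orderOf s then 0 else f s * F (x * (s : G)) := by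
  subst hH
  have hcl : IsClassFunction G (fun g => secExt p x _ f g * F g) := fun g a => by
    simp only [isClassFunction_secExt hx rfl hf g a, hF g a]
  have h := sum_section x hx hcl
  rw [Finset.sum_congr rfl (g := fun g => secExt p x (Subgroup.centralizer ({x} : Set G)) f g * F g)] at h
  · rw [h]
    congr 1
    refine Finset.sum_congr rfl fun s _ => ?_
    split_ifs with hs
    · rfl
    · have h1 := secExt_eq hx rfl hf 1 hs
      simp only [one_mul, inv_one, mul_one] at h1
      rw [h1]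
  · intro g _
    split_ifs with hg
    · rfl
    · rw [secExt_eq_zero f, zero_mul]
      rintro ⟨⟨t, s⟩, hs, he⟩
      obtain ⟨k, hk⟩ := hx
      have hord : ∀ (u : G) (c : G), orderOf (u * c * u⁻¹) = orderOf c := fun u c =>
        MulEquiv.orderOf_eq (MulAut.conj u) c
      refine hg ⟨t * x * t⁻¹, t * (s : G) * t⁻¹, by rw [← he]; group,
        Commute.map (show Commute x (s : G) from (Subgroup.mem_centralizer_singleton_iff.mp s.2).symm)
          (MulAut.conj t).toMonoidHom,
        ⟨k, by rw [hord, hk]⟩, by rw [hord, Subgroup.orderOf_coe]; exact hs, isConj_iff.mpr ⟨t, rfl⟩⟩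

variable {b : Set (IrrCharacter H)}

theorem isIntegral_blockPart_translate (hH : H = Subgroup.centralizer ({x} : Set G)) (χ : IrrCharacter G)
    (s : H) : IsIntegral ℤ (blockPart b (fun c : H => (χ : G → ℂ) (x * (c : G))) s) := by
  have hxH : x ∈ H := hH ▸ Subgroup.mem_centralizer_singleton_iff.mpr rfl
  rw [blockPart_translate]
  exact IsIntegral.sum _ fun ξ _ =>
    (isIntegral_secCoeff hxH hH.le χ ξ).mul (char_isIntegral ξ.2.isCharacter s)

theorem isClassFunction_blockPart_translate (x : G) (χ : IrrCharacter G) :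
    IsClassFunction H (blockPart b (fun c : H => (χ : G → ℂ) (x * (c : G)))) := by
  intro g a
  simp only [blockPart_translate]
  exact Finset.sum_congr rfl fun ξ _ => by rw [ξ.2.isClassFunction g a]

/-- The second block part of a contribution may be replaced by the character itself. -/
theorem contrib_eq_translate (hM : IsPModular p M) (hH : H = Subgroup.centralizer ({x} : Set G))
    (hb : IsPBlock M b) (χ ψ : IrrCharacter G) :
    contrib p x H b χ ψ = ((p ^ blockDefect p b : ℕ) : ℂ) / (Nat.card H : ℂ) *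
      ∑ s : H, if p ∣ orderOf s then 0 else
        blockPart b (fun c : H => (χ : G → ℂ) (x * (c : G))) s * (ψ : G → ℂ) (x * (s : G))⁻¹ := by
  have hH' : H ≤ Subgroup.centralizer ({x⁻¹} : Set G) := by rw [centralizer_inv_singleton, hH]
  set P := blockPart b (fun c : H => (χ : G → ℂ) (x * (c : G))) with hP
  rw [contrib]
  congr 1
  set c : IrrCharacter H → ℂ := fun ξ => secCoeff x⁻¹ H ψ ξ with hc
  have hexp : ∀ s : H, (ψ : G → ℂ) (x * (s : G))⁻¹ = ∑ ξ, c ξ * (ξ : H → ℂ) s⁻¹ := by
    intro s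
    have h := congrFun (classFunction_expansion (isClassFunction_translate hH' ψ)) s⁻¹
    simp only [Finset.sum_apply, Pi.smul_apply, smul_eq_mul] at h
    rw [mul_inv_rev, show ((s : G))⁻¹ = ((s⁻¹ : H) : G) from rfl,
      (Subgroup.mem_centralizer_singleton_iff.mp (hH' (s⁻¹).2))]
    exact h
  have hz : ∀ ξ : IrrCharacter H, ξ ∉ b → regInner p P (ξ : H → ℂ) = 0 := by
    intro ξ hξ
    rw [hP, show blockPart b (fun c : H => (χ : G → ℂ) (x * (c : G)))
        = ∑ ξ' ∈ univ.filter (· ∈ b), secCoeff x H χ ξ' • (ξ' : H → ℂ) from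
      funext fun s => by simp [blockPart_translate, Finset.sum_apply]]
    rw [regInner_sum_left]
    refine Finset.sum_eq_zero fun ξ' hξ' => ?_
    rw [regInner_eq_zero hM fun hs => hξ (IsPBlock.mem_of_sameBlock hb (Finset.mem_filter.mp hξ').2
      hs), mul_zero]
  calc ∑ s : H, (if p ∣ orderOf s then 0 else P s * blockPart b (fun c : H => (ψ : G → ℂ) (x⁻¹ * (c : G))) s⁻¹)
      = ∑ ξ ∈ univ.filter (· ∈ b), c ξ * regInner p P (ξ : H → ℂ) := by
        simp only [regInner, Finset.mul_sum]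
        rw [Finset.sum_comm]
        refine Finset.sum_congr rfl fun s _ => ?_
        split_ifs
        · simp
        · rw [blockPart_translate, Finset.mul_sum]
          exact Finset.sum_congr rfl fun ξ _ => by ring
    _ = ∑ ξ, c ξ * regInner p P (ξ : H → ℂ) :=
        Finset.sum_subset (Finset.subset_univ _) fun ξ _ hξ => by
          rw [hz ξ fun h => hξ (Finset.mem_filter.mpr ⟨Finset.mem_univ _, h⟩), mul_zero]
    _ = _ := by
        simp only [regInner, Finset.mul_sum]
        rw [Finset.sum_comm]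
        refine Finset.sum_congr rfl fun s _ => ?_
        split_ifs
        · simp
        · rw [hexp, Finset.mul_sum]
          exact Finset.sum_congr rfl fun ξ _ => by ring

/-- The element of the centre whose central characters give the contributions. -/
noncomputable def contribElt (p : ℕ) (x : G) (H : Subgroup G) (b : Set (IrrCharacter H))
    (χ : IrrCharacter G) : MonoidAlgebra ℂ G :=
  gOfFun fun g => secExt p x H (blockPart b (fun c : H => (χ : G → ℂ) (x * (c : G)))) g⁻¹

theorem contribElt_mem_locCenter (hx : ∃ k : ℕ, orderOf x = p ^ k)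
    (hH : H = Subgroup.centralizer ({x} : Set G)) (χ : IrrCharacter G) :
    contribElt p x H b χ ∈ locCenter G M := by
  refine ⟨fun g a => ?_, fun g => ?_⟩
  · simp only [contribElt, coeff_gOfFun]
    rw [show (g * a * g⁻¹)⁻¹ = g * a⁻¹ * g⁻¹ by group]
    exact isClassFunction_secExt hx hH (isClassFunction_blockPart_translate x χ) a⁻¹ g
  · rw [contribElt, coeff_gOfFun]
    exact isIntegral_mem_locRing M (isIntegral_secExt (isIntegral_blockPart_translate hH χ) _)

theorem isIntegral_omega_contribElt (hx : ∃ k : ℕ, orderOf x = p ^ k)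
    (hH : H = Subgroup.centralizer ({x} : Set G)) (χ ψ : IrrCharacter G) :
    IsIntegral ℤ (omega ψ (contribElt p x H b χ)) := by
  rw [omega_eq_sum_classes ψ (z := contribElt p x H b χ) (fun g a => ?_)]
  · refine IsIntegral.sum _ fun C _ => IsIntegral.mul ?_ (centralChar_isIntegral ψ _)
    rw [contribElt, coeff_gOfFun]
    exact isIntegral_secExt (isIntegral_blockPart_translate hH χ) _
  · simp only [contribElt, coeff_gOfFun]
    rw [show (g * a * g⁻¹)⁻¹ = g * a⁻¹ * g⁻¹ by group]
    exact isClassFunction_secExt hx hH (isClassFunction_blockPart_translate x χ) a⁻¹ g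

/-- A contribution is a multiple of a central character value. -/
theorem contrib_mul_card (hM : IsPModular p M) (hx : ∃ k : ℕ, orderOf x = p ^ k)
    (hH : H = Subgroup.centralizer ({x} : Set G)) (hb : IsPBlock M b) (χ ψ : IrrCharacter G) :
    contrib p x H b χ ψ * (Nat.card G : ℂ)
      = ((p ^ blockDefect p b : ℕ) : ℂ) * ((ψ : G → ℂ) 1 * omega ψ (contribElt p x H b χ)) := by
  have hF : IsClassFunction G (fun g => (ψ : G → ℂ) g⁻¹) := fun g a => by
    simp only [show (a * g * a⁻¹)⁻¹ = a * g⁻¹ * a⁻¹ by group, ψ.2.isClassFunction g⁻¹ a]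
  have h := sum_secExt_mul hx hH (isClassFunction_blockPart_translate (b := b) x χ) hF
  have h1 : (ψ : G → ℂ) 1 * omega ψ (contribElt p x H b χ)
      = ∑ g, secExt p x H (blockPart b (fun c : H => (χ : G → ℂ) (x * (c : G)))) g * (ψ : G → ℂ) g⁻¹ := by
    rw [omega, mul_div_cancel₀ _ ψ.2.one_ne_zero]
    refine Fintype.sum_equiv (Equiv.inv G) _ _ fun g => ?_
    simp [contribElt]
  rw [h1, h, contrib_eq_translate hM hH hb, ← Subgroup.card_mul_index H, Nat.cast_mul]
  have : (Nat.card H : ℂ) ≠ 0 := Nat.cast_ne_zero.mpr Nat.card_pos.ne'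
  field_simp

/-- Major subsections: the contribution divided by the `p`-part of the height. -/
theorem contrib_mul_ordCompl (hM : IsPModular p M) (hx : ∃ k : ℕ, orderOf x = p ^ k)
    (hH : H = Subgroup.centralizer ({x} : Set G)) (hb : IsPBlock M b) {B : Set (IrrCharacter G)}
    (hd : blockDefect p b = blockDefect p B) (χ : IrrCharacter G) {ψ : IrrCharacter G} (hψ : ψ ∈ B) :
    contrib p x H b χ ψ * ((Nat.card G / p ^ (Nat.card G).factorization p : ℕ) : ℂ)
      = ((p ^ blockHeight p B (ψ : G → ℂ) : ℕ) : ℂ) *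
        (((charDegree (ψ : G → ℂ) / p ^ (charDegree (ψ : G → ℂ)).factorization p : ℕ) : ℂ) *
          omega ψ (contribElt p x H b χ)) := by
  have h := contrib_mul_card hM hx hH hb χ ψ
  have hv := charDegree_factorization_le (p := p) ψ
  have hm := inf_le_factorization p hψ
  set a := (Nat.card G).factorization p with ha
  set v := (charDegree (ψ : G → ℂ)).factorization p with hvdef
  have hexp : blockDefect p b + v = blockHeight p B (ψ : G → ℂ) + a := by
    rw [hd, blockDefect, blockHeight, ← ha, ← hvdef]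
    omega
  have hpa : ((p ^ a : ℕ) : ℂ) ≠ 0 := Nat.cast_ne_zero.mpr (pow_ne_zero _ hp.out.ne_zero)
  apply mul_left_cancel₀ hpa
  rw [← coe_charDegree, ← Nat.mul_div_cancel' (Nat.ordProj_dvd (charDegree (ψ : G → ℂ)) p), ← hvdef,
    ← pPow_mul_ordCompl (p := p), ← ha, Nat.cast_mul] at h
  calc ((p ^ a : ℕ) : ℂ) * (contrib p x H b χ ψ * ((Nat.card G / p ^ a : ℕ) : ℂ))
      = ((p ^ (blockDefect p b + v) : ℕ) : ℂ) *
        (((charDegree (ψ : G → ℂ) / p ^ v : ℕ) : ℂ) * omega ψ (contribElt p x H b χ)) := by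
        rw [pow_add, Nat.cast_mul, mul_left_comm, h]; ring
    _ = _ := by rw [hexp, pow_add, Nat.cast_mul]; ring

/-- Major subsections: contributions are divisible by the heights. -/
theorem isIntegral_contrib_div (hM : IsPModular p M) (hx : ∃ k : ℕ, orderOf x = p ^ k)
    (hH : H = Subgroup.centralizer ({x} : Set G)) (hb : IsPBlock M b) {B : Set (IrrCharacter G)}
    (hd : blockDefect p b = blockDefect p B) (χ : IrrCharacter G) {ψ : IrrCharacter G} (hψ : ψ ∈ B) :
    IsIntegral ℤ (contrib p x H b χ ψ / ((p ^ blockHeight p B (ψ : G → ℂ) : ℕ) : ℂ)) := by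
  set P : ℕ := p ^ blockHeight p B (ψ : G → ℂ) with hP
  set N : ℕ := Nat.card G / p ^ (Nat.card G).factorization p with hN
  have hP0 : (P : ℂ) ≠ 0 := Nat.cast_ne_zero.mpr (pow_ne_zero _ hp.out.ne_zero)
  have hcop : Nat.Coprime N P := (Nat.coprime_ordCompl hp.out Nat.card_pos.ne').symm.pow_right _
  obtain ⟨α, β, hab⟩ := (Int.isCoprime_iff_nat_coprime.mpr (by simpa using hcop) : IsCoprime (N : ℤ) (P : ℤ))
  have hab' : (α : ℂ) * (N : ℂ) + (β : ℂ) * (P : ℂ) = 1 := by exact_mod_cast congrArg (fun z : ℤ => (z : ℂ)) hab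
  have h := contrib_mul_ordCompl hM hx hH hb hd χ hψ
  rw [← hN, ← hP] at h
  have he : contrib p x H b χ ψ / (P : ℂ)
      = (α : ℂ) * (((charDegree (ψ : G → ℂ) / p ^ (charDegree (ψ : G → ℂ)).factorization p : ℕ) : ℂ) *
          omega ψ (contribElt p x H b χ)) + (β : ℂ) * contrib p x H b χ ψ := by
    rw [div_eq_iff hP0, add_mul, mul_assoc, mul_comm _ (P : ℂ), ← h]
    linear_combination (-contrib p x H b χ ψ) * hab'
  rw [he]
  refine IsIntegral.add (IsIntegral.mul (isIntegral_algebraMap (R := ℤ) (x := α)) ?_)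
    (IsIntegral.mul (isIntegral_algebraMap (R := ℤ) (x := β)) (isIntegral_contrib hM hH hb χ ψ))
  exact IsIntegral.mul (isIntegral_natCast _)
    (isIntegral_omega_contribElt hx hH χ ψ)

/-- Major subsections: the residue of a divided contribution. -/
theorem red_contrib_div (hM : IsPModular p M) (hx : ∃ k : ℕ, orderOf x = p ^ k)
    (hH : H = Subgroup.centralizer ({x} : Set G)) (hb : IsPBlock M b) {B : Set (IrrCharacter G)}
    (hd : blockDefect p b = blockDefect p B) (χ : IrrCharacter G) {ψ : IrrCharacter G} (hψ : ψ ∈ B) :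
    red M (contrib p x H b χ ψ / ((p ^ blockHeight p B (ψ : G → ℂ) : ℕ) : ℂ)) *
        red M ((Nat.card G / p ^ (Nat.card G).factorization p : ℕ) : ℂ)
      = red M ((charDegree (ψ : G → ℂ) / p ^ (charDegree (ψ : G → ℂ)).factorization p : ℕ) : ℂ) *
          lam M ψ (redG M (contribElt p x H b χ)) := by
  have hu : contribElt p x H b χ ∈ locCenter G M := contribElt_mem_locCenter hx hH χ
  rw [lam_redG M ψ hu, ← red_mul (natCast_mem _ _) (omega_mem_locRing M ψ hu),
    ← red_mul (isIntegral_mem_locRing M (isIntegral_contrib_div hM hx hH hb hd χ hψ)) (natCast_mem _ _)]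
  congr 1
  rw [div_mul_eq_mul_div, contrib_mul_ordCompl hM hx hH hb hd χ hψ,
    mul_div_cancel_left₀ _ (Nat.cast_ne_zero.mpr (pow_ne_zero _ hp.out.ne_zero))]

theorem red_degree_ordCompl_ne (hM : IsPModular p M) (ψ : IrrCharacter G) :
    red M ((charDegree (ψ : G → ℂ) / p ^ (charDegree (ψ : G → ℂ)).factorization p : ℕ) : ℂ) ≠ 0 := by
  rw [red_natCast, ne_eq, natCast_resF_eq_zero hM]
  exact Nat.not_dvd_ordCompl hp.out (charDegree_pos ψ).ne'

variable {B : Set (IrrCharacter G)}

theorem lam_contribElt_ne_zero (hM : IsPModular p M) (hx : ∃ k : ℕ, orderOf x = p ^ k)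
    (hH : H = Subgroup.centralizer ({x} : Set G)) (hind : IsInducedBlock M H b B)
    (hd : blockDefect p b = blockDefect p B) {χ₀ φ : IrrCharacter G} (hχ₀ : χ₀ ∈ B) (hφ : φ ∈ B)
    (h0 : blockHeight p B (χ₀ : G → ℂ) = 0) : lam M φ (redG M (contribElt p x H b χ₀)) ≠ 0 := by
  intro hl
  rw [lam_eq_of_sameBlock M (IsPBlock.sameBlock hind.2.1 hφ hχ₀)] at hl
  have h := red_contrib_div hM hx hH hind.1 hd χ₀ hχ₀
  rw [hl, mul_zero, h0, pow_zero, Nat.cast_one, div_one, mul_eq_zero] at h
  exact h.elim (red_contrib_ne_zero hM hx hH hind hχ₀ hχ₀ h0 h0) (red_ordCompl_ne hM)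

/-- Major subsections: contributions against a height zero character never vanish. -/
theorem contrib_ne_zero_of_major (hM : IsPModular p M) (hx : ∃ k : ℕ, orderOf x = p ^ k)
    (hH : H = Subgroup.centralizer ({x} : Set G)) (hind : IsInducedBlock M H b B)
    (hd : blockDefect p b = blockDefect p B) {χ₀ φ : IrrCharacter G} (hχ₀ : χ₀ ∈ B) (hφ : φ ∈ B)
    (h0 : blockHeight p B (χ₀ : G → ℂ) = 0) :
    contrib p x H b χ₀ φ ≠ 0 ∧ contrib p x H b φ χ₀ ≠ 0 := by
  have h1 : contrib p x H b χ₀ φ ≠ 0 := by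
    intro hc
    have h := red_contrib_div hM hx hH hind.1 hd χ₀ hφ
    rw [hc, zero_div, red_zero, zero_mul] at h
    exact mul_ne_zero (red_degree_ordCompl_ne hM φ)
      (lam_contribElt_ne_zero hM hx hH hind hd hχ₀ hφ h0) h.symm
  refine ⟨h1, fun hc => h1 ?_⟩
  rw [← conj_contrib hM hH.le hind.1 φ χ₀, hc, map_zero]

/-- Major subsections: for positive height the diagonal is divisible beyond its height. -/
theorem red_contrib_self_div (hM : IsPModular p M) (hx : ∃ k : ℕ, orderOf x = p ^ k)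
    (hH : H = Subgroup.centralizer ({x} : Set G)) (hind : IsInducedBlock M H b B)
    (hd : blockDefect p b = blockDefect p B) {φ : IrrCharacter G} (hφ : φ ∈ B)
    (hpos : 1 ≤ blockHeight p B (φ : G → ℂ)) :
    red M (contrib p x H b φ φ / ((p ^ blockHeight p B (φ : G → ℂ) : ℕ) : ℂ)) = 0 := by
  obtain ⟨χ₀, hχ₀, hmin⟩ := exists_height_zero p (IsPBlock.nonempty hind.2.1)
  have h0 := (blockHeight_eq_zero_iff p hχ₀).mpr hmin
  have hP : ((p ^ blockHeight p B (φ : G → ℂ) : ℕ) : ℂ) ≠ 0 :=
    Nat.cast_ne_zero.mpr (pow_ne_zero _ hp.out.ne_zero)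
  have hl : lam M φ (redG M (contribElt p x H b φ)) = 0 := by
    rw [lam_eq_of_sameBlock M (IsPBlock.sameBlock hind.2.1 hφ hχ₀)]
    have h := red_contrib_div hM hx hH hind.1 hd φ hχ₀
    rw [h0, pow_zero, Nat.cast_one, div_one, ← conj_contrib hM hH.le hind.1 χ₀ φ] at h
    have hi := isIntegral_conj (isIntegral_contrib_div hM hx hH hind.1 hd χ₀ hφ)
    rw [map_div₀, map_natCast] at hi
    have hz : red M (conj (contrib p x H b χ₀ φ)) = 0 := by
      rw [← mul_div_cancel₀ (conj (contrib p x H b χ₀ φ)) hP,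
        red_mul (natCast_mem _ _) (isIntegral_mem_locRing M hi), red_natCast, Nat.cast_pow, red_p hM,
        zero_pow (by omega), zero_mul]
    rw [hz, zero_mul] at h
    exact (mul_eq_zero.mp h.symm).resolve_left (red_degree_ordCompl_ne hM χ₀)
  have h := red_contrib_div hM hx hH hind.1 hd φ hφ
  rw [hl, mul_zero] at h
  exact (mul_eq_zero.mp h).resolve_right (red_ordCompl_ne hM)

/-- The idempotent relation between contributions. -/
theorem sum_contrib_mul_row (hM : IsPModular p M) (hx : ∃ k : ℕ, orderOf x = p ^ k)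
    (hH : H = Subgroup.centralizer ({x} : Set G)) (hind : IsInducedBlock M H b B)
    (χ φ : IrrCharacter G) :
    ∑ ψ ∈ univ.filter (· ∈ B), contrib p x H b χ ψ * contrib p x H b ψ φ
      = ((p ^ blockDefect p b : ℕ) : ℂ) * contrib p x H b χ φ := by
  set q : ℂ := ((p ^ blockDefect p b : ℕ) : ℂ)
  set P : IrrCharacter G → H → ℂ := fun χ s => blockPart b (fun c : H => (χ : G → ℂ) (x * (c : G))) s
  set P' : IrrCharacter G → H → ℂ := fun χ s => blockPart b (fun c : H => (χ : G → ℂ) (x⁻¹ * (c : G))) s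
  set R := univ.filter fun s : H => ¬ p ∣ orderOf s with hR
  have hb := hind.1
  have hc : ∀ χ ψ, contrib p x H b χ ψ = q / (Nat.card H : ℂ) * ∑ s ∈ R, P χ s * P' ψ s⁻¹ := by
    intro χ ψ
    rw [contrib, hR, Finset.sum_filter]
    congr 1
    exact Finset.sum_congr rfl fun s _ => by split_ifs <;> rfl
  calc ∑ ψ ∈ univ.filter (· ∈ B), contrib p x H b χ ψ * contrib p x H b ψ φ
      = ∑ ψ ∈ univ.filter (· ∈ B), q / (Nat.card H : ℂ) * (q / (Nat.card H : ℂ)) *
          ∑ t ∈ R, ∑ s ∈ R, (P χ t * P' φ s⁻¹) * (P ψ s * P' ψ t⁻¹) := by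
        refine Finset.sum_congr rfl fun ψ _ => ?_
        rw [hc, hc, mul_mul_mul_comm, Finset.sum_mul_sum]
        congr 1
        exact Finset.sum_congr rfl fun t _ => Finset.sum_congr rfl fun s _ => by ring
    _ = q / (Nat.card H : ℂ) * (q / (Nat.card H : ℂ)) *
          ∑ t ∈ R, ∑ s ∈ R, (P χ t * P' φ s⁻¹) * kerB b s t := by
        rw [← Finset.mul_sum, Finset.sum_comm]
        congr 1
        refine Finset.sum_congr rfl fun t ht => ?_
        rw [Finset.sum_comm]
        refine Finset.sum_congr rfl fun s hs => ?_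
        rw [← Finset.mul_sum, sum_blockPart_mul hM hx hH hind (Finset.mem_filter.mp hs).2
          (Finset.mem_filter.mp ht).2]
    _ = _ := by
        rw [hc, Finset.sum_comm]
        have h2 : ∀ s ∈ R, ∑ t ∈ R, P χ t * P' φ s⁻¹ * kerB b s t
            = P' φ s⁻¹ * ∑ t ∈ R, kerB b s t * P χ t := fun s _ => by
          rw [Finset.mul_sum]
          exact Finset.sum_congr rfl fun t _ => by ring
        have hrep' : ∀ s ∈ R, ∑ t ∈ R, kerB b s t * P χ t = (Nat.card H : ℂ) * P χ s := by
          intro s hs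
          have hexp : ∀ t, P χ t = ∑ ξ ∈ univ.filter (· ∈ b), secCoeff x H χ ξ * (ξ : H → ℂ) t :=
            fun t => blockPart_translate x H b χ t
          rw [Finset.sum_subset (Finset.subset_univ R) fun t _ ht => by
            rw [kerB_eq_zero_of_regular hM hb (Finset.mem_filter.mp hs).2 (by simpa [hR] using ht), zero_mul]]
          simp only [hexp, Finset.mul_sum]
          rw [Finset.sum_comm]
          refine Finset.sum_congr rfl fun ξ hξ => ?_
          have h := blockPart_self (B := b) ξ (Finset.mem_filter.mp hξ).2 s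
          rw [← h]
          have hN : (Nat.card H : ℂ) ≠ 0 := Nat.cast_ne_zero.mpr Nat.card_pos.ne'
          simp only [Finset.mul_sum]
          refine Finset.sum_congr rfl fun t _ => ?_
          field_simp
        rw [Finset.sum_congr rfl fun s hs => (h2 s hs).trans (by rw [hrep' s hs])]
        simp only [Finset.mul_sum]
        refine Finset.sum_congr rfl fun s _ => ?_
        have hN : (Nat.card H : ℂ) ≠ 0 := Nat.cast_ne_zero.mpr Nat.card_pos.ne'
        field_simp

/-- The diagonal contributions add up to `p ^ d` times the regular rank. -/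
theorem sum_contrib_self (hM : IsPModular p M) (hx : ∃ k : ℕ, orderOf x = p ^ k)
    (hH : H = Subgroup.centralizer ({x} : Set G)) (hind : IsInducedBlock M H b B) :
    ∑ χ ∈ univ.filter (· ∈ B), contrib p x H b χ χ
      = ((p ^ blockDefect p b : ℕ) : ℂ) * (blockRank p b : ℂ) := by
  simp only [contrib, ← Finset.mul_sum]
  rw [Finset.sum_comm, Finset.sum_congr rfl (g := fun s : H => if p ∣ orderOf s then 0 else kerB b s s)
    fun s _ => ?_, ← card_mul_blockRank hM hind.1]
  · have hN : (Nat.card H : ℂ) ≠ 0 := Nat.cast_ne_zero.mpr Nat.card_pos.ne'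
    field_simp
  · split_ifs with hs
    · simp
    · exact sum_blockPart_mul hM hx hH hind hs hs

end Cfsg.Lib.Blocks
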