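import Cfsg.Agent.Lib.Blocks.Sections
import Cfsg.Agent.Lib.Blocks.Defect
import Cfsg.Agent.Lib.Blocks.Induction
import Cfsg.Prelude.Def_BrauerPairs
import Cfsg.Prelude.Def_BlockRank

/-!
# Brauer pairs through induced blocks
-/

namespace Cfsg.Lib.Blocks

open Cfsg.Lib.Characters Finset
open scoped ComplexConjugate Classical

set_option linter.unusedSectionVars false
set_option linter.style.haveILetI false
set_option linter.style.longLine false

variable {G : Type*} [Group G] [Fintype G] {M : Ideal Cfsg.AlgInt} [M.IsPrime]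
variable {p : ℕ} [Fact p.Prime]

/-- Truncation to the centralizer of a `p`-subgroup is multiplicative on central elements. -/
theorem lam_resSub_centralizer_mul (hM : IsPModular p M) {Q : Subgroup G} (hQ : IsPGroup p Q)
    (ξ : IrrCharacter (Subgroup.centralizer (Q : Set G))) (u v : MonoidAlgebra (ResF M) G)
    (hu : IsClassElt u) (hv : IsClassElt v) :
    lam M ξ (resSub (Subgroup.centralizer (Q : Set G)) (u * v))
      = lam M ξ (resSub (Subgroup.centralizer (Q : Set G)) u)
        * lam M ξ (resSub (Subgroup.centralizer (Q : Set G)) v) := by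
  rw [resSub_mul (red_p hM) hQ (hu.stable _) (hv.stable _), lam_mul M ξ (hu.resSub _) (hv.resSub _)]

theorem brauerOmega_eq_omega (Q : Subgroup G) (B : Set (IrrCharacter G))
    (ξ : IrrCharacter (Subgroup.centralizer (Q : Set G))) :
    brauerOmega Q (blockCoeff B) (ξ : Subgroup.centralizer (Q : Set G) → ℂ)
      = omega ξ (resSub (Subgroup.centralizer (Q : Set G)) (blockE B)) := by
  rw [brauerOmega, finsum_eq_sum_of_fintype, omega, Finset.sum_div]
  exact Finset.sum_congr rfl fun x _ => by rw [coeff_resSub, coeff_blockE]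

/-- Brauer pairs of a block are the blocks of centralizers inducing it. -/
theorem isBrauerPairOf_iff (hM : IsPModular p M) {B : Set (IrrCharacter G)} {Q : Subgroup G}
    {e : Set (IrrCharacter (Subgroup.centralizer (Q : Set G)))} :
    IsBrauerPairOf p M B Q e ↔
      IsPGroup p Q ∧ IsInducedBlock M (Subgroup.centralizer (Q : Set G)) e B := by
  have key : ∀ (_ : IsPGroup p Q) (hB : IsPBlock M B) (_ : IsPBlock M e) {ξ} (_ : ξ ∈ e),
      (MemLocalIdeal M (brauerOmega Q (blockCoeff B) (ξ : Subgroup.centralizer (Q : Set G) → ℂ) - 1) ↔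
        IsInducedBlock M (Subgroup.centralizer (Q : Set G)) e B) := by
    intro hQ hB he ξ hξ
    rw [(exists_induced_of_mul he hξ (lam_resSub_centralizer_mul hM hQ ξ)).2 B hB]
    have hmem : resSub (Subgroup.centralizer (Q : Set G)) (blockE B) ∈ locCenter (Subgroup.centralizer (Q : Set G)) M :=
      ⟨(isClassElt_blockE B).resSub _, fun h => by
        rw [coeff_resSub, coeff_blockE]; exact blockCoeff_mem_locRing hB _⟩
    have hw := omega_mem_locRing M ξ hmem
    have hlam : lam M ξ (resSub (Subgroup.centralizer (Q : Set G)) (bIdem M B))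
        = red M (omega ξ (resSub (Subgroup.centralizer (Q : Set G)) (blockE B))) := by
      rw [← lam_redG M ξ hmem]
      congr 1
      exact gr_ext fun h => by simp only [coeff_resSub, bIdem, coeff_redG]
    rw [brauerOmega_eq_omega, hlam, memLocalIdeal_iff, red_sub hw (one_mem _), red_one, sub_eq_zero]
    exact ⟨fun h => h.2, fun h => ⟨sub_mem hw (one_mem _), h⟩⟩
  constructor
  · rintro ⟨⟨hQ, he⟩, hB, h⟩
    obtain ⟨ξ, hξ⟩ := IsPBlock.nonempty he
    exact ⟨hQ, (key hQ hB he hξ).mp (h ξ hξ)⟩
  · rintro ⟨hQ, h⟩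
    exact ⟨⟨hQ, h.1⟩, h.2.1, fun ξ hξ => (key hQ h.2.1 h.1 hξ).mpr h⟩

theorem inducedBlockDefined_centralizer (hM : IsPModular p M) {Q : Subgroup G} (hQ : IsPGroup p Q)
    {e : Set (IrrCharacter (Subgroup.centralizer (Q : Set G)))} (he : IsPBlock M e) :
    InducedBlockDefined M (Subgroup.centralizer (Q : Set G)) e := by
  obtain ⟨ξ, hξ⟩ := IsPBlock.nonempty he
  exact (exists_induced_of_mul he hξ (lam_resSub_centralizer_mul hM hQ ξ)).1

end Cfsg.Lib.Blocks
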