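import Mathlib
import Cfsg.Agent.Lib.Blocks.DefectZero
import Cfsg.Agent.Lib.Blocks.Exists
import Cfsg.Agent.Lib.Blocks.GroupRing
import Cfsg.Agent.Lib.Characters.Normal
import Cfsg.Agent.Lib.Characters.Integrality
import Cfsg.Agent.Lib.Characters.Induction

/-!
# The common kernel of the irreducible characters of degree prime to p
-/

set_option autoImplicit false
set_option linter.unusedSectionVars false
set_option linter.style.haveILetI false

namespace Cfsg.Lib.Blocks

open Finset Cfsg Cfsg.Lib.Characters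
open scoped ComplexConjugate

variable {G : Type*} [Group G] [Fintype G] {p : ℕ} [hp : Fact p.Prime]

/-- A normal subgroup with a trivial constituent lies in the kernel. -/
theorem kernel_of_sum_ne (χ : IrrCharacter G) (L : Subgroup G) [L.Normal] [Fintype L]
    (h : ∑ l : L, (χ : G → ℂ) l ≠ 0) : ∀ g ∈ L, (χ : G → ℂ) g = (χ : G → ℂ) 1 := by
  intro g hg
  have h1 : classInner (fun n : L => (χ : G → ℂ) n) (fun _ : L => (1 : ℂ)) ≠ 0 := by
    rw [classInner]
    simpa using h
  have hc := clifford χ.2 isIrrCharacter_one h1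
  have horb : orbitFinset L (fun _ : L => (1 : ℂ)) = {fun _ : L => (1 : ℂ)} := by
    ext ψ
    rw [mem_orbitFinset, Finset.mem_singleton]
    constructor
    · rintro ⟨a, rfl⟩; funext n; simp [conjFn]
    · rintro rfl; exact ⟨1, by rw [conjFn_one]⟩
  rw [horb, Finset.sum_singleton] at hc
  exact (congrFun hc ⟨g, hg⟩).trans (congrFun hc ⟨1, L.one_mem⟩).symm

/-- A character of degree prime to p has a constituent of degree prime to p. -/
theorem exists_constituent_not_dvd {f : G → ℂ} (hf : IsCharacter G f) {d : ℕ} (hd : f 1 = d)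
    (hpd : ¬ p ∣ d) :
    ∃ χ : IrrCharacter G, ¬ p ∣ charDegree (χ : G → ℂ) ∧ classInner f (χ : G → ℂ) ≠ 0 := by
  classical
  obtain ⟨m, hm⟩ := exists_decomposition hf
  have h1 : (d : ℂ) = ((∑ χ : IrrCharacter G, m χ * charDegree (χ : G → ℂ) : ℕ) : ℂ) := by
    rw [← hd, hm]
    push_cast
    simp only [Finset.sum_apply, Pi.smul_apply, smul_eq_mul, coe_charDegree]
  have h2 : d = ∑ χ : IrrCharacter G, m χ * charDegree (χ : G → ℂ) := Nat.cast_injective h1
  by_contra hcon
  push_neg at hcon
  refine hpd (h2 ▸ Finset.dvd_sum fun χ _ => ?_)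
  by_cases hχ : p ∣ charDegree (χ : G → ℂ)
  · exact hχ.mul_left _
  · have h0 := hcon χ hχ
    rw [hm, classInner_sum_irr] at h0
    rw [Nat.cast_eq_zero.1 h0, zero_mul]
    exact dvd_zero p

/-- A linear character separating a given element from the derived subgroup. -/
theorem exists_linear_ne_one {H : Type*} [Group H] [Finite H] {u : H} (hu : u ∉ commutator H) :
    ∃ μ : H →* ℂˣ, μ u ≠ 1 := by
  have ha : (Abelianization.of u : Abelianization H) ≠ 1 := fun e => hu (by
    rw [← Abelianization.ker_of, MonoidHom.mem_ker]; exact e)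
  obtain ⟨φ, hφ⟩ := CommGroup.exists_apply_ne_one_of_hasEnoughRootsOfUnity (Abelianization H) ℂ ha
  exact ⟨φ.comp Abelianization.of, hφ⟩

/-- Elements of a subgroup of index prime to p killed by all characters of degree prime to p lie in
its derived subgroup. -/
theorem mem_commutator_of_kernel (H : Subgroup G) (hH : ¬ p ∣ H.index) {u : H}
    (hu : ∀ χ : IrrCharacter G, ¬ p ∣ charDegree (χ : G → ℂ) → (χ : G → ℂ) u = (χ : G → ℂ) 1) :
    u ∈ commutator H := by
  classical
  haveI := Fintype.ofFinite H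
  by_contra hn
  obtain ⟨μ, hμ⟩ := exists_linear_ne_one hn
  have hirr := isIrrCharacter_linear (G := H) μ
  obtain ⟨χ, hχ, hne⟩ := exists_constituent_not_dvd (p := p) (isCharacter_indFun H hirr.isCharacter)
    (d := H.index) (by rw [indFun_one_apply]; simp) hH
  rw [classInner_indFun H _ χ.2.isClassFunction] at hne
  apply hμ
  apply Units.ext
  rw [Units.val_one]
  have hinv : ∀ h : H, (χ : G → ℂ) ((h : G) * u) = (χ : G → ℂ) h := fun h => by
    rw [← χ.2.isClassFunction ((h : G) * u) (u : G), show (u : G) * ((h : G) * u) * (u : G)⁻¹ = u * h by group]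
    exact char_mul_ker χ.2.isCharacter (hu χ hχ) _
  set c := classInner (fun h : H => (μ h : ℂ)) (fun h : H => (χ : G → ℂ) h)
  have hc : c = (μ u : ℂ) * c := by
    have e : ∀ h : H, (μ (h * u) : ℂ) * conj ((χ : G → ℂ) ((h * u : H) : G)) =
        (μ u : ℂ) * ((μ h : ℂ) * conj ((χ : G → ℂ) h)) := fun h => by
      rw [Subgroup.coe_mul, hinv, map_mul, Units.val_mul]; ring
    simp only [c, classInner]
    rw [mul_left_comm, Finset.mul_sum (a := (μ u : ℂ))]
    congr 1
    rw [← Fintype.sum_equiv (Equiv.mulRight u) (fun h : H => (μ (h * u) : ℂ) * conj ((χ : G → ℂ) ((h * u : H) : G))) (fun h : H => (μ h : ℂ) * conj ((χ : G → ℂ) h)) fun h => rfl]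
    exact Finset.sum_congr rfl fun h _ => e h
  exact mul_right_cancel₀ hne ((one_mul c).trans hc).symm

/-- A normal subgroup in which a Sylow p-subgroup has trivial centralizer lies in every kernel. -/
theorem kernel_of_fixedPointFree (P : Sylow p G) (N : Subgroup G) [N.Normal]
    (hN : N ⊓ Subgroup.centralizer ((P : Subgroup G) : Set G) = ⊥) (χ : IrrCharacter G)
    (hχ : ¬ p ∣ charDegree (χ : G → ℂ)) : ∀ g ∈ N, (χ : G → ℂ) g = (χ : G → ℂ) 1 := by
  classical
  haveI := Fintype.ofFinite N
  obtain ⟨M, hM⟩ := exists_isPModular p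
  haveI := hM.2.1.isPrime
  refine kernel_of_sum_ne χ N fun h0 => hχ ?_
  letI : MulAction ↥(P : Subgroup G) N :=
    MulAction.compHom N ((MulAut.conjNormal (H := N)).comp (P : Subgroup G).subtype)
  have hval : ∀ (a : (P : Subgroup G)) (n : N), ((a • n : N) : G) = (a : G) * n * (a : G)⁻¹ :=
    fun a n => MulAut.conjNormal_apply _ _
  have h1 := sum_eq_sum_fixed (R := ResF M) P.2 (red_p hM) (fun n : N => red M ((χ : G → ℂ) n))
    (fun a n => by simp only [hval, χ.2.isClassFunction (n : G) (a : G)])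
  rw [← red_sum _ fun n _ => char_mem_locRing M χ _, h0, red_zero, Finset.sum_eq_single (1 : N)] at h1
  · rw [← natCast_resF_eq_zero hM, ← red_natCast, coe_charDegree]
    exact h1.symm
  · intro n hn hne
    refine absurd ?_ hne
    have hmem : (n : G) ∈ N ⊓ Subgroup.centralizer ((P : Subgroup G) : Set G) := by
      refine ⟨n.2, Subgroup.mem_centralizer_iff.2 fun a ha => ?_⟩
      have h := congrArg (fun m : N => (m : G)) ((Finset.mem_filter.1 hn).2 ⟨a, ha⟩)
      simp only [hval] at h
      exact mul_inv_eq_iff_eq_mul.1 h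
    rw [hN, Subgroup.mem_bot] at hmem
    exact Subtype.ext hmem
  · intro h
    refine absurd (Finset.mem_filter.2 ⟨Finset.mem_univ _, fun a => Subtype.ext ?_⟩) h
    rw [hval]; simp

end Cfsg.Lib.Blocks
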