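import Cfsg.Agent.Lib.Blocks.CoveringDefect
import Cfsg.Agent.Lib.Blocks.InflationBijection
import Cfsg.Agent.Lib.Blocks.ExtendedFirstMain
import Cfsg.Agent.Lib.Blocks.Glauberman
import Cfsg.Agent.Lib.Blocks.RegInner

/-!
# Blocks over an invariant character of a normal `p'`-subgroup in a constrained group
-/

namespace Cfsg.Lib.Blocks

open Cfsg.Lib.Characters Finset
open scoped ComplexConjugate Classical

set_option linter.unusedSectionVars false
set_option linter.style.haveILetI false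
set_option linter.style.longLine false
set_option maxHeartbeats 800000

universe u

section Invariant

variable {G : Type u} [Group G] [Fintype G] {M : Ideal Cfsg.AlgInt} [M.IsPrime]
variable {p : ℕ} [hp : Fact p.Prime]
variable {K : Subgroup G} [hKn : K.Normal] [Fintype K]

/-- The idempotent of the block of `θ`, read in the ambient group. -/
noncomputable def thetaIdem (M : Ideal Cfsg.AlgInt) [M.IsPrime] (θ : IrrCharacter K) :
    MonoidAlgebra (ResF M) G := incSub K (bIdem M (blockOf M (θ : K → ℂ)))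

variable {θ : IrrCharacter K}

theorem mem_blockOf_iff_eq (hM : IsPModular p M) (hK : ¬ p ∣ Nat.card K) (ψ : IrrCharacter K) :
    ψ ∈ blockOf M (θ : K → ℂ) ↔ ψ = θ :=
  ⟨fun h => blockOf_eq_singleton_of_not_dvd hM hK h, fun h => h ▸ mem_blockOf_self M θ⟩

theorem cjStable_theta (hM : IsPModular p M) (hK : ¬ p ∣ Nat.card K) (hθ : ∀ g : G, cjIrr θ g = θ) :
    CjStable (G := G) (blockOf M (θ : K → ℂ)) := fun g ψ hψ => by
  rw [(mem_blockOf_iff_eq hM hK ψ).mp hψ, hθ g]
  exact mem_blockOf_self M θ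

theorem thetaIdem_eq (θ : IrrCharacter K) :
    thetaIdem M θ = redG M (incSub K (blockE (blockOf M (θ : K → ℂ)))) := by
  refine gr_ext fun g => ?_
  rw [thetaIdem, coeff_redG]
  by_cases hg : g ∈ K
  · rw [show g = ((⟨g, hg⟩ : K) : G) from rfl, coeff_incSub_mem, coeff_incSub_mem, coeff_bIdem, coeff_blockE]
  · rw [coeff_incSub_notMem _ _ hg, coeff_incSub_notMem _ _ hg, red_zero]

theorem coeff_thetaIdem_notMem {g : G} (hg : g ∉ K) : (thetaIdem M θ).coeff g = 0 :=
  coeff_incSub_notMem _ _ hg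

theorem thetaIdem_sq (θ : IrrCharacter K) : thetaIdem M θ * thetaIdem M θ = thetaIdem M θ :=
  incSub_bIdem_sq ⟨θ, rfl⟩

theorem thetaLift_mem (hM : IsPModular p M) (hK : ¬ p ∣ Nat.card K) (hθ : ∀ g : G, cjIrr θ g = θ) :
    incSub K (blockE (blockOf M (θ : K → ℂ))) ∈ locCenter G M :=
  incSub_blockE_mem (cjStable_theta hM hK hθ) (IsPBlock.isBlockUnion ⟨θ, rfl⟩)

theorem isClassElt_thetaIdem (hM : IsPModular p M) (hK : ¬ p ∣ Nat.card K) (hθ : ∀ g : G, cjIrr θ g = θ) :
    IsClassElt (thetaIdem M θ) := by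
  rw [thetaIdem_eq]
  exact isClassElt_redG M (thetaLift_mem hM hK hθ).1

theorem lam_thetaIdem (hM : IsPModular p M) (hK : ¬ p ∣ Nat.card K) (hθ : ∀ g : G, cjIrr θ g = θ)
    (χ : IrrCharacter G) :
    lam M χ (thetaIdem M θ)
      = if classInner (fun k : K => (χ : G → ℂ) k) (θ : K → ℂ) ≠ 0 then 1 else 0 := by
  rw [thetaIdem_eq, lam_redG M χ (thetaLift_mem hM hK hθ)]
  obtain ⟨ψ, hψ⟩ := exists_res_constituent (N := K) χ
  rw [omega_incSub_blockE (cjStable_theta hM hK hθ) χ ψ hψ]
  by_cases h : classInner (fun k : K => (χ : G → ℂ) k) (θ : K → ℂ) ≠ 0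
  · obtain ⟨g, hg⟩ := exists_cjIrr_of_constituents χ h hψ
    rw [hθ g] at hg
    rw [if_pos h, if_pos (by rw [hg]; exact mem_blockOf_self M θ), red_one]
  · rw [if_neg h, if_neg fun hm => h (by rwa [(mem_blockOf_iff_eq hM hK ψ).mp hm] at hψ), red_zero]

/-- Every `p`-subgroup keeps the idempotent of an invariant character of a `p'`-group. -/
theorem brNe_thetaIdem (hM : IsPModular p M) (hK : ¬ p ∣ Nat.card K) (hθ : ∀ g : G, cjIrr θ g = θ)
    {S : Subgroup G} (hS : IsPGroup p S) : BrNe S (thetaIdem M θ) := by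
  set e := thetaIdem M θ
  have hcl : IsClassElt e := isClassElt_thetaIdem hM hK hθ
  have h1 : e.coeff 1 ≠ 0 := by
    intro h0
    rw [show (1 : G) = ((1 : K) : G) from rfl] at h0
    simp only [e, thetaIdem] at h0
    rw [coeff_incSub_mem, coeff_bIdem, blockCoeff_eq,
      Finset.sum_eq_single θ (fun ψ _ hne => if_neg fun hm => hne ((mem_blockOf_iff_eq hM hK ψ).mp hm))
        (fun h => absurd (Finset.mem_univ _) h), if_pos (mem_blockOf_self M θ)] at h0
    obtain ⟨d, hd0, hd⟩ := θ.2.exists_degree_pos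
    rw [hd, Complex.conj_natCast, ← Nat.cast_mul,
      red_mul (natCast_inv_mem hM hK).1 (natCast_mem _ _), mul_eq_zero] at h0
    have hdd : ¬ p ∣ d := fun h => hK (h.trans (degree_dvd_card θ.2 hd))
    rcases h0 with h0 | h0
    · rw [(natCast_inv_mem hM hK).2, inv_eq_zero, natCast_resF_eq_zero hM] at h0
      exact hK h0
    · rw [red_natCast, natCast_resF_eq_zero hM, hp.out.dvd_mul] at h0
      exact h0.elim hdd hdd
  let act : MulAction S G :=
    { smul := fun u g => (u : G) * g * (u : G)⁻¹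
      one_smul := fun g => show ((1 : S) : G) * g * ((1 : S) : G)⁻¹ = g by simp
      mul_smul := fun a b g => show ((a * b : S) : G) * g * ((a * b : S) : G)⁻¹
          = (a : G) * ((b : G) * g * (b : G)⁻¹) * (a : G)⁻¹ by simp [mul_assoc] }
  have hsum : ∑ g, e.coeff g * e.coeff g⁻¹ = e.coeff 1 := by
    rw [← show (e * e).coeff 1 = e.coeff 1 by rw [thetaIdem_sq], gr_mul_apply]
    exact Finset.sum_congr rfl fun g _ => by rw [mul_one]
  rw [sum_eq_sum_fixed hS (red_p hM) _ fun u g => ?_] at hsum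
  · obtain ⟨g, hg, hne⟩ := Finset.exists_ne_zero_of_sum_ne_zero (hsum.symm ▸ h1)
    refine ⟨g, Subgroup.mem_centralizer_iff.mpr fun s hs => ?_, left_ne_zero_of_mul hne⟩
    have h2 : s * g * s⁻¹ = g := (Finset.mem_filter.mp hg).2 ⟨s, hs⟩
    rwa [mul_inv_eq_iff_eq_mul] at h2
  · show e.coeff ((u : G) * g * (u : G)⁻¹) * e.coeff ((u : G) * g * (u : G)⁻¹)⁻¹ = _
    rw [show ((u : G) * g * (u : G)⁻¹)⁻¹ = (u : G) * g⁻¹ * (u : G)⁻¹ by group, hcl, hcl]

/-- A normal `p`-by-`p'` subgroup has its regular elements in `K`. -/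
theorem regular_mem_of_sup {Q : Subgroup G} (hQ : IsPGroup p Q) {g : G} (hg : g ∈ K ⊔ Q)
    (hreg : ¬ p ∣ orderOf g) : g ∈ K := by
  have h1 : (g : G ⧸ K) ∈ Q.map (QuotientGroup.mk' K) := by
    have := Subgroup.mem_map_of_mem (QuotientGroup.mk' K) hg
    rwa [Subgroup.map_sup, QuotientGroup.map_mk'_self, bot_sup_eq] at this
  obtain ⟨j, hj⟩ := IsPGroup.iff_orderOf.mp (hQ.map (QuotientGroup.mk' K)) ⟨_, h1⟩
  rw [Subgroup.orderOf_mk] at hj
  rw [← QuotientGroup.eq_one_iff]
  exact eq_one_of_pPow_regular hj fun hd => hreg (hd.trans (orderOf_map_dvd (QuotientGroup.mk' K) g))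

variable (hM : IsPModular p M) (hK : ¬ p ∣ Nat.card K) (hθ : ∀ g : G, cjIrr θ g = θ)
variable {Q : Subgroup G} (hL : (K ⊔ Q).Normal) (hQ : IsPGroup p Q)
variable (hC : Subgroup.centralizer (Q : Set G) ≤ K ⊔ Q)

include hM hK hθ hL hQ hC

theorem brNe_block_over {B : Set (IrrCharacter G)} (hB : IsPBlock M B) {χ : IrrCharacter G} (hχ : χ ∈ B)
    (hχθ : classInner (fun k : K => (χ : G → ℂ) k) (θ : K → ℂ) ≠ 0) : BrNe Q (bIdem M B) := by
  haveI := hL
  set L := K ⊔ Q with hLdef
  obtain ⟨ψ, hψ⟩ := exists_res_constituent (N := L) χ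
  set b := blockOf M (ψ : L → ℂ)
  have hb : IsPBlock M b := ⟨ψ, rfl⟩
  refine brNe_of_mul_incSub_ne hM hB hb (bIdem_mul_incSub_ne hM hB hb hχ (mem_blockOf_self M ψ) hψ)
    le_sup_right hQ ?_
  set e := thetaIdem M θ with he
  have hecl : IsClassElt e := isClassElt_thetaIdem hM hK hθ
  have hesupp : ∀ g, g ∉ L → e.coeff g = 0 := fun g hg =>
    coeff_thetaIdem_notMem fun h => hg (Subgroup.mem_sup_left h)
  have hlamψ : lam M ψ (resSub L e) = 1 := by
    have hz := thetaLift_mem (M := M) hM hK hθ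
    have hr : resSub L (incSub K (blockE (blockOf M (θ : K → ℂ)))) ∈ locCenter L M :=
      ⟨hz.1.resSub L, fun h => by rw [coeff_resSub]; exact hz.2 _⟩
    rw [he, thetaIdem_eq, resSub_redG, lam_redG M ψ hr, ← omega_eq_omega_res χ ψ hψ hz.1 fun g hg =>
      coeff_incSub_notMem _ _ fun h => hg (Subgroup.mem_sup_left h), ← lam_redG M χ hz, ← thetaIdem_eq,
      lam_thetaIdem hM hK hθ, if_pos hχθ]
  have heq : resSub L e * bIdem M b = bIdem M b := by
    have hsq : resSub L e * resSub L e = resSub L e := by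
      rw [← resSub_mul_supp L hesupp, thetaIdem_sq]
    refine idem_eq_of_lam ((hecl.resSub L).mul (isClassElt_bIdem b)) (isClassElt_bIdem b) ?_ (bIdem_sq hb)
      fun φ => ?_
    · rw [mul_assoc, ← mul_assoc (bIdem M b), ← (hecl.resSub L).mul_comm (bIdem M b),
        mul_assoc (resSub L e) (bIdem M b), bIdem_sq hb, ← mul_assoc, hsq]
    · rw [lam_mul M φ (hecl.resSub L) (isClassElt_bIdem b), lam_bIdem hb]
      split_ifs with hφ
      · rw [IsPBlock.lam_eq hb hφ (mem_blockOf_self M ψ), hlamψ, one_mul]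
      · rw [mul_zero]
  -- the block idempotent of `L` is supported on `K`, where it contains `e`
  have hsuppb : ∀ t : L, (t : G) ∉ K → (bIdem M b).coeff t = 0 := by
    intro t ht
    rw [coeff_bIdem]
    by_cases hd : p ∣ orderOf t
    · rw [blockCoeff_eq_zero_of_singular hM hb hd, red_zero]
    · exact absurd (regular_mem_of_sup hQ t.2 (by rwa [Subgroup.orderOf_coe])) ht
  set w := resSub K (incSub L (bIdem M b)) with hw
  have hwcl : IsClassElt w :=
    ((isStableUnder_incSub (isClassElt_bIdem (M := M) b)).mono le_sup_left).isClassElt_resSub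
  have hwinc : incSub K w = incSub L (bIdem M b) := gr_ext fun g => by
    by_cases hg : g ∈ K
    · rw [show g = ((⟨g, hg⟩ : K) : G) from rfl, coeff_incSub_mem, hw, coeff_resSub]
    · rw [coeff_incSub_notMem _ _ hg]
      by_cases hgL : g ∈ L
      · rw [show g = ((⟨g, hgL⟩ : L) : G) from rfl, coeff_incSub_mem, hsuppb _ hg]
      · rw [coeff_incSub_notMem _ _ hgL]
  have hprod : e * incSub L (bIdem M b) = incSub L (bIdem M b) := by
    rw [show e = incSub L (resSub L e) from gr_ext fun g => by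
      by_cases hg : g ∈ L
      · rw [show g = ((⟨g, hg⟩ : L) : G) from rfl, coeff_incSub_mem, coeff_resSub]
      · rw [coeff_incSub_notMem _ _ hg, hesupp g hg], ← map_mul, heq]
  have hwθ : w * bIdem M (blockOf M (θ : K → ℂ)) = w := by
    have h2 := congrArg (resSub K) hprod
    rw [← hwinc, he, thetaIdem, ← map_mul, resSub_incSub, resSub_incSub,
      (isClassElt_bIdem _).mul_comm w] at h2
    exact h2
  have hθb : IsPBlock M (blockOf M (θ : K → ℂ)) := ⟨θ, rfl⟩
  have hww : w * w = w := by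
    have : incSub K (w * w) = incSub K w := by rw [map_mul, hwinc]; exact incSub_bIdem_sq hb
    simpa only [resSub_incSub] using congrArg (resSub K) this
  have hwlam : lam M θ w = 1 := by
    by_contra hne
    have hz : lam M θ w = 0 := by
      have h3 := congrArg (lam M θ) hww
      rw [lam_mul M θ hwcl hwcl] at h3
      rcases mul_eq_zero.mp (show lam M θ w * (lam M θ w - 1) = 0 by rw [mul_sub, h3, mul_one, sub_self]) with h | h
      · exact h
      · exact absurd (sub_eq_zero.mp h) hne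
    have hw0 : w = 0 := idem_eq_of_lam hwcl IsClassElt.zero hww (zero_mul _) fun φ => by
      rw [← hwθ, lam_mul M φ hwcl (isClassElt_bIdem _), lam_bIdem hθb, lam_zero]
      split_ifs with hφ
      · rw [(mem_blockOf_iff_eq hM hK φ).mp hφ, hz, zero_mul]
      · rw [mul_zero]
    have h4 : bIdem M b = 0 := by
      rw [← resSub_incSub L (bIdem M b), ← hwinc, hw0, map_zero, map_zero]
    have h5 := lam_bIdem (M := M) hb ψ
    rw [h4, lam_zero, if_pos (mem_blockOf_self M ψ)] at h5
    exact zero_ne_one h5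
  have hwe : w = bIdem M (blockOf M (θ : K → ℂ)) :=
    idem_eq_of_lam hwcl (isClassElt_bIdem _) hww (bIdem_sq hθb) fun φ => by
      rw [← hwθ, lam_mul M φ hwcl (isClassElt_bIdem _), lam_bIdem hθb]
      split_ifs with hφ
      · rw [(mem_blockOf_iff_eq hM hK φ).mp hφ, hwlam, mul_one]
      · rw [mul_zero]
  rw [← hwinc, hwe]
  exact brNe_thetaIdem hM hK hθ hQ

/-- In a constrained group the characters over `θ` form one block. -/
theorem sameBlock_over {χ χ' : IrrCharacter G}
    (hχ : classInner (fun k : K => (χ : G → ℂ) k) (θ : K → ℂ) ≠ 0)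
    (hχ' : classInner (fun k : K => (χ' : G → ℂ) k) (θ : K → ℂ) ≠ 0) :
    SameBlock M (χ : G → ℂ) (χ' : G → ℂ) := by
  refine sameBlock_of_regular hM fun g hg => ?_
  rw [memLocalIdeal_sub_iff (centralChar_mem_locRing M χ g) (centralChar_mem_locRing M χ' g)]
  by_cases hgK : g ∈ K
  · have hsupp : ∀ x, x ∉ K → (classSum ℂ g).coeff x = 0 := fun x hx => by
      rw [coeff_classSum, if_neg fun h => hx ?_]
      obtain ⟨a, rfl⟩ := isConj_iff.mp h
      exact hKn.conj_mem g hgK a
    rw [← omega_classSum, ← omega_classSum,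
      omega_eq_omega_res χ θ hχ (isClassElt_classSum ℂ g) hsupp,
      omega_eq_omega_res χ' θ hχ' (isClassElt_classSum ℂ g) hsupp]
  · have key : ∀ φ : IrrCharacter G, classInner (fun k : K => (φ : G → ℂ) k) (θ : K → ℂ) ≠ 0 →
        red M (centralChar (φ : G → ℂ) g) = 0 := by
      intro φ hφ
      by_contra hne
      obtain ⟨c, hc, hcQ⟩ := (brNe_classSum_iff (R := ResF M) Q g).mp
        (brNe_of_lam_ne_zero hM ⟨φ, rfl⟩ (mem_blockOf_self M φ) (isClassElt_classSum _ g)
          (by rwa [lam_classSum]) hQ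
          (brNe_block_over hM hK hθ hL hQ hC ⟨φ, rfl⟩ (mem_blockOf_self M φ) hφ))
      obtain ⟨a, rfl⟩ := isConj_iff.mp hc
      have hin := hC hcQ
      refine hgK (regular_mem_of_sup hQ ?_ hg)
      have := hL.conj_mem _ hin a⁻¹
      simpa [mul_assoc] using this
    rw [key χ hχ, key χ' hχ']

/-- The block over `θ`, its idempotent and its defect groups. -/
theorem exists_block_over :
    ∃ B : Set (IrrCharacter G), IsPBlock M B ∧
      (∀ χ : IrrCharacter G, χ ∈ B ↔ classInner (fun k : K => (χ : G → ℂ) k) (θ : K → ℂ) ≠ 0) ∧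
      bIdem M B = thetaIdem M θ ∧ (∀ S : Sylow p G, IsDefectGroup p M B (S : Subgroup G)) ∧
      ∀ D : Subgroup G, IsDefectGroup p M B D → ∃ S : Sylow p G, D = (S : Subgroup G) := by
  obtain ⟨χ₀, hχ₀⟩ := exists_irr_over (G := G) θ
  set B := blockOf M (χ₀ : G → ℂ)
  have hB : IsPBlock M B := ⟨χ₀, rfl⟩
  have hiff : ∀ χ : IrrCharacter G, χ ∈ B ↔ classInner (fun k : K => (χ : G → ℂ) k) (θ : K → ℂ) ≠ 0 :=
    fun χ => ⟨fun h => (constituent_iff_of_sameBlock hM hK h θ).mp hχ₀,
      fun h => sameBlock_over hM hK hθ hL hQ hC hχ₀ h⟩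
  have hid : bIdem M B = thetaIdem M θ :=
    idem_eq_of_lam (isClassElt_bIdem B) (isClassElt_thetaIdem hM hK hθ) (bIdem_sq hB) (thetaIdem_sq θ)
      fun χ => by rw [lam_bIdem hB, lam_thetaIdem hM hK hθ]; exact if_congr (hiff χ) rfl rfl
  have hcard : ∀ (S : Sylow p G) (D : Subgroup G), IsDefectGroup p M B D →
      ∃ x : G, conjSub x (S : Subgroup G) = D := by
    intro S D hD
    obtain ⟨x, hx⟩ := (brNe_bIdem_iff hM hB hD S.isPGroup').mp
      (hid ▸ brNe_thetaIdem hM hK hθ S.isPGroup')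
    refine ⟨x, Subgroup.eq_of_le_of_card_ge hx ?_⟩
    rw [card_conjSub]
    obtain ⟨P, hP⟩ := (isPGroup_defectGroup hD).exists_le_sylow
    exact (Subgroup.card_le_of_le hP).trans_eq (Nat.card_congr (P.equiv S).toEquiv)
  obtain ⟨D₀, hD₀⟩ := exists_defectGroup hM hB
  refine ⟨B, hB, hiff, hid, fun S => ?_, fun D hD => ?_⟩
  · obtain ⟨x, hx⟩ := hcard S D₀ hD₀
    have := IsDefectGroup.conjSub hB hD₀ x⁻¹
    rwa [← hx, conjSub_conjSub, inv_mul_cancel, conjSub_one] at this
  · obtain ⟨P, hP⟩ := (isPGroup_defectGroup hD).exists_le_sylow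
    obtain ⟨x, hx⟩ := hcard P D hD
    refine ⟨P, Subgroup.eq_of_le_of_card_ge hP ?_⟩
    rw [← hx, card_conjSub]

end Invariant

section Local

variable {G : Type u} [Group G] [Fintype G] {M : Ideal Cfsg.AlgInt} [M.IsPrime]
variable {p : ℕ} [hp : Fact p.Prime]
variable {K : Subgroup G} [hKn : K.Normal] [Fintype K] {θ : IrrCharacter K}

local notation "𝐂" Q:max => Subgroup.centralizer ((Q : Subgroup G) : Set G)

theorem isConj_fixed_subgroup (hM : IsPModular p M) (hK : ¬ p ∣ Nat.card K) {R : Subgroup G}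
    (hR : IsPGroup p R) (a k : K.subgroupOf (𝐂 R))
    (h : IsConj (⟨((a : 𝐂 R) : G), a.2⟩ : K) ⟨((k : 𝐂 R) : G), k.2⟩) : IsConj a k := by
  let ι : K.subgroupOf (𝐂 R) →* K :=
    { toFun := fun k => ⟨((k : 𝐂 R) : G), k.2⟩
      map_one' := rfl
      map_mul' := fun _ _ => rfl }
  have hι : Function.Injective ι := fun s t hst =>
    Subtype.ext (Subtype.ext (congrArg (fun z : K => (z : G)) hst))
  refine isConj_of_fixed (conjAct K R fun r _ g hg => hKn.conj_mem g hg r) ι hR hι ?_ hM hK h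
  intro g
  constructor
  · intro hg
    refine ⟨⟨⟨(g : G), Subgroup.mem_centralizer_iff.mpr fun r hr => ?_⟩, g.2⟩, rfl⟩
    have := congrArg Subtype.val (hg ⟨r, hr⟩)
    rwa [coe_conjAct, mul_inv_eq_iff_eq_mul] at this
  · rintro ⟨k, rfl⟩ r
    refine Subtype.ext ?_
    rw [coe_conjAct]
    show (r : G) * ((k : 𝐂 R) : G) * (r : G)⁻¹ = ((k : 𝐂 R) : G)
    rw [Subgroup.mem_centralizer_iff.mp (k : 𝐂 R).2 r r.2, mul_inv_cancel_right]

/-- Only one character of `C_K(R)` sees the Brauer image of `e_θ`. -/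
theorem exists_local_theta (hM : IsPModular p M) (hK : ¬ p ∣ Nat.card K) (hθ : ∀ g : G, cjIrr θ g = θ)
    {R : Subgroup G} (hR : IsPGroup p R) :
    ∃ η : IrrCharacter (K.subgroupOf (𝐂 R)), (∀ c : 𝐂 R, cjIrr η c = η) ∧
      ∀ ξ : IrrCharacter (𝐂 R), lam M ξ (resSub (𝐂 R) (thetaIdem M θ)) ≠ 0 →
        classInner (fun k : K.subgroupOf (𝐂 R) => (ξ : 𝐂 R → ℂ) k) (η : K.subgroupOf (𝐂 R) → ℂ) ≠ 0 := by
  set C := 𝐂 R
  set K' := K.subgroupOf C
  set e := thetaIdem M θ with he
  have hecl : IsClassElt e := isClassElt_thetaIdem hM hK hθ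
  have hK' : ¬ p ∣ Nat.card K' := fun h => hK (h.trans (Subgroup.card_comap_dvd_of_injective K C.subtype C.subtype_injective))
  set v := resSub K' (resSub C e) with hv
  have hvcl : IsClassElt v := (hecl.resSub C).resSub K'
  have hsuppC : ∀ t : C, t ∉ K' → (resSub C e).coeff t = 0 := fun t ht => by
    rw [coeff_resSub]; exact coeff_thetaIdem_notMem ht
  -- values at constituents
  have hval : ∀ (ξ : IrrCharacter C) (η : IrrCharacter K'),
      classInner (fun k : K' => (ξ : C → ℂ) k) (η : K' → ℂ) ≠ 0 → lam M η v = lam M ξ (resSub C e) := by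
    intro ξ η hη
    have hz := thetaLift_mem (M := M) hM hK hθ
    set z := resSub C (incSub K (blockE (blockOf M (θ : K → ℂ))))
    have hzc : z ∈ locCenter C M := ⟨hz.1.resSub C, fun h => by rw [coeff_resSub]; exact hz.2 _⟩
    have hzk : resSub K' z ∈ locCenter K' M := ⟨hzc.1.resSub K', fun h => by rw [coeff_resSub]; exact hzc.2 _⟩
    rw [hv, he, thetaIdem_eq, resSub_redG, resSub_redG, lam_redG M η hzk, lam_redG M ξ hzc,
      omega_eq_omega_res ξ η hη hzc.1 fun t ht => by
        rw [coeff_resSub]; exact coeff_incSub_notMem _ _ ht]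
  have huniq : ∀ η η' : IrrCharacter K', lam M η v ≠ 0 → lam M η' v ≠ 0 → η = η' := by
    intro η η' hη hη'
    refine (blockOf_eq_singleton_of_not_dvd hM hK' (sameBlock_of_lam_eq (M := M) fun x hx => ?_)).symm
    -- both evaluate class sums through `θ`
    have hclass : ∀ a : K', lam M η (classSum (ResF M) a) = lam M η' (classSum (ResF M) a) := by
      intro a
      set aK : K := ⟨((a : C) : G), a.2⟩
      set U := incSub K (classSum (ResF M) aK) with hU
      set c := lam M θ (classSum (ResF M) aK)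
      have hmul : classSum (ResF M) aK * bIdem M (blockOf M (θ : K → ℂ))
          = c • bIdem M (blockOf M (θ : K → ℂ)) := by
        have hCe : classSum ℂ aK * blockE (blockOf M (θ : K → ℂ))
            = omega θ (classSum ℂ aK) • blockE (blockOf M (θ : K → ℂ)) := by
          refine ext_omega ((isClassElt_classSum ℂ aK).mul (isClassElt_blockE _))
            ((isClassElt_blockE _).smul _) fun φ => ?_
          rw [omega_mul φ (isClassElt_classSum ℂ aK) (isClassElt_blockE _), omega_smul, omega_blockE]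
          split_ifs with hφ
          · rw [(mem_blockOf_iff_eq hM hK φ).mp hφ]
          · ring
        have h2 := congrArg (redG M) hCe
        have hloc : IsLoc M (blockE (blockOf M (θ : K → ℂ))) := (blockE_mem_locCenter ⟨θ, rfl⟩).2
        rw [redG_mul M (isLoc_classSum M aK) hloc, redG_smul M (omega_mem_locRing M θ (classSum_mem_locCenter M aK)) hloc,
          redG_classSum, ← lam_redG M θ (classSum_mem_locCenter M aK), redG_classSum] at h2
        exact h2
      have hUst : IsStableUnder R U := by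
        intro r hr x
        by_cases hx : x ∈ K
        · obtain ⟨xK, rfl⟩ : ∃ xK : K, (xK : G) = x := ⟨⟨x, hx⟩, rfl⟩
          have hx' : r * (xK : G) * r⁻¹ ∈ K := hKn.conj_mem _ hx r
          rw [hU, show r * (xK : G) * r⁻¹ = ((⟨_, hx'⟩ : K) : G) from rfl, coeff_incSub_mem,
            coeff_incSub_mem, coeff_classSum, coeff_classSum]
          refine @if_congr _ _ _ (_) (_) _ _ _ _ ?_ rfl rfl
          have hfix : r * (aK : G) * r⁻¹ = aK := by
            rw [(Subgroup.mem_centralizer_iff.mp (a : C).2 r hr : r * (aK : G) = aK * r), mul_inv_cancel_right]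
          constructor <;> intro h <;> obtain ⟨k, hk⟩ := isConj_iff.mp h <;> refine isConj_iff.mpr ?_
          · refine ⟨⟨r⁻¹ * k * r, by simpa using hKn.conj_mem k k.2 r⁻¹⟩, Subtype.ext ?_⟩
            have hk' := congrArg Subtype.val hk
            push_cast at hk' ⊢
            calc r⁻¹ * k * r * (aK : G) * (r⁻¹ * k * r)⁻¹
                = r⁻¹ * (k * (r * (aK : G) * r⁻¹) * (k : G)⁻¹) * r := by group
              _ = (xK : G) := by rw [hfix, hk']; group
          · refine ⟨⟨r * k * r⁻¹, hKn.conj_mem k k.2 r⟩, Subtype.ext ?_⟩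
            have hk' := congrArg Subtype.val hk
            push_cast at hk' ⊢
            calc r * k * r⁻¹ * (aK : G) * (r * k * r⁻¹)⁻¹
                = r * (k * (r⁻¹ * (aK : G) * r) * (k : G)⁻¹) * r⁻¹ := by group
              _ = r * (xK : G) * r⁻¹ := by
                rw [show r⁻¹ * (aK : G) * r = aK by
                  conv_lhs => rw [← hfix]
                  group, hk']
        · have hx' : r * x * r⁻¹ ∉ K := fun h => hx (by simpa [mul_assoc] using hKn.conj_mem _ h r⁻¹)
          rw [hU, coeff_incSub_notMem _ _ hx, coeff_incSub_notMem _ _ hx']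
      have hprod : resSub C U * resSub C e = c • resSub C e := by
        rw [← resSub_mul (red_p hM) hR hUst (hecl.stable R), hU, he, thetaIdem, ← map_mul, hmul]
        refine gr_ext fun t => ?_
        simp only [coeff_resSub, gr_smul_apply]
        by_cases ht : (t : G) ∈ K
        · rw [show (t : G) = ((⟨_, ht⟩ : K) : G) from rfl, coeff_incSub_mem, coeff_incSub_mem, gr_smul_apply]
        · rw [coeff_incSub_notMem _ _ ht, coeff_incSub_notMem _ _ ht, mul_zero]
      have hsuppU : ∀ t : C, t ∉ K' → (resSub C U).coeff t = 0 := fun t ht => by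
        rw [coeff_resSub]; exact coeff_incSub_notMem _ _ ht
      have hprod' := congrArg (resSub K') hprod
      rw [resSub_mul_supp K' hsuppU] at hprod'
      have hres : resSub K' (resSub C U) = classSum (ResF M) a := by
        refine gr_ext fun k => ?_
        rw [coeff_resSub, coeff_resSub, hU,
          show ((k : C) : G) = ((⟨_, k.2⟩ : K) : G) from rfl, coeff_incSub_mem, coeff_classSum, coeff_classSum]
        refine @if_congr _ _ _ (_) (_) _ _ _ _ ⟨fun h => ?_, fun h => ?_⟩ rfl rfl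
        · exact isConj_fixed_subgroup hM hK hR a k h
        · obtain ⟨d, hd⟩ := isConj_iff.mp h
          exact isConj_iff.mpr ⟨⟨((d : C) : G), d.2⟩, Subtype.ext
            (congrArg (fun z : K' => ((z : C) : G)) hd)⟩
      have hsmul : resSub K' (c • resSub C e) = c • v := gr_ext fun k => by
        simp [hv, coeff_resSub, gr_smul_apply]
      rw [hres, hsmul] at hprod'
      have h1 := congrArg (lam M η) hprod'
      have h2 := congrArg (lam M η') hprod'
      rw [lam_mul M η (isClassElt_classSum _ a) hvcl, lam_smul] at h1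
      rw [lam_mul M η' (isClassElt_classSum _ a) hvcl, lam_smul] at h2
      rw [mul_right_cancel₀ hη h1, mul_right_cancel₀ hη' h2]
    simp only [lam]
    refine Finset.sum_congr rfl fun D _ => ?_
    rw [← lam_classSum, ← lam_classSum, hclass]
  obtain ⟨ξ₁, hξ₁⟩ := exists_lam_one_of_brNe hM hR (hecl.stable R) (hecl.stable _) (thetaIdem_sq θ)
    (brNe_thetaIdem hM hK hθ hR)
  obtain ⟨η, hη⟩ := exists_res_constituent (N := K') ξ₁
  have hη0 : lam M η v ≠ 0 := by rw [hval ξ₁ η hη, hξ₁]; exact one_ne_zero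
  refine ⟨η, fun c => huniq _ _ ?_ hη0, fun ξ hξ => ?_⟩
  · rw [hval ξ₁ (cjIrr η c) (by rwa [classInner_res_cjIrr]), hξ₁]
    exact one_ne_zero
  · obtain ⟨η₁, hη₁⟩ := exists_res_constituent (N := K') ξ
    rwa [huniq η₁ η (by rwa [hval ξ η₁ hη₁]) hη0] at hη₁

/-- The block over `θ` is of principal type when the centralizers are constrained. -/
theorem existsUnique_induced_centralizer (hM : IsPModular p M) (hK : ¬ p ∣ Nat.card K)
    (hθ : ∀ g : G, cjIrr θ g = θ) {B : Set (IrrCharacter G)} (hB : IsPBlock M B)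
    (hid : bIdem M B = thetaIdem M θ) {R : Subgroup G} (hR : IsPGroup p R)
    {Q : Subgroup (𝐂 R)} (hL : (K.subgroupOf (𝐂 R) ⊔ Q).Normal)
    (hQ : IsPGroup p Q) (hC : Subgroup.centralizer (Q : Set (𝐂 R)) ≤ K.subgroupOf (𝐂 R) ⊔ Q) :
    ∃! f : Set (IrrCharacter (𝐂 R)), IsInducedBlock M (𝐂 R) f B := by
  obtain ⟨f, hf⟩ := exists_pair_of_brNe hM hB hR (hid ▸ brNe_thetaIdem hM hK hθ hR)
  have hind := ((isBrauerPairOf_iff hM).mp hf).2
  obtain ⟨η, hη, hover⟩ := exists_local_theta hM hK hθ hR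
  have hK' : ¬ p ∣ Nat.card (K.subgroupOf (𝐂 R)) := fun h =>
    hK (h.trans (Subgroup.card_comap_dvd_of_injective K (𝐂 R).subtype (Subgroup.subtype_injective _)))
  refine ⟨f, hind, fun f' hf' => ?_⟩
  obtain ⟨ξ, hξ⟩ := IsPBlock.nonempty hind.1
  obtain ⟨ξ', hξ'⟩ := IsPBlock.nonempty hf'.1
  have key : ∀ {f : Set (IrrCharacter (𝐂 R))}, IsInducedBlock M (𝐂 R) f B → ∀ ξ ∈ f,
      classInner (fun k : K.subgroupOf (𝐂 R) => (ξ : 𝐂 R → ℂ) k) (η : K.subgroupOf (𝐂 R) → ℂ) ≠ 0 := by
    intro f hf ξ hξ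
    refine hover ξ ?_
    rw [← hid, lam_resSub_resSub_eq hf hξ hB, if_pos rfl]
    exact one_ne_zero
  exact IsPBlock.eq_of_mem hf'.1 hind.1 hξ'
    (IsPBlock.mem_of_sameBlock hind.1 hξ
      (sameBlock_over hM hK' hη hL hQ hC (key hind ξ hξ) (key hf' ξ' hξ')))

end Local

end Cfsg.Lib.Blocks
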