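import Cfsg.Agent.Lib.Blocks.PrincipalType
import Cfsg.Agent.Lib.PLocal.Constraint
import Cfsg.Agent.Lib.Comp.Constrained

/-!
# Blocks of `p`-constrained groups over an invariant character of the `p'`-core
-/

namespace Cfsg.Lib.Blocks

open Cfsg.Lib.Characters Finset
open scoped ComplexConjugate Classical

set_option linter.unusedSectionVars false
set_option linter.style.haveILetI false
set_option linter.style.longLine false

universe u

variable {G : Type u} [Group G] [Fintype G] {M : Ideal Cfsg.AlgInt} [M.IsPrime]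
variable {p : ℕ} [hp : Fact p.Prime]

theorem pPrimePCore_normal' : (Cfsg.pPrimePCore p G).Normal := by
  haveI := Transfer.pPrimeCore_normal (G := G) p
  haveI := Transfer.pCore_normal (G := G ⧸ Cfsg.pPrimeCore p G) p
  exact Subgroup.Normal.comap inferInstance _

/-- A constrained group has a `p`-subgroup supplementing the `p'`-core in `O_{p',p}`. -/
theorem exists_constrained_supplement (h : Cfsg.IsPConstrained p G) :
    ∃ Q : Subgroup G, IsPGroup p Q ∧ (Cfsg.pPrimeCore p G ⊔ Q).Normal ∧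
      Subgroup.centralizer (Q : Set G) ≤ Cfsg.pPrimeCore p G ⊔ Q := by
  obtain ⟨P⟩ : Nonempty (Sylow p ↥(Cfsg.pPrimePCore p G)) := inferInstance
  have he : Cfsg.pPrimeCore p G ⊔ (P : Subgroup ↥(Cfsg.pPrimePCore p G)).map (Cfsg.pPrimePCore p G).subtype
      = Cfsg.pPrimePCore p G := by rw [sup_comm]; exact Comp.sylow_sup_core_eq P
  exact ⟨_, P.isPGroup'.map _, he.symm ▸ pPrimePCore_normal', he.symm ▸ h P⟩

variable {K : Subgroup G} [Fintype K]

/-- The block over an invariant character of the `p'`-core of a constrained group. -/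
theorem constrained_block (hM : IsPModular p M) (hc : Cfsg.IsPConstrained p G)
    [hKn : K.Normal] (hK : K = Cfsg.pPrimeCore p G) {θ : IrrCharacter K} (hθ : ∀ g : G, cjIrr θ g = θ) :
    ∃ B : Set (IrrCharacter G), IsPBlock M B ∧
      (∀ χ : IrrCharacter G, χ ∈ B ↔ classInner (fun k : K => (χ : G → ℂ) k) (θ : K → ℂ) ≠ 0) ∧
      (∀ S : Sylow p G, IsDefectGroup p M B (S : Subgroup G)) ∧
      (∀ D : Subgroup G, IsDefectGroup p M B D → ∃ S : Sylow p G, D = (S : Subgroup G)) ∧
      ∀ R : Subgroup G, IsPGroup p R →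
        ∃! f : Set (IrrCharacter (Subgroup.centralizer (R : Set G))),
          IsInducedBlock M (Subgroup.centralizer (R : Set G)) f B := by
  have hKp : ¬ p ∣ Nat.card K := by
    rw [hK]
    exact fun h => hp.out.ne_one
      (Nat.eq_one_of_dvd_coprimes (Transfer.coprime_card_pPrimeCore p) h dvd_rfl)
  obtain ⟨Q, hQ, hL, hC⟩ := exists_constrained_supplement hc
  rw [← hK] at hL hC
  obtain ⟨B, hB, hiff, hid, hS, hD⟩ := exists_block_over hM hKp hθ hL hQ hC
  refine ⟨B, hB, hiff, hS, hD, fun R hR => ?_⟩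
  obtain ⟨hcore, hcC⟩ := (PLocal.local_constrained hc hR).2
  have hcore' : Cfsg.pPrimeCore p ↥(Subgroup.centralizer (R : Set G))
      = K.subgroupOf (Subgroup.centralizer (R : Set G)) := by
    rw [← Subgroup.comap_map_eq_self_of_injective (Subgroup.centralizer (R : Set G)).subtype_injective
      (Cfsg.pPrimeCore p ↥(Subgroup.centralizer (R : Set G))), hcore, hK]
    exact Subgroup.inf_subgroupOf_right _ _
  obtain ⟨Q', hQ', hL', hC'⟩ := exists_constrained_supplement hcC
  rw [hcore'] at hL' hC'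
  exact existsUnique_induced_centralizer hM hKp hθ hB hid hR hL' hQ' hC'

theorem isPConstrained_of_pSolvable (h : Cfsg.IsPSolvable p G) : Cfsg.IsPConstrained p G := by
  haveI := Transfer.pPrimeCore_normal (G := G) p
  rw [PLocal.isPConstrained_iff_quotient]
  exact PLocal.selfCentralizingCore_of_pSolvable
    (PLocal.IsPSolvable.of_surjective _ (QuotientGroup.mk'_surjective _) h) (Solv.pPrimeCore_quotient_eq_bot p)

/-- Constraint read from one Sylow subgroup of `O_{p',p}`. -/
theorem isPConstrained_of_sylow {L Q : Subgroup G} (hL : L = Cfsg.pPrimePCore p G) (hQL : Q ≤ L)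
    (hQp : IsPGroup p Q) (hQS : ¬ p ∣ Q.relIndex L) (hCQ : Subgroup.centralizer (Q : Set G) ≤ L) :
    Cfsg.IsPConstrained p G := by
  subst hL
  intro P
  let Q' : Sylow p ↥(Cfsg.pPrimePCore p G) :=
    (hQp.of_equiv (Subgroup.subgroupOfEquivOfLe hQL).symm).toSylow hQS
  obtain ⟨x, hx⟩ := MulAction.exists_smul_eq (↥(Cfsg.pPrimePCore p G)) Q' P
  intro c hc
  haveI := pPrimePCore_normal' (G := G) (p := p)
  have h1 : (x : G)⁻¹ * c * x ∈ Cfsg.pPrimePCore p G := by
    refine hCQ (Subgroup.mem_centralizer_iff.mpr fun q hq => ?_)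
    have hmem : (x : G) * q * (x : G)⁻¹ ∈ (P : Subgroup ↥(Cfsg.pPrimePCore p G)).map (Cfsg.pPrimePCore p G).subtype := by
      refine ⟨x * ⟨q, hQL hq⟩ * x⁻¹, ?_, rfl⟩
      rw [← hx, Sylow.coe_subgroup_smul]
      exact ⟨⟨q, hQL hq⟩, hq, rfl⟩
    have h2 := Subgroup.mem_centralizer_iff.mp hc _ hmem
    calc q * ((x : G)⁻¹ * c * x) = (x : G)⁻¹ * ((x : G) * q * (x : G)⁻¹ * c) * x := by group
      _ = (x : G)⁻¹ * (c * ((x : G) * q * (x : G)⁻¹)) * x := by rw [h2]
      _ = _ := by group
  have := Subgroup.Normal.conj_mem inferInstance _ h1 (x : G)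
  simpa [mul_assoc] using this

end Cfsg.Lib.Blocks
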