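import Cfsg.Agent.Lib.Blocks.Heights
import Cfsg.Agent.Lib.Blocks.Counting
import Cfsg.Agent.Lib.Blocks.Principal
import Cfsg.Agent.Lib.Blocks.PrincipalRestriction
import Cfsg.Agent.Lib.Characters.Extension
import Cfsg.Agent.Lib.Characters.Permutation

/-!
# Real blocks of full defect for the prime two are principal
-/

namespace Cfsg.Lib.Blocks

open Cfsg.Lib.Characters Finset
open scoped ComplexConjugate Classical

set_option linter.unusedSectionVars false
set_option linter.style.longLine false
set_option linter.style.haveILetI false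

variable {G : Type*} [Group G] [Fintype G] {M : Ideal Cfsg.AlgInt} [M.IsPrime]

theorem centralChar_conj (χ : IrrCharacter G) (g : G) :
    centralChar (fun h => conj ((χ : G → ℂ) h)) g = centralChar (χ : G → ℂ) g⁻¹ := by
  have h1 : conj ((χ : G → ℂ) 1) = (χ : G → ℂ) 1 := by
    rw [← char_inv_eq_conj χ.2.isCharacter, inv_one]
  simp only [centralChar, h1, centralizer_inv_singleton]
  rw [char_inv_eq_conj χ.2.isCharacter]

/-- An odd degree character whose reduced central character is inversion invariant is principal. -/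
theorem mem_principal_of_real_odd (hM : IsPModular 2 M) {η : IrrCharacter G}
    (hodd : Odd (charDegree (η : G → ℂ)))
    (hreal : ∀ g : G, red M (centralChar (η : G → ℂ) g⁻¹) = red M (centralChar (η : G → ℂ) g)) :
    η ∈ principalBlock M G := by
  haveI : Fact (Nat.Prime 2) := ⟨Nat.prime_two⟩
  have hB₀ := isPBlock_principal (G := G) (M := M)
  set B₀ := principalBlock M G
  haveI : CharP (ResF M) 2 := charP_resF hM
  have hainv : ∀ g : G, red M (blockCoeff B₀ g⁻¹) = red M (blockCoeff B₀ g) := by
    intro g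
    congr 1
    rw [blockCoeff_eq, blockCoeff_eq]
    congr 1
    let c : IrrCharacter G → IrrCharacter G := fun χ =>
      ⟨fun h => conj ((χ : G → ℂ) h), isIrrCharacter_conj χ.2⟩
    have hc : Function.Involutive c := fun χ => Subtype.ext (funext fun h => Complex.conj_conj _)
    have hcB : ∀ χ, c χ ∈ B₀ ↔ χ ∈ B₀ := by
      have h : ∀ χ, χ ∈ B₀ → c χ ∈ B₀ := by
        intro χ hχ
        refine IsPBlock.mem_of_sameBlock hB₀ trivChar_mem_principal ((sameBlock_iff M _ _).mpr fun g => ?_)
        show red M (centralChar (trivChar G : G → ℂ) g) = red M (centralChar (fun h => conj ((χ : G → ℂ) h)) g)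
        rw [centralChar_conj, ← lam_classSum, ← lam_classSum,
          lam_eq_of_sameBlock M (IsPBlock.sameBlock hB₀ hχ trivChar_mem_principal), lam_classSum, lam_classSum]
        simp [centralChar, centralizer_inv_singleton]
      exact fun χ => ⟨fun hχ => hc χ ▸ h _ hχ, h χ⟩
    refine Fintype.sum_equiv hc.toPerm _ _ fun χ => ?_
    have h1 : conj ((χ : G → ℂ) 1) = (χ : G → ℂ) 1 := by
      rw [← char_inv_eq_conj χ.2.isCharacter, inv_one]
    show _ = if c χ ∈ B₀ then conj ((χ : G → ℂ) 1) * conj (conj ((χ : G → ℂ) g)) else 0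
    rw [h1, Complex.conj_conj, char_inv_eq_conj χ.2.isCharacter, Complex.conj_conj]
    exact if_congr (hcB χ).symm rfl rfl
  -- only the identity class survives
  have key : ∀ χ : IrrCharacter G, Odd (charDegree (χ : G → ℂ)) →
      (∀ g : G, red M (centralChar (χ : G → ℂ) g⁻¹) = red M (centralChar (χ : G → ℂ) g)) →
      (if χ ∈ B₀ then (1 : ResF M) else 0) = red M (blockCoeff B₀ 1) := by
    intro χ hχodd hχreal
    rw [← sum_classes_coeff_mul hB₀ χ]
    set f : ConjClasses G → ResF M := fun C =>
      red M (blockCoeff B₀ (cOut C)) * red M (centralChar (χ : G → ℂ) (cOut C))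
    let invC : ConjClasses G → ConjClasses G := fun C => ConjClasses.mk (cOut C)⁻¹
    have hval : ∀ (a b : G), IsConj a b → red M (blockCoeff B₀ a) = red M (blockCoeff B₀ b) ∧
        red M (centralChar (χ : G → ℂ) a) = red M (centralChar (χ : G → ℂ) b) := by
      intro a b hab
      constructor
      · have := (isClassElt_bIdem (M := M) B₀).eq_of_isConj hab
        rwa [coeff_bIdem, coeff_bIdem] at this
      · rw [← lam_classSum, ← lam_classSum]
        congr 1
        refine gr_ext fun g => ?_
        simp only [coeff_classSum]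
        exact if_congr ⟨fun h => hab.symm.trans h, fun h => hab.trans h⟩ rfl rfl
    have hinvconj : ∀ C, IsConj (cOut (invC C)) (cOut C)⁻¹ := fun C => out_isConj _
    have hf : ∀ C, f (invC C) = f C := by
      intro C
      simp only [f, (hval _ _ (hinvconj C)).1, (hval _ _ (hinvconj C)).2, hainv, hχreal]
    have hinv2 : ∀ C, invC (invC C) = C := by
      intro C
      conv_rhs => rw [← mk_cOut C]
      rw [ConjClasses.mk_eq_mk_iff_isConj]
      obtain ⟨c, hc⟩ := isConj_iff.mp (hinvconj C)
      exact isConj_iff.mpr ⟨c, by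
        rw [← inv_inv (cOut C), ← hc]; group⟩
    have hfix : ∀ C, invC C = C → C ≠ ConjClasses.mk 1 → f C = 0 := by
      intro C hC hC1
      by_contra hne
      obtain ⟨h1, h2⟩ := mul_ne_zero_iff.mp hne
      set g := cOut C
      have hreg := not_dvd_of_coeff_ne hM hB₀ h1
      have hle := blockDefect_le_of_centralChar_ne hM (B := blockOf M (χ : G → ℂ)) ⟨χ, rfl⟩
        (mem_blockOf_self M χ) h2
      have hd : blockDefect 2 (blockOf M (χ : G → ℂ)) = (Nat.card G).factorization 2 := by
        rw [blockDefect]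
        have := inf_le_factorization 2 (mem_blockOf_self M χ)
        rw [Nat.factorization_eq_zero_of_not_dvd (Nat.not_even_iff_odd.mpr hχodd ∘ even_iff_two_dvd.mpr)] at this
        omega
      rw [hd] at hle
      -- inversion on the class has a fixed point
      set X := {a : G // IsConj g a}
      have hgi : IsConj g g⁻¹ := by
        have := ConjClasses.mk_eq_mk_iff_isConj.mp (hC.trans (mk_cOut C).symm)
        exact this.symm
      have hXinv : ∀ a : X, IsConj g a.1⁻¹ := fun a => hgi.trans (by
        obtain ⟨c, hc⟩ := isConj_iff.mp a.2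
        exact isConj_iff.mpr ⟨c, by rw [← hc]; group⟩)
      let σ : Equiv.Perm X := Function.Involutive.toPerm (fun a : X => (⟨a.1⁻¹, hXinv a⟩ : X))
        fun a => Subtype.ext (inv_inv _)
      have hcardX : ¬ 2 ∣ Nat.card X := by
        intro hd
        have h3 := (Subgroup.centralizer ({g} : Set G)).index_mul_card
        have h4 : Nat.card X = (Subgroup.centralizer ({g} : Set G)).index := by
          rw [← card_filter_isConj g, Nat.card_eq_fintype_card, Fintype.card_subtype]
        rw [h4] at hd
        have h5 := congrArg (fun k : ℕ => k.factorization 2) h3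
        simp only [Nat.factorization_mul Subgroup.index_ne_zero_of_finite Nat.card_pos.ne',
          Finsupp.add_apply] at h5
        have := Nat.prime_two.factorization_pos_of_dvd Subgroup.index_ne_zero_of_finite hd
        omega
      obtain ⟨a, ha⟩ : ∃ a : X, σ a = a := by
        by_contra hno
        push Not at hno
        apply hcardX
        rw [Nat.card_eq_fintype_card]
        refine (ZMod.natCast_eq_zero_iff _ 2).mp ?_
        rw [← Finset.card_univ, Finset.card_eq_sum_ones, Nat.cast_sum]
        refine Finset.sum_involution (fun a _ => σ a) (fun a _ => ?_) (fun a _ _ => hno a) (fun a _ => Finset.mem_univ _)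
          (fun a _ => Subtype.ext (inv_inv _))
        exact CharTwo.add_self_eq_zero _
      have ha' : (a : G)⁻¹ = a := congrArg Subtype.val ha
      obtain ⟨c, hc⟩ := isConj_iff.mp a.2
      have hord : orderOf (a : G) = orderOf g := by
        rw [← hc, ← MulAut.conj_apply, MulEquiv.orderOf_eq]
      have ha2 : orderOf (a : G) ∣ 2 := orderOf_dvd_of_pow_eq_one (by
        rw [sq]; nth_rw 1 [← ha']; exact inv_mul_cancel _)
      rcases (Nat.dvd_prime Nat.prime_two).mp ha2 with h | h
      · rw [hord, orderOf_eq_one_iff] at h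
        exact hC1 (by rw [← mk_cOut C]; exact congrArg ConjClasses.mk h)
      · exact hreg (by rw [← hord, h])
    rw [← Finset.add_sum_erase _ _ (Finset.mem_univ (ConjClasses.mk (1 : G)))]
    have hrest : ∑ C ∈ univ.erase (ConjClasses.mk (1 : G)), f C = 0 := by
      refine Finset.sum_involution (fun C _ => invC C) (fun C _ => ?_) (fun C hC h => ?_) (fun C hC => ?_)
        (fun C _ => hinv2 C)
      · rw [hf]; exact CharTwo.add_self_eq_zero _
      · exact fun hfx => h (hfix C hfx (Finset.ne_of_mem_erase hC))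
      · refine Finset.mem_erase.mpr ⟨fun he => Finset.ne_of_mem_erase hC ?_, Finset.mem_univ _⟩
        have h1 := hinv2 C
        rw [he] at h1
        rw [← h1]
        show ConjClasses.mk (cOut (ConjClasses.mk (1 : G)))⁻¹ = _
        rw [isConj_one_right.mp (out_isConj (1 : G)).symm, inv_one]
    show f _ + _ = _
    rw [hrest, add_zero]
    show red M (blockCoeff B₀ (cOut _)) * red M (centralChar (χ : G → ℂ) (cOut _)) = _
    rw [(hval _ _ (out_isConj 1)).1, (hval _ _ (out_isConj 1)).2]
    have : centralChar (χ : G → ℂ) 1 = 1 := by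
      rw [← omega_classSum, show classSum ℂ (1 : G) = 1 from gr_ext fun g => by
        simp [coeff_classSum, gr_one_apply, -isConj_iff], omega_one]
    rw [this, red_one, mul_one]
  have h1 := key (trivChar G) (by
      have : ((charDegree (trivChar G : G → ℂ) : ℕ) : ℂ) = 1 := by rw [coe_charDegree, trivChar_apply]
      rw [show charDegree (trivChar G : G → ℂ) = 1 from Nat.cast_eq_one.mp this]; exact odd_one)
    fun g => by simp [centralChar, centralizer_inv_singleton]
  rw [if_pos trivChar_mem_principal] at h1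
  have h2 := key η hodd hreal
  rw [← h1] at h2
  by_contra hne
  rw [if_neg hne] at h2
  exact zero_ne_one h2

/-- An extendible real character of odd degree has a principal extension. -/
theorem exists_principal_extension (hM : IsPModular 2 M) (N : Subgroup G) [N.Normal] (θ : IrrCharacter N)
    (hreal : ∀ n : N, ((θ : N → ℂ) n).im = 0) (hodd : Odd (charDegree (θ : N → ℂ))) (η : IrrCharacter G)
    (hη : ∀ n : N, (η : G → ℂ) n = (θ : N → ℂ) n) :
    ∃ η' : IrrCharacter G, (∀ n : N, (η' : G → ℂ) n = (θ : N → ℂ) n) ∧ η' ∈ principalBlock M G := by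
  haveI : Fact (Nat.Prime 2) := ⟨Nat.prime_two⟩
  haveI : CharP (ResF M) 2 := charP_resF hM
  have hres : (fun m : N => (η : G → ℂ) m) = (θ : N → ℂ) := funext hη
  obtain ⟨μ, hμN, hμ⟩ := exists_linear_of_extensions η.2 (isIrrCharacter_conj η.2) (M := N)
    (fun m => by rw [hη m]; exact Complex.conj_eq_iff_im.mpr (hreal m)) (hres.symm ▸ θ.2)
  set k := (Nat.card G).factorization 2
  set m := Nat.card G / 2 ^ k
  have hm : Odd m := by
    rw [← Nat.not_even_iff_odd, even_iff_two_dvd]
    exact Nat.not_dvd_ordCompl Nat.prime_two Nat.card_pos.ne'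
  obtain ⟨e, he⟩ : ∃ e, 2 * e = m + 1 := by obtain ⟨r, hr⟩ := hm; exact ⟨r + 1, by omega⟩
  set ν : G →* ℂˣ := μ ^ e
  let η' : IrrCharacter G := ⟨fun h => (ν h : ℂ) * (η : G → ℂ) h, isIrrCharacter_linear_mul ν η.2⟩
  have hmk : ∀ g, (μ g : ℂˣ) ^ (m * 2 ^ k) = 1 := fun g => by
    rw [← map_pow, show m * 2 ^ k = Nat.card G from Nat.div_mul_cancel (Nat.ordProj_dvd _ _),
      pow_card_eq_one', map_one]
  refine ⟨η', fun n => ?_, mem_principal_of_real_odd hM ?_ fun g => ?_⟩
  · show (ν (n : G) : ℂ) * (η : G → ℂ) n = _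
    rw [show ν (n : G) = μ (n : G) ^ e from rfl, hμN _ n.2, one_pow, Units.val_one, one_mul, hη]
  · have h1 : ((charDegree (η' : G → ℂ) : ℕ) : ℂ) = (charDegree (θ : N → ℂ) : ℕ) := by
      rw [coe_charDegree, coe_charDegree, ← hη 1]
      show (ν 1 : ℂ) * (η : G → ℂ) 1 = _
      rw [map_one, Units.val_one, one_mul]
      rfl
    rw [show charDegree (η' : G → ℂ) = charDegree (θ : N → ℂ) from Nat.cast_inj.mp h1]
    exact hodd
  · -- the twist by a `2`-power order linear character is invisible modulo `M`
    rw [← centralChar_conj η' g]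
    set w : ℂˣ := μ g ^ m
    have hw : (w : ℂ) ^ 2 ^ k = 1 := by
      rw [← Units.val_pow_eq_pow_val, ← pow_mul, hmk, Units.val_one]
    have hwi : ((w⁻¹ : ℂˣ) : ℂ) ^ 2 ^ k = 1 := by
      rw [← Units.val_pow_eq_pow_val, inv_pow, ← pow_mul, hmk, inv_one, Units.val_one]
    have hred : red M ((w⁻¹ : ℂˣ) : ℂ) = 1 := by
      have h1 : red M ((w⁻¹ : ℂˣ) : ℂ) ^ 2 ^ k = 1 := by
        rw [← red_pow (root_mem_locRing (pow_pos two_pos k) hwi), hwi, red_one]
      exact (iterateFrobenius_inj (ResF M) 2 k) (by simpa [iterateFrobenius_def] using h1)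
    have hval : conj ((η' : G → ℂ) g) = ((w⁻¹ : ℂˣ) : ℂ) * (η' : G → ℂ) g := by
      show conj ((ν g : ℂ) * (η : G → ℂ) g) = _ * ((ν g : ℂ) * (η : G → ℂ) g)
      have hνc : conj (ν g : ℂ) = (((ν g)⁻¹ : ℂˣ) : ℂ) := by
        rw [Units.val_inv_eq_inv_val]
        refine (Complex.inv_eq_conj ?_).symm
        refine Complex.norm_eq_one_of_pow_eq_one (n := m * 2 ^ k) ?_ (mul_ne_zero hm.pos.ne' (pow_ne_zero _ two_ne_zero))
        rw [← Units.val_pow_eq_pow_val, show ν g = μ g ^ e from rfl, pow_right_comm, hmk, one_pow, Units.val_one]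
      rw [map_mul, hνc, ← hμ g, ← mul_assoc, ← mul_assoc, ← Units.val_mul, ← Units.val_mul]
      congr 2
      show (μ g ^ e)⁻¹ * μ g = (μ g ^ m)⁻¹ * μ g ^ e
      rw [inv_mul_eq_iff_eq_mul, mul_left_comm, eq_inv_mul_iff_mul_eq, ← pow_add, ← two_mul, he, pow_succ]
    have h1' : conj ((η' : G → ℂ) 1) = (η' : G → ℂ) 1 := by
      rw [← char_inv_eq_conj η'.2.isCharacter, inv_one]
    have e : centralChar (fun h => conj ((η' : G → ℂ) h)) g
        = ((w⁻¹ : ℂˣ) : ℂ) * centralChar (η' : G → ℂ) g := by
      simp only [centralChar, hval, h1']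
      ring
    rw [e, red_mul (root_mem_locRing (pow_pos two_pos k) hwi) (centralChar_mem_locRing M η' g), hred, one_mul]

end Cfsg.Lib.Blocks
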