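import Cfsg.Agent.Lib.Blocks.Subpairs

/-!
# Maximal pairs: extension and conjugacy, relative to an overgroup of the centralizer
-/

namespace Cfsg.Lib.Blocks

open Cfsg.Lib.Characters Finset
open scoped ComplexConjugate Classical

set_option linter.unusedSectionVars false
set_option linter.style.haveILetI false
set_option linter.style.longLine false

universe u

variable {G : Type u} [Group G] [Fintype G] {M : Ideal Cfsg.AlgInt} [M.IsPrime]
variable {p : ℕ} [Fact p.Prime]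

local notation "𝐂" Q:max => Subgroup.centralizer ((Q : Subgroup G) : Set G)

theorem cjE_mul {R : Type*} [CommRing R] (x : G) (u v : MonoidAlgebra R G) :
    cjE x (u * v) = cjE x u * cjE x v := by
  refine gr_ext fun g => ?_
  rw [coeff_cjE, gr_mul_apply, gr_mul_apply]
  refine Fintype.sum_equiv (MulAut.conj x).toEquiv _ _ fun a => ?_
  simp [mul_assoc]

variable (M) in
/-- The stabilizer in `H` of a pair. -/
def pairStab (H Q : Subgroup G) (f : Set (IrrCharacter (𝐂 Q))) : Subgroup G where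
  carrier := {y | y ∈ H ∧ y ∈ Subgroup.normalizer (Q : Set G) ∧ cjE y (subE M Q f) = subE M Q f}
  one_mem' := ⟨one_mem _, one_mem _, cjE_one _⟩
  mul_mem' := fun {a b} ha hb => ⟨mul_mem ha.1 hb.1, mul_mem ha.2.1 hb.2.1, by
    rw [← cjE_cjE, hb.2.2, ha.2.2]⟩
  inv_mem' := fun {a} ha => ⟨inv_mem ha.1, inv_mem ha.2.1, by
    conv_lhs => rw [← ha.2.2, cjE_cjE, inv_mul_cancel, cjE_one]⟩

theorem mem_pairStab {H Q : Subgroup G} {f : Set (IrrCharacter (𝐂 Q))} {y : G} :
    y ∈ pairStab M H Q f ↔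
      y ∈ H ∧ y ∈ Subgroup.normalizer (Q : Set G) ∧ cjE y (subE M Q f) = subE M Q f := Iff.rfl

theorem le_pairStab_self {H Q : Subgroup G} (hQH : Q ≤ H) (f : Set (IrrCharacter (𝐂 Q))) :
    Q ≤ pairStab M H Q f := fun x hx => by
  refine ⟨hQH hx, Subgroup.le_normalizer hx, gr_ext fun a => ?_⟩
  by_cases ha : a ∈ 𝐂 Q
  · exact coeff_cjE_centralizer hx _ ha
  · rw [coeff_cjE, subE, coeff_incSub_notMem _ _ ha, coeff_incSub_notMem]
    intro h'
    have h2 := Subgroup.mem_centralizer_iff.mp h' x hx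
    have h4 : a * x = x * (x⁻¹ * a * x) := by group
    rw [h2] at h4
    exact ha (mul_right_cancel h4 ▸ h')

variable (M) in
/-- The pair cannot be extended normally inside `H`. -/
def IsMaxIn (p : ℕ) (H Q : Subgroup G) (f : Set (IrrCharacter (𝐂 Q))) : Prop :=
  ∀ R : Subgroup G, IsPGroup p R → Q ≤ R → R ≤ pairStab M H Q f → BrNe R (subE M Q f) → R = Q

variable (M) in
/-- The sum of the conjugates of the idempotent of a pair over the cosets of its stabilizer. -/
noncomputable def orbitSum (H Q : Subgroup G) (f : Set (IrrCharacter (𝐂 Q))) :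
    MonoidAlgebra (ResF M) G :=
  ∑ q : H ⧸ (pairStab M H Q f).subgroupOf H, cjE ((q.out : H) : G) (subE M Q f)

theorem cjE_out {H Q : Subgroup G} {f : Set (IrrCharacter (𝐂 Q))} (x : H) :
    cjE (((QuotientGroup.mk x : H ⧸ (pairStab M H Q f).subgroupOf H).out : H) : G) (subE M Q f)
      = cjE (x : G) (subE M Q f) := by
  obtain ⟨t, ht⟩ := QuotientGroup.mk_out_eq_mul ((pairStab M H Q f).subgroupOf H) x
  rw [ht, Subgroup.coe_mul, ← cjE_cjE]
  congr 1
  exact (t.2 : ((t : H) : G) ∈ pairStab M H Q f).2.2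

theorem coeff_orbitSum_conj {H Q : Subgroup G} {f : Set (IrrCharacter (𝐂 Q))} {h : G} (hh : h ∈ H)
    (g : G) : (orbitSum M H Q f).coeff (h * g * h⁻¹) = (orbitSum M H Q f).coeff g := by
  rw [orbitSum, gr_sum_apply, gr_sum_apply]
  let hH : H := ⟨h, hh⟩
  refine Fintype.sum_equiv (MulAction.toPerm (hH⁻¹)) _ _ fun q => ?_
  induction q using QuotientGroup.induction_on with
  | _ x =>
    show _ = (cjE (((QuotientGroup.mk (hH⁻¹ * x) : H ⧸ _).out : H) : G) (subE M Q f)).coeff g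
    rw [cjE_out, cjE_out, coeff_cjE, coeff_cjE, Subgroup.coe_mul, Subgroup.coe_inv]
    congr 1
    simp [hH, mul_assoc]

theorem isStableUnder_orbitSum {H Q : Subgroup G} (f : Set (IrrCharacter (𝐂 Q))) :
    IsStableUnder H (orbitSum M H Q f) := fun _ hh g => coeff_orbitSum_conj hh g

theorem coeff_orbitSum_notMem {H Q : Subgroup G} (hCH : 𝐂 Q ≤ H) (f : Set (IrrCharacter (𝐂 Q)))
    {g : G} (hg : g ∉ H) : (orbitSum M H Q f).coeff g = 0 := by
  rw [orbitSum, gr_sum_apply]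
  refine Finset.sum_eq_zero fun q _ => ?_
  rw [coeff_cjE, subE, coeff_incSub_notMem]
  intro h
  apply hg
  simpa [mul_assoc] using mul_mem (mul_mem q.out.2 (hCH h)) (inv_mem q.out.2)

/-- The action of a subgroup of `H` on the cosets of the stabilizer. -/
theorem mem_stab_of_fixed {H T S : Subgroup G} {x : H} {s : G} (hsH : s ∈ H)
    (h : (QuotientGroup.mk (⟨s, hsH⟩ * x) : H ⧸ T.subgroupOf H) = QuotientGroup.mk x) :
    (x : G)⁻¹ * s * x ∈ T := by
  have h1 := QuotientGroup.eq.mp h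
  rw [Subgroup.mem_subgroupOf] at h1
  have h2 := T.inv_mem h1
  simpa [mul_assoc] using h2

/-- Only cosets carrying `S` into `Q` contribute at elements centralized by a `p`-group `S`. -/
theorem coeff_orbitSum_eq (hM : IsPModular p M) {H Q : Subgroup G} (hQ : IsPGroup p Q) (hQH : Q ≤ H)
    {f : Set (IrrCharacter (𝐂 Q))} (hmax : IsMaxIn M p H Q f) {S : Subgroup G} (hS : IsPGroup p S)
    (hSH : S ≤ H) {c : G} (hc : c ∈ 𝐂 S) :
    (orbitSum M H Q f).coeff c = ∑ q ∈ (univ : Finset (H ⧸ (pairStab M H Q f).subgroupOf H)).filter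
      (fun q => S.map (MulAut.conj ((q.out : H) : G)⁻¹).toMonoidHom ≤ Q),
        (cjE ((q.out : H) : G) (subE M Q f)).coeff c := by
  rw [orbitSum, gr_sum_apply]
  let act : MulAction S (H ⧸ (pairStab M H Q f).subgroupOf H) :=
    MulAction.compHom _ (Subgroup.inclusion hSH)
  have hact : ∀ (s : S) (x : H), (s • (QuotientGroup.mk x : H ⧸ (pairStab M H Q f).subgroupOf H))
      = QuotientGroup.mk (⟨(s : G), hSH s.2⟩ * x) := fun s x => rfl
  have hinv : ∀ (s : S) (q : H ⧸ (pairStab M H Q f).subgroupOf H),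
      (cjE (((s • q).out : H) : G) (subE M Q f)).coeff c = (cjE ((q.out : H) : G) (subE M Q f)).coeff c := by
    intro s q
    induction q using QuotientGroup.induction_on with
    | _ x =>
      rw [hact, cjE_out, cjE_out, Subgroup.coe_mul, ← cjE_cjE, coeff_cjE_centralizer s.2 _ hc]
  have key := @sum_eq_sum_fixed (ResF M) _ (H ⧸ (pairStab M H Q f).subgroupOf H) _ S _ act p _ hS
    (red_p hM) _ (fun q => (cjE ((q.out : H) : G) (subE M Q f)).coeff c) hinv _
  rw [key]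
  · refine (Finset.sum_subset_zero_on_sdiff ?_ ?_ fun _ _ => rfl).symm
    · intro q hq
      refine Finset.mem_filter.mpr ⟨Finset.mem_univ _, fun s => ?_⟩
      have hq' := (Finset.mem_filter.mp hq).2
      obtain ⟨x, rfl⟩ : ∃ x : H, QuotientGroup.mk x = q := ⟨q.out, Quotient.out_eq q⟩
      set o := (QuotientGroup.mk x : H ⧸ (pairStab M H Q f).subgroupOf H).out
      have ho : QuotientGroup.mk o = (QuotientGroup.mk x : H ⧸ (pairStab M H Q f).subgroupOf H) :=
        Quotient.out_eq _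
      rw [← ho, hact, QuotientGroup.eq, Subgroup.mem_subgroupOf]
      have h1 : (o : G)⁻¹ * (s : G) * (o : G) ∈ Q := hq' ⟨s, s.2, by simp [o]⟩
      have h2 := le_pairStab_self (M := M) hQH f (Q.inv_mem h1)
      simpa [mul_assoc] using h2
    · intro q hq
      obtain ⟨hfix, hnot⟩ := Finset.mem_sdiff.mp hq
      by_contra hne
      refine hnot (Finset.mem_filter.mpr ⟨Finset.mem_univ _, ?_⟩)
      set o := q.out
      rw [coeff_cjE] at hne
      set Y := S.map (MulAut.conj ((o : H) : G)⁻¹).toMonoidHom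
      have hYT : Y ≤ pairStab M H Q f := by
        rintro y ⟨s, hs, rfl⟩
        have h1 := (Finset.mem_filter.mp hfix).2 ⟨s, hs⟩
        rw [← Quotient.out_eq q] at h1
        have h2 := mem_stab_of_fixed (S := S) (T := pairStab M H Q f) (x := o) (hSH hs) h1
        simpa using h2
      have hYN : Y ≤ Subgroup.normalizer (Q : Set G) := fun y hy => (hYT hy).2.1
      have hp : IsPGroup p (Q ⊔ Y : Subgroup G) := hQ.to_sup_of_normal_left' (hS.map _) hYN
      have hsupp : ((o : H) : G)⁻¹ * c * o ∈ 𝐂 Q := by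
        by_contra hout
        exact hne (by rw [subE, coeff_incSub_notMem _ _ hout])
      have hbr : BrNe (Q ⊔ Y : Subgroup G) (subE M Q f) := by
        refine ⟨((o : H) : G)⁻¹ * c * o, ?_, hne⟩
        rw [mem_centralizer_iff_le]
        refine sup_le (mem_centralizer_iff_le.mp hsupp) ?_
        rintro y ⟨s, hs, rfl⟩
        rw [Subgroup.mem_centralizer_singleton_iff]
        have h3 := Subgroup.mem_centralizer_iff.mp hc s hs
        show (MulAut.conj ((o : H) : G)⁻¹) s * (((o : H) : G)⁻¹ * c * o) = (((o : H) : G)⁻¹ * c * o) * (MulAut.conj ((o : H) : G)⁻¹) s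
        simp only [MulAut.conj_apply, inv_inv]
        calc _ = ((o : H) : G)⁻¹ * (s * c) * o := by group
          _ = ((o : H) : G)⁻¹ * (c * s) * o := by rw [h3]
          _ = _ := by group
      exact le_sup_right.trans (hmax _ hp le_sup_left (sup_le (le_pairStab_self hQH f) hYT) hbr).le

theorem exists_of_coeff_orbitSum_ne (hM : IsPModular p M) {H Q : Subgroup G} (hQ : IsPGroup p Q)
    (hQH : Q ≤ H) {f : Set (IrrCharacter (𝐂 Q))} (hmax : IsMaxIn M p H Q f) {S : Subgroup G}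
    (hS : IsPGroup p S) (hSH : S ≤ H) {c : G} (hc : c ∈ 𝐂 S)
    (hne : (orbitSum M H Q f).coeff c ≠ 0) :
    ∃ h ∈ H, S.map (MulAut.conj h).toMonoidHom ≤ Q := by
  rw [coeff_orbitSum_eq hM hQ hQH hmax hS hSH hc] at hne
  obtain ⟨q, hq, -⟩ := Finset.exists_ne_zero_of_sum_ne_zero hne
  exact ⟨_, inv_mem q.out.2, (Finset.mem_filter.mp hq).2⟩

/-- The orbit sum read at `Q`: the conjugates of the block under the normalizer. -/
theorem lam_resSub_orbitSum (hM : IsPModular p M) {H Q : Subgroup G} (hQ : IsPGroup p Q) (hQH : Q ≤ H)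
    {f : Set (IrrCharacter (𝐂 Q))} (hf : IsPBlock M f) (hmax : IsMaxIn M p H Q f) :
    (∀ η ∈ f, lam M η (resSub (𝐂 Q) (orbitSum M H Q f)) = 1) ∧
    ∀ f' : Set (IrrCharacter (𝐂 Q)), IsPBlock M f' → ∀ η ∈ f',
      lam M η (resSub (𝐂 Q) (orbitSum M H Q f)) ≠ 0 →
        ∃ x ∈ H, x ∈ Subgroup.normalizer (Q : Set G) ∧ subE M Q f' = cjE x (subE M Q f) := by
  set W := H ⧸ (pairStab M H Q f).subgroupOf H
  set s := (univ : Finset W).filter
    (fun q => Q.map (MulAut.conj ((q.out : H) : G)⁻¹).toMonoidHom ≤ Q)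
  have hnorm : ∀ q ∈ s, ((q.out : H) : G) ∈ Subgroup.normalizer (Q : Set G) := by
    intro q hq
    have h1 : Q.map (MulAut.conj ((q.out : H) : G)⁻¹).toMonoidHom = Q :=
      Subgroup.eq_of_le_of_card_ge (Finset.mem_filter.mp hq).2
        (card_conjSub ((q.out : H) : G)⁻¹ Q).ge
    refine inv_inv ((q.out : H) : G) ▸ inv_mem ?_
    rw [Subgroup.mem_normalizer_iff]
    intro a
    have h2 := mem_map_conj (Q := Q) (x := ((q.out : H) : G)⁻¹) (g := ((q.out : H) : G)⁻¹ * a * q.out)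
    rw [h1] at h2
    simpa [mul_assoc] using h2.symm
  have hres : resSub (𝐂 Q) (orbitSum M H Q f)
      = ∑ q ∈ s, resSub (𝐂 Q) (cjE ((q.out : H) : G) (subE M Q f)) := gr_ext fun c => by
    rw [coeff_resSub, coeff_orbitSum_eq hM hQ hQH hmax hQ hQH c.2, gr_sum_apply]
    rfl
  choose! φ hφ hφE using fun (q : W) (hq : q ∈ s) =>
    (⟨_, isPBlock_pull _ hf, cjE_subE_normalizer hf (hnorm q hq)⟩ :
      ∃ φ : Set (IrrCharacter (𝐂 Q)), IsPBlock M φ ∧
        cjE ((q.out : H) : G) (subE M Q f) = subE M Q φ)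
  have hlam : ∀ η : IrrCharacter (𝐂 Q), lam M η (resSub (𝐂 Q) (orbitSum M H Q f))
      = ∑ q ∈ s, if η ∈ φ q then 1 else 0 := by
    intro η
    rw [hres, lam_finset_sum]
    exact Finset.sum_congr rfl fun q hq => by rw [hφE q hq, subE, resSub_incSub, lam_bIdem (hφ q hq)]
  refine ⟨fun η hη => ?_, fun f' hf' η hη hne => ?_⟩
  · set q₁ : W := QuotientGroup.mk (1 : H)
    have hq₁ : q₁ ∈ s := by
      refine Finset.mem_filter.mpr ⟨Finset.mem_univ _, ?_⟩
      obtain ⟨t, ht⟩ := QuotientGroup.mk_out_eq_mul ((pairStab M H Q f).subgroupOf H) (1 : H)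
      have ho : ((q₁.out : H) : G) ∈ Subgroup.normalizer (Q : Set G) := by
        rw [ht, one_mul]; exact (t.2 : ((t : H) : G) ∈ pairStab M H Q f).2.1
      rintro _ ⟨a, ha, rfl⟩
      exact ((Subgroup.mem_normalizer_iff.mp (inv_mem ho)) a).mp ha
    have hf₁ : φ q₁ = f := by
      refine subE_inj (hφ q₁ hq₁) hf ?_
      rw [← hφE q₁ hq₁, cjE_out, Subgroup.coe_one, cjE_one]
    rw [hlam, Finset.sum_eq_single_of_mem q₁ hq₁, if_pos (hf₁.symm ▸ hη)]
    intro q hq hne
    rw [if_neg]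
    intro hmem
    apply hne
    have h1 : cjE ((q.out : H) : G) (subE M Q f) = subE M Q f := by
      rw [hφE q hq, IsPBlock.eq_of_mem (hφ q hq) hf hmem hη]
    rw [← Quotient.out_eq q]
    refine QuotientGroup.eq.mpr (Subgroup.mem_subgroupOf.mpr ?_)
    rw [Subgroup.coe_mul, Subgroup.coe_inv, Subgroup.coe_one, mul_one]
    exact inv_mem ⟨q.out.2, hnorm q hq, h1⟩
  · rw [hlam] at hne
    obtain ⟨q, hq, hq0⟩ := Finset.exists_ne_zero_of_sum_ne_zero hne
    have hmem : η ∈ φ q := by_contra fun h => hq0 (if_neg h)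
    exact ⟨_, q.out.2, hnorm q hq,
      by rw [IsPBlock.eq_of_mem hf' (hφ q hq) hη hmem, hφE q hq]⟩

/-- Two maximal pairs with the same reduced central character are conjugate in `H`. -/
theorem isMaxIn_conj (hM : IsPModular p M) {H Q A : Subgroup G} (hQ : IsPGroup p Q) (hA : IsPGroup p A)
    (hQH : Q ≤ H) (hAH : A ≤ H) (hCQ : 𝐂 Q ≤ H) (hCA : 𝐂 A ≤ H)
    {f : Set (IrrCharacter (𝐂 Q))} {g : Set (IrrCharacter (𝐂 A))}
    (hf : IsPBlock M f) (hg : IsPBlock M g)
    (hfmax : IsMaxIn M p H Q f) (hgmax : IsMaxIn M p H A g)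
    (hΛ : ∀ u : MonoidAlgebra (ResF M) G, IsStableUnder H u → (∀ x, x ∉ H → u.coeff x = 0) →
      ∀ η ∈ f, ∀ ξ ∈ g, lam M η (resSub (𝐂 Q) u) = lam M ξ (resSub (𝐂 A) u)) :
    ∃ h ∈ H, Q.map (MulAut.conj h).toMonoidHom = A ∧ subE M A g = cjE h (subE M Q f) := by
  obtain ⟨η, hη⟩ := IsPBlock.nonempty hf
  obtain ⟨ξ, hξ⟩ := IsPBlock.nonempty hg
  have hu1 : lam M ξ (resSub (𝐂 A) (orbitSum M H Q f)) = 1 := by
    rw [← hΛ _ (isStableUnder_orbitSum f) (fun x hx => coeff_orbitSum_notMem hCQ f hx) η hη ξ hξ]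
    exact (lam_resSub_orbitSum hM hQ hQH hf hfmax).1 η hη
  have hu2 : lam M η (resSub (𝐂 Q) (orbitSum M H A g)) = 1 := by
    rw [hΛ _ (isStableUnder_orbitSum g) (fun x hx => coeff_orbitSum_notMem hCA g hx) η hη ξ hξ]
    exact (lam_resSub_orbitSum hM hA hAH hg hgmax).1 ξ hξ
  have hne : ∀ {R : Subgroup G} {ζ : IrrCharacter (𝐂 R)} {v : MonoidAlgebra (ResF M) G},
      lam M ζ (resSub (𝐂 R) v) = 1 → ∃ c ∈ 𝐂 R, v.coeff c ≠ 0 := by
    intro R ζ v h
    refine (brNe_iff R v).mpr fun h0 => ?_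
    rw [h0, lam_zero] at h
    exact zero_ne_one h
  obtain ⟨c₁, hc₁, hne₁⟩ := hne hu1
  obtain ⟨c₂, hc₂, hne₂⟩ := hne hu2
  obtain ⟨h₁, hh₁, hle₁⟩ := exists_of_coeff_orbitSum_ne hM hQ hQH hfmax hA hAH hc₁ hne₁
  obtain ⟨h₂, hh₂, hle₂⟩ := exists_of_coeff_orbitSum_ne hM hA hAH hgmax hQ hQH hc₂ hne₂
  have hcard : Nat.card A = Nat.card Q := le_antisymm
    ((card_conjSub h₁ A).symm.le.trans (Subgroup.card_le_of_le hle₁))
    ((card_conjSub h₂ Q).symm.le.trans (Subgroup.card_le_of_le hle₂))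
  have hAQ : A.map (MulAut.conj h₁).toMonoidHom = Q :=
    Subgroup.eq_of_le_of_card_ge hle₁ (by rw [← hcard]; exact (card_conjSub h₁ A).ge)
  obtain ⟨g', hg'⟩ : ∃ g' : Set (IrrCharacter (𝐂 Q)), IsPBlock M g' ∧
      subE M Q g' = cjE h₁ (subE M A g) := by
    subst hAQ
    exact ⟨_, isPBlock_conjBlock hg h₁, subE_conjBlock hg h₁⟩
  obtain ⟨η', hη'⟩ := IsPBlock.nonempty hg'.1
  have hlam' : lam M η' (resSub (𝐂 Q) (orbitSum M H Q f)) = 1 := by
    subst hAQ
    have hgg : g' = conjBlock A h₁ g := subE_inj hg'.1 (isPBlock_conjBlock hg h₁)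
      (hg'.2.trans (subE_conjBlock hg h₁).symm)
    subst hgg
    rw [conjBlock_eq_pull] at hη'
    have e1 : resSub (𝐂 (A.map (MulAut.conj h₁).toMonoidHom)) (orbitSum M H (A.map (MulAut.conj h₁).toMonoidHom) f)
        = pullElt (centConj A h₁).symm (resSub (𝐂 A) (orbitSum M H (A.map (MulAut.conj h₁).toMonoidHom) f)) :=
      gr_ext fun k => by
        rw [coeff_resSub, coeff_pullElt, coeff_resSub, coe_conjEquiv_symm]
        have h3 := coeff_orbitSum_conj (M := M) (Q := A.map (MulAut.conj h₁).toMonoidHom) (f := f)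
          hh₁ (h₁⁻¹ * (k : G) * h₁)
        rwa [show h₁ * (h₁⁻¹ * (k : G) * h₁) * h₁⁻¹ = (k : G) by group] at h3
    rw [e1, ← irrPull_symm (centConj A h₁).symm η', lam_pull _ _
      (((isStableUnder_orbitSum f).mono hCA).isClassElt_resSub)]
    rw [IsPBlock.lam_eq hg (hη' : _ ∈ g) hξ]
    exact hu1
  obtain ⟨x, hxH, hxN, hx⟩ := (lam_resSub_orbitSum hM hQ hQH hf hfmax).2 g' hg'.1 η' hη'
    (by rw [hlam']; exact one_ne_zero)
  refine ⟨h₁⁻¹ * x, mul_mem (inv_mem hh₁) hxH, ?_, ?_⟩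
  · have h4 : conjSub x Q = Q := by
      ext a
      rw [mem_conjSub, (Subgroup.mem_normalizer_iff.mp hxN (x⁻¹ * a * x))]
      simp [mul_assoc]
    show conjSub (h₁⁻¹ * x) Q = A
    rw [← conjSub_conjSub, h4, ← hAQ]
    show conjSub h₁⁻¹ (conjSub h₁ A) = A
    rw [conjSub_conjSub, inv_mul_cancel, conjSub_one]
  · rw [← cjE_cjE, ← hx, hg'.2, cjE_cjE, inv_mul_cancel, cjE_one]

/-- A nonzero Brauer image of a stable block gives a normal extension. -/
theorem exists_normal_above (hM : IsPModular p M) {Q R : Subgroup G} {f : Set (IrrCharacter (𝐂 Q))}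
    (hf : IsBrauerPair p M Q f) (hR : IsPGroup p R) (hQR : Q ≤ R)
    (hN : R ≤ Subgroup.normalizer (Q : Set G)) (hstab : IsStableUnder R (subE M Q f))
    (hbr : BrNe R (subE M Q f)) :
    ∃ g : Set (IrrCharacter (𝐂 R)), IsNormalSubpair p M Q f R g := by
  have hC := (isStableUnder_centralizer_subE (M := M) Q f).mono (centralizer_le' hQR)
  have hcl := hC.isClassElt_resSub
  have hsq : resSub (𝐂 R) (subE M Q f) * resSub (𝐂 R) (subE M Q f) = resSub (𝐂 R) (subE M Q f) := by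
    rw [← resSub_mul (red_p hM) hR hstab hstab, subE_sq hf.2]
  obtain ⟨ξ, hξ⟩ : ∃ ξ, lam M ξ (resSub (𝐂 R) (subE M Q f)) ≠ 0 := by
    by_contra hh
    push Not at hh
    exact (brNe_iff R _).mp hbr
      (idem_eq_of_lam hcl IsClassElt.zero hsq (zero_mul _) fun χ => by rw [hh, lam_zero])
  have hone : lam M ξ (resSub (𝐂 R) (subE M Q f)) = 1 := by
    have h1 := congrArg (lam M ξ) hsq
    rw [lam_mul M ξ hcl hcl] at h1
    exact mul_left_cancel₀ hξ (h1.trans (mul_one _).symm)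
  exact ⟨blockOf M (ξ : _ → ℂ), (isNormalSubpair_iff hM).mpr ⟨hf, ⟨hR, ⟨ξ, rfl⟩⟩, hQR, hN, hstab,
    fun ξ' hξ' => by rw [← lam_eq_of_sameBlock M hξ']; exact hone⟩⟩

/-- Every pair inside `H` extends to one maximal in `H`. -/
theorem exists_isMaxIn_above (hM : IsPModular p M) {H : Subgroup G} {Q : Subgroup G}
    {f : Set (IrrCharacter (𝐂 Q))} (hf : IsBrauerPair p M Q f) (hQH : Q ≤ H) :
    ∃ (A : Subgroup G) (g : Set (IrrCharacter (𝐂 A))), IsBrauerPair p M A g ∧ A ≤ H ∧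
      SubpairLE p M Q f A g ∧ IsMaxIn M p H A g := by
  induction hn : Nat.card G - Nat.card Q using Nat.strong_induction_on generalizing Q with
  | _ n ih =>
    by_cases hmax : IsMaxIn M p H Q f
    · exact ⟨Q, f, hf, hQH, Relation.ReflTransGen.refl, hmax⟩
    obtain ⟨R, hR, hQR, hRT, hbr, hne⟩ : ∃ R : Subgroup G, IsPGroup p R ∧ Q ≤ R ∧
        R ≤ pairStab M H Q f ∧ BrNe R (subE M Q f) ∧ R ≠ Q := by
      by_contra hh
      exact hmax fun R h1 h2 h3 h4 => by_contra fun h5 => hh ⟨R, h1, h2, h3, h4, h5⟩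
    obtain ⟨g, hg⟩ := exists_normal_above hM hf hR hQR (fun x hx => (hRT hx).2.1)
      (isStableUnder_iff_cjE.mpr fun x hx => (hRT hx).2.2) hbr
    have h1 : Nat.card Q < Nat.card R :=
      Set.Finite.card_lt_card (Set.toFinite _) (lt_of_le_of_ne hQR (Ne.symm hne) : Q < R)
    have h2 := Subgroup.card_le_card_group R
    obtain ⟨A, g', hA, hAH, hle, hmax'⟩ :=
      ih (Nat.card G - Nat.card R) (by omega) hg.2.1 (fun x hx => (hRT hx).1) rfl
    exact ⟨A, g', hA, hAH,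
      Relation.ReflTransGen.head (show NormalSubpairRel p M (⟨Q, f⟩ : BrauerPairIdx G) ⟨R, g⟩ from hg) hle,
      hmax'⟩

theorem isMaxIn_of_maximal (hM : IsPModular p M) {B : Set (IrrCharacter G)} {P : Subgroup G}
    {e : Set (IrrCharacter (𝐂 P))} (hmax : IsMaximalBrauerPair p M B P e) (H : Subgroup G) :
    IsMaxIn M p H P e := by
  intro R hR hPR hRT hbr
  obtain ⟨g, hg⟩ := exists_normal_above hM hmax.1.1 hR hPR (fun x hx => (hRT hx).2.1)
    (isStableUnder_iff_cjE.mpr fun x hx => (hRT hx).2.2) hbr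
  have hle : SubpairLE p M P e R g :=
    Relation.ReflTransGen.single (show NormalSubpairRel p M (⟨P, e⟩ : BrauerPairIdx G) ⟨R, g⟩ from hg)
  exact hmax.2 R g ((isBrauerPairOf_of_subpairLE hM hg.2.1 hle).mp hmax.1) hle

theorem maximal_of_isMaxIn (hM : IsPModular p M) {B : Set (IrrCharacter G)} {P : Subgroup G}
    {e : Set (IrrCharacter (𝐂 P))} (he : IsBrauerPairOf p M B P e) (h : IsMaxIn M p ⊤ P e) :
    IsMaximalBrauerPair p M B P e := by
  refine ⟨he, fun R g hg hle => ?_⟩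
  by_contra hne
  have hlt := lt_normalizer_inf hg.1.1 (lt_of_le_of_ne (subpairLE_le hle) (Ne.symm hne))
  obtain ⟨β, hβ, hβR⟩ := exists_subpair hM hg.1
    (inf_le_left : R ⊓ Subgroup.normalizer (P : Set G) ≤ R)
  have hstep := isNormalSubpair_of_le hM hβ (subpair_le_of_le hM hg.1 hlt.le hle hβR) inf_le_right
  obtain ⟨-, -, -, hN, hstab, hone⟩ := (isNormalSubpair_iff hM).mp hstep
  refine hlt.ne' (h _ hβ.1 hlt.le (fun x hx => ⟨trivial, hN hx, isStableUnder_iff_cjE.mp hstab x hx⟩)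
    ((brNe_iff _ _).mpr fun h0 => ?_))
  obtain ⟨ξ, hξ⟩ := IsPBlock.nonempty hβ.2
  have := hone ξ hξ
  rw [h0, lam_zero] at this
  exact zero_ne_one this

theorem exists_maximal_above (hM : IsPModular p M) {B : Set (IrrCharacter G)} {Q : Subgroup G}
    {f : Set (IrrCharacter (𝐂 Q))} (hf : IsBrauerPairOf p M B Q f) :
    ∃ (P : Subgroup G) (e : Set (IrrCharacter (𝐂 P))),
      IsMaximalBrauerPair p M B P e ∧ SubpairLE p M Q f P e := by
  obtain ⟨A, g, hA, -, hle, hmax⟩ := exists_isMaxIn_above hM hf.1 (le_top : Q ≤ ⊤)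
  exact ⟨A, g, maximal_of_isMaxIn hM ((isBrauerPairOf_of_subpairLE hM hA hle).mp hf) hmax, hle⟩

theorem lam_resSub_of_pairOf (hM : IsPModular p M) {B : Set (IrrCharacter G)} {Q : Subgroup G}
    {f : Set (IrrCharacter (𝐂 Q))} (hf : IsBrauerPairOf p M B Q f) {η : IrrCharacter (𝐂 Q)}
    (hη : η ∈ f) {χ : IrrCharacter G} (hχ : χ ∈ B) {u : MonoidAlgebra (ResF M) G} (hu : IsClassElt u) :
    lam M η (resSub (𝐂 Q) u) = lam M χ u :=
  (isInducedBlock_iff hf.1.2 hf.2.1 hη hχ).mp ((isBrauerPairOf_iff hM).mp hf).2 u hu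

theorem isClassElt_of_stable_top {u : MonoidAlgebra (ResF M) G} (h : IsStableUnder ⊤ u) : IsClassElt u :=
  fun g a => h g trivial a

/-- Maximal pairs of a block are conjugate. -/
theorem maximal_conj (hM : IsPModular p M) {B : Set (IrrCharacter G)} {P R : Subgroup G}
    {e : Set (IrrCharacter (𝐂 P))} {g : Set (IrrCharacter (𝐂 R))}
    (he : IsMaximalBrauerPair p M B P e) (hg : IsMaximalBrauerPair p M B R g) :
    ∃ x : G, (⟨P, e⟩ : BrauerPairIdx G) = ⟨R.map (MulAut.conj x).toMonoidHom, conjBlock R x g⟩ := by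
  obtain ⟨χ, hχ⟩ := IsPBlock.nonempty he.1.2.1
  obtain ⟨x, -, hx, hE⟩ := isMaxIn_conj hM hg.1.1.1 he.1.1.1 (le_top : R ≤ ⊤) (le_top : P ≤ ⊤)
    le_top le_top hg.1.1.2 he.1.1.2 (isMaxIn_of_maximal hM hg ⊤) (isMaxIn_of_maximal hM he ⊤)
    (fun u hu _ η hη ξ hξ => by
      rw [lam_resSub_of_pairOf hM hg.1 hη hχ (isClassElt_of_stable_top hu),
        lam_resSub_of_pairOf hM he.1 hξ hχ (isClassElt_of_stable_top hu)])
  refine ⟨x, ?_⟩
  subst hx
  rw [subE_inj he.1.1.2 (isPBlock_conjBlock hg.1.1.2 x) (hE.trans (subE_conjBlock hg.1.1.2 x).symm)]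

/-- The subgroup of a maximal pair is a defect group. -/
theorem isDefectGroup_maximal (hM : IsPModular p M) {B : Set (IrrCharacter G)} {P : Subgroup G}
    {e : Set (IrrCharacter (𝐂 P))} (hmax : IsMaximalBrauerPair p M B P e) :
    IsDefectGroup p M B P := by
  have hB := hmax.1.2.1
  have hP := hmax.1.1.1
  obtain ⟨χ, hχ⟩ := IsPBlock.nonempty hB
  obtain ⟨ξ, hξ⟩ := IsPBlock.nonempty hmax.1.1.2
  obtain ⟨D, hD⟩ := exists_defectGroup hM hB
  have h1 : BrNe P (bIdem M B) := (brNe_iff _ _).mpr fun h0 => by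
    have h2 := lam_resSub_of_pairOf hM hmax.1 hξ hχ (isClassElt_bIdem B)
    rw [h0, lam_zero, lam_bIdem hB, if_pos hχ] at h2
    exact zero_ne_one h2
  obtain ⟨x, hx⟩ := (brNe_bIdem_iff hM hB hD hP).mp h1
  have hu : IsClassElt (orbitSum M ⊤ P e) := isClassElt_of_stable_top (isStableUnder_orbitSum e)
  have h3 : lam M χ (orbitSum M ⊤ P e) = 1 := by
    rw [← lam_resSub_of_pairOf hM hmax.1 hξ hχ hu]
    exact (lam_resSub_orbitSum hM hP le_top hmax.1.1.2 (isMaxIn_of_maximal hM hmax ⊤)).1 ξ hξ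
  obtain ⟨c, hc, hne⟩ := brNe_of_lam_ne_zero hM hB hχ hu (by rw [h3]; exact one_ne_zero)
    (isPGroup_defectGroup hD) (brNe_defectGroup hD)
  obtain ⟨h, -, hh⟩ := exists_of_coeff_orbitSum_ne hM hP le_top (isMaxIn_of_maximal hM hmax ⊤)
    (isPGroup_defectGroup hD) le_top hc hne
  have h4 : conjSub x P = D := by
    refine Subgroup.eq_of_le_of_card_ge hx ?_
    rw [card_conjSub]
    exact (card_conjSub h D).symm.le.trans (Subgroup.card_le_of_le hh)
  have h5 := IsDefectGroup.conjSub hB (h4 ▸ hD) x⁻¹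
  rwa [conjSub_conjSub, inv_mul_cancel, conjSub_one] at h5

/-- Every pair of a block is conjugate into a given maximal one. -/
theorem exists_conj_le_maximal (hM : IsPModular p M) {B : Set (IrrCharacter G)} {P Q : Subgroup G}
    {e : Set (IrrCharacter (𝐂 P))} {f : Set (IrrCharacter (𝐂 Q))}
    (hmax : IsMaximalBrauerPair p M B P e) (hf : IsBrauerPairOf p M B Q f) :
    ∃ x : G, SubpairLE p M (Q.map (MulAut.conj x).toMonoidHom) (conjBlock Q x f) P e := by
  obtain ⟨R, g, hg, hle⟩ := exists_maximal_above hM hf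
  obtain ⟨x, hx⟩ := maximal_conj hM hmax hg
  refine ⟨x, ?_⟩
  show Relation.ReflTransGen _ _ _
  rw [hx]
  exact subpairLE_conj hM hle x

end Cfsg.Lib.Blocks
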