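import Cfsg.Agent.Lib.Blocks.RegInner

/-!
# The sum of squared degrees in a block
-/

namespace Cfsg.Lib.Blocks

open Cfsg.Lib.Characters Finset
open scoped ComplexConjugate Classical

set_option linter.unusedSectionVars false
set_option linter.style.haveILetI false
set_option linter.style.longLine false

variable {G : Type*} [Group G] [Fintype G] {M : Ideal Cfsg.AlgInt} [M.IsPrime]
variable {p : ℕ} [Fact p.Prime]

theorem inSec_one_iff {g : G} (hg : ¬ p ∣ orderOf g) : InSec p 1 g ↔ g = 1 := by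
  constructor
  · rintro ⟨a, b, rfl, hc, ⟨k, hk⟩, hb, hyb⟩
    obtain ⟨c, hc'⟩ := isConj_iff.mp hyb
    have hb1 : b = 1 := by rw [← hc']; group
    subst hb1
    rw [mul_one] at hg ⊢
    rcases k with - | k
    · exact orderOf_eq_one_iff.mp (by rw [hk, pow_zero])
    · exact absurd (hk ▸ dvd_pow_self p k.succ_ne_zero) hg
  · rintro rfl
    exact ⟨1, 1, one_mul 1, Commute.refl 1, ⟨0, by simp⟩, by simpa using (Fact.out : p.Prime).not_dvd_one,
      IsConj.refl 1⟩

theorem factorization_sum_sq (hM : IsPModular p M) {B : Set (IrrCharacter G)} (hB : IsPBlock M B) :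
    (∑ χ ∈ univ.filter (· ∈ B), charDegree (χ : G → ℂ) ^ 2).factorization p
      = 2 * (Nat.card G).factorization p - blockDefect p B := by
  have hp : p.Prime := Fact.out
  set I : G → ℂ := fun g => if InSec p 1 g then 1 else 0
  have hI : RComb M I := rComb_section hM (y := (1 : G)) (by simpa using hp.not_dvd_one)
  set w : IrrCharacter G → ℂ := fun ψ => classInner I (ψ : G → ℂ)
  set Bf := univ.filter fun χ : IrrCharacter G => χ ∈ B
  -- the degree of a member as a combination of regular inner products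
  have hdeg : ∀ χ ∈ Bf, (χ : G → ℂ) 1 = ∑ ψ ∈ Bf, w ψ * regInner p (χ : G → ℂ) (ψ : G → ℂ) := by
    intro χ hχ
    have h1 : regInner p (χ : G → ℂ) I = (χ : G → ℂ) 1 := by
      rw [regInner, Finset.sum_eq_single (1 : G)]
      · simp [I, (inSec_one_iff (p := p) (g := (1 : G)) (by simpa using hp.not_dvd_one)).mpr rfl,
          hp.not_dvd_one]
      · intro g _ hg
        split_ifs with h
        · rfl
        · simp [I, (inSec_one_iff (g := g⁻¹) (by rwa [orderOf_inv])), hg]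
      · simp
    rw [← h1]
    conv_lhs => rw [classFunction_expansion hI.isClassFunction]
    have h2 : regInner p (χ : G → ℂ) (∑ ψ : IrrCharacter G, classInner I (ψ : G → ℂ) • (ψ : G → ℂ))
        = ∑ ψ : IrrCharacter G, w ψ * regInner p (χ : G → ℂ) (ψ : G → ℂ) := by
      simp only [regInner, Finset.sum_apply, Pi.smul_apply, smul_eq_mul, Finset.mul_sum]
      rw [Finset.sum_comm]
      refine Finset.sum_congr rfl fun g _ => ?_
      split_ifs
      · simp
      · exact Finset.sum_congr rfl fun ψ _ => by ring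
    rw [h2]
    refine (Finset.sum_subset (Finset.subset_univ Bf) fun ψ _ hψ => ?_).symm
    rw [regInner_eq_zero hM, mul_zero]
    intro hs
    exact hψ (Finset.mem_filter.mpr ⟨Finset.mem_univ _,
      IsPBlock.mem_of_sameBlock hB (Finset.mem_filter.mp hχ).2 hs⟩)
  set S : ℂ := ∑ ψ ∈ Bf, w ψ * (ψ : G → ℂ) 1
  set T : ℕ := ∑ χ ∈ Bf, charDegree (χ : G → ℂ) ^ 2
  have hT : (T : ℂ) = (Nat.card G : ℂ) * S := by
    have h1 : (T : ℂ) = ∑ χ ∈ Bf, (χ : G → ℂ) 1 * ∑ ψ ∈ Bf, w ψ * regInner p (χ : G → ℂ) (ψ : G → ℂ) := by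
      simp only [T, Nat.cast_sum, Nat.cast_pow, coe_charDegree]
      exact Finset.sum_congr rfl fun χ hχ => by rw [← hdeg χ hχ, sq]
    rw [h1]
    simp only [Finset.mul_sum]
    rw [Finset.sum_comm]
    simp only [S, Finset.mul_sum]
    refine Finset.sum_congr rfl fun ψ hψ => ?_
    have h2 : ∑ χ ∈ Bf, (χ : G → ℂ) 1 * regInner p (χ : G → ℂ) (ψ : G → ℂ)
        = (Nat.card G : ℂ) * (ψ : G → ℂ) 1 := by
      rw [Finset.sum_subset (Finset.subset_univ Bf) fun χ _ hχ => by
        rw [regInner_eq_zero hM fun hs => hχ (Finset.mem_filter.mpr ⟨Finset.mem_univ _,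
          IsPBlock.mem_of_sameBlock hB (Finset.mem_filter.mp hψ).2 (sameBlock_symm M hs)⟩), mul_zero]]
      simp only [regInner, Finset.mul_sum]
      rw [Finset.sum_comm, Finset.sum_eq_single (1 : G)]
      · simp only [orderOf_one, hp.not_dvd_one, if_false, inv_one]
        rw [Finset.sum_congr rfl fun χ _ => (mul_assoc _ _ _).symm, ← Finset.sum_mul,
          sum_degree_mul_irr (1 : G), if_pos rfl]
      · intro g _ hg
        split_ifs with h
        · simp
        · rw [Finset.sum_congr rfl fun χ _ => (mul_assoc _ _ _).symm, ← Finset.sum_mul,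
            sum_degree_mul_irr g, if_neg hg, zero_mul]
      · simp
    calc ∑ χ ∈ Bf, (χ : G → ℂ) 1 * (w ψ * regInner p (χ : G → ℂ) (ψ : G → ℂ))
        = w ψ * ∑ χ ∈ Bf, (χ : G → ℂ) 1 * regInner p (χ : G → ℂ) (ψ : G → ℂ) := by
          rw [Finset.mul_sum]; exact Finset.sum_congr rfl fun χ _ => by ring
      _ = _ := by rw [h2]; ring
  obtain ⟨χ₀, hχ₀, hmin⟩ := exists_height_zero p (IsPBlock.nonempty hB)
  set d₀ := charDegree (χ₀ : G → ℂ) with hd₀
  have hd0 : d₀ ≠ 0 := (charDegree_pos χ₀).ne'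
  have hd0' : (d₀ : ℂ) ≠ 0 := Nat.cast_ne_zero.mpr hd0
  have hχd : (χ₀ : G → ℂ) 1 = (d₀ : ℂ) := (coe_charDegree χ₀).symm
  -- degrees over a height zero degree are local
  have hratio : ∀ ψ ∈ Bf, (ψ : G → ℂ) 1 / (d₀ : ℂ) ∈ locRing M := fun ψ hψ => by
    rw [← coe_charDegree ψ]
    exact ((natDiv_mem_iff hM (charDegree_pos ψ).ne' hd0).1).mpr
      (by rw [hd₀, hmin]; exact inf_le_factorization p (Finset.mem_filter.mp hψ).2)
  have hS : S / (d₀ : ℂ) ∈ locRing M := by
    rw [Finset.sum_div]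
    exact sum_mem fun ψ hψ => by
      rw [mul_div_assoc]; exact mul_mem (hI.coeff_mem ψ) (hratio ψ hψ)
  obtain ⟨f, hf⟩ : ∃ f : ResF M, ∀ ψ ∈ Bf,
      red M (regInner p (χ₀ : G → ℂ) (ψ : G → ℂ) / (ψ : G → ℂ) 1) = f :=
    ⟨lam M χ₀ (redG M (zc p (χ₀ : G → ℂ))), fun ψ hψ => by
      rw [← lam_zc p χ₀.2.isCharacter]
      exact lam_eq_of_sameBlock M (IsPBlock.sameBlock hB (Finset.mem_filter.mp hψ).2 hχ₀) _⟩
  have hred : red M (S / (d₀ : ℂ)) ≠ 0 := by
    intro h0
    have h1 : (1 : ResF M) = f * red M (S / (d₀ : ℂ)) := by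
      have hmemT : ∀ ψ ∈ Bf, regInner p (χ₀ : G → ℂ) (ψ : G → ℂ) / (ψ : G → ℂ) 1
          * (w ψ * ((ψ : G → ℂ) 1 / (d₀ : ℂ))) ∈ locRing M := fun ψ hψ =>
        mul_mem (regInner_div_mem p χ₀.2.isCharacter ψ) (mul_mem (hI.coeff_mem ψ) (hratio ψ hψ))
      have h2 : (1 : ℂ) = ∑ ψ ∈ Bf, regInner p (χ₀ : G → ℂ) (ψ : G → ℂ) / (ψ : G → ℂ) 1
          * (w ψ * ((ψ : G → ℂ) 1 / (d₀ : ℂ))) := by
        rw [show (1 : ℂ) = (χ₀ : G → ℂ) 1 / (d₀ : ℂ) by rw [hχd, div_self hd0'],
          hdeg χ₀ (Finset.mem_filter.mpr ⟨Finset.mem_univ _, hχ₀⟩), Finset.sum_div]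
        refine Finset.sum_congr rfl fun ψ _ => ?_
        have : (ψ : G → ℂ) 1 ≠ 0 := by
          rw [← coe_charDegree ψ]; exact Nat.cast_ne_zero.mpr (charDegree_pos ψ).ne'
        field_simp
      conv_lhs => rw [← red_one (M := M), h2, red_sum _ hmemT]
      rw [Finset.sum_div, red_sum _ fun ψ hψ => by
        rw [mul_div_assoc]; exact mul_mem (hI.coeff_mem ψ) (hratio ψ hψ), Finset.mul_sum]
      refine Finset.sum_congr rfl fun ψ hψ => ?_
      rw [red_mul (regInner_div_mem p χ₀.2.isCharacter ψ) (mul_mem (hI.coeff_mem ψ) (hratio ψ hψ)),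
        hf ψ hψ, mul_div_assoc]
    rw [h0, mul_zero] at h1
    exact one_ne_zero h1
  have hT0 : T ≠ 0 := fun h => by
    rw [h, Nat.cast_zero] at hT
    rcases mul_eq_zero.mp hT.symm with h' | h'
    · exact Nat.card_pos.ne' (Nat.cast_eq_zero.mp h')
    · exact hred (by rw [h', zero_div, red_zero])
  have hq : (T : ℂ) / ((Nat.card G * d₀ : ℕ) : ℂ) = S / (d₀ : ℂ) := by
    rw [hT, Nat.cast_mul, mul_div_mul_left _ _ (Nat.cast_ne_zero.mpr Nat.card_pos.ne')]
  obtain ⟨hmem, hlt⟩ := natDiv_mem_iff hM hT0 (mul_ne_zero (Nat.card_pos (α := G)).ne' hd0)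
  have hle := hmem.mp (hq ▸ hS)
  have hnlt : ¬ (Nat.card G * d₀).factorization p < T.factorization p := fun h =>
    hred (memLocalIdeal_iff.mp (hq ▸ hlt.mpr h)).2
  have hfac : (Nat.card G * d₀).factorization p
      = (Nat.card G).factorization p + d₀.factorization p := by
    rw [Nat.factorization_mul Nat.card_pos.ne' hd0, Finsupp.add_apply]
  have hdle := charDegree_factorization_le (p := p) χ₀
  rw [blockDefect, ← hmin]
  show T.factorization p = _
  rw [le_antisymm (not_lt.mp hnlt) hle, hfac]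
  generalize (Nat.card G).factorization p = c at hdle ⊢
  generalize hk : d₀.factorization p = k
  have : k ≤ c := hk ▸ hdle
  omega

end Cfsg.Lib.Blocks
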