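import Mathlib
import Cfsg.Agent.S4624

/-!
# Sylow 2-subgroups of linear groups assembled from two-dimensional blocks
-/

set_option autoImplicit false

namespace Cfsg.Lib.Blocks.WreathAb

open Matrix Equiv

universe v

variable {F : Type*} [Field F] [Fintype F] {n : ℕ}

/-- Squares lie in the commutator subgroup of a Sylow subgroup generated by the given images. -/
theorem sq_mem_of_generators {G : Type v} {A B : Type*} [Group G] [Finite G] [Group A] [Group B] [Finite A] [Finite B]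
    (fA : A →* G) (fB : B →* G) (hA : IsPGroup 2 A) (hB : IsPGroup 2 B)
    (hconj : ∀ b a, fB b * fA a * (fB b)⁻¹ ∈ fA.range) (hinj : Function.Injective fA)
    (hdisj : ∀ a b, fA a = fB b → b = 1)
    (hcard : Nat.card A * Nat.card B = 2 ^ (Nat.card G).factorization 2)
    (J : Subgroup A) (hJ : J = ⊤)
    (hsqA : ∀ {H : Type v} [Group H] (f : A →* H), J ≤ ((powMonoidHom 2).comp (Abelianization.of.comp f)).ker)
    (hsqB : ∀ b : B, b ^ 2 ∈ commutator B) (P : Sylow 2 G) (x : (P : Subgroup G)) :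
    x ^ 2 ∈ commutator (P : Subgroup G) := by
  haveI := Fact.mk Nat.prime_two
  have hnorm : fB.range ≤ Subgroup.normalizer (fA.range : Set G) := by
    rintro _ ⟨b, rfl⟩
    rw [Subgroup.mem_normalizer_iff]
    refine fun h => ⟨?_, fun hh => ?_⟩
    · rintro ⟨a, rfl⟩; exact hconj b a
    · obtain ⟨a, ha⟩ := hh
      have h2 := hconj b⁻¹ a
      rw [ha, map_inv] at h2
      simpa [mul_assoc] using h2
  set S := fA.range ⊔ fB.range
  have hS : IsPGroup 2 S := (hA.of_surjective fA.rangeRestrict fA.rangeRestrict_surjective).to_sup_of_normal_left'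
    (hB.of_surjective fB.rangeRestrict fB.rangeRestrict_surjective) hnorm
  have hle : Nat.card A * Nat.card B ≤ Nat.card S := by
    rw [← Nat.card_prod]
    refine Nat.card_le_card_of_injective (fun z => (⟨fA z.1 * fB z.2, Subgroup.mul_mem_sup ⟨_, rfl⟩ ⟨_, rfl⟩⟩ : S)) ?_
    rintro ⟨a, b⟩ ⟨a', b'⟩ h
    have h2 : fA a * fB b = fA a' * fB b' := congrArg Subtype.val h
    have h1 : fA (a'⁻¹ * a) = fB (b' * b⁻¹) := by
      rw [map_mul, map_mul, map_inv, map_inv, inv_mul_eq_iff_eq_mul, ← mul_assoc, eq_mul_inv_iff_mul_eq]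
      exact h2
    have hb : b' = b := mul_inv_eq_one.mp (hdisj _ _ h1)
    subst hb
    rw [hinj (mul_right_cancel h2)]
  obtain ⟨m, hm⟩ := IsPGroup.iff_card.mp hS
  have hSyl : Nat.card S = 2 ^ (Nat.card G).factorization 2 := by
    refine le_antisymm ?_ (hcard ▸ hle)
    rw [hm]
    exact Nat.pow_le_pow_right two_pos ((Nat.prime_two.pow_dvd_iff_le_factorization Nat.card_pos.ne').mp (hm ▸ S.card_subgroup_dvd_card))
  let S' : Sylow 2 G := Sylow.ofCard S hSyl
  let K : Subgroup S := ((powMonoidHom 2).comp Abelianization.of : S →* Abelianization S).ker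
  have hSK : S ≤ K.map S.subtype := by
    refine sup_le ?_ ?_
    · rintro _ ⟨a, rfl⟩
      let g : A →* S := fA.codRestrict S fun a => Subgroup.mem_sup_left ⟨a, rfl⟩
      exact ⟨g a, hsqA g (hJ ▸ Subgroup.mem_top a), rfl⟩
    · rintro _ ⟨b, rfl⟩
      let g : B →* S := fB.codRestrict S fun b => Subgroup.mem_sup_right ⟨b, rfl⟩
      refine ⟨g b, ?_, rfl⟩
      show (Abelianization.of (g b)) ^ 2 = 1
      rw [← map_pow, ← MonoidHom.mem_ker, Abelianization.ker_of]
      exact Cfsg.Agent.S4624.sq_transfer g (hsqB b)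
  have htop : ∀ y : S, y ^ 2 ∈ commutator S := by
    intro y
    obtain ⟨z, hz, hzy⟩ := hSK y.2
    obtain rfl := Subtype.ext hzy
    rw [← Abelianization.ker_of, MonoidHom.mem_ker, map_pow]
    exact hz
  let f := S'.equiv P
  have h := Cfsg.Agent.S4624.sq_transfer f.toMonoidHom (htop (f.symm x))
  rwa [show f.toMonoidHom (f.symm x) = x from f.apply_symm_apply x] at h

/-- The block matrix as a monoid homomorphism into matrices. -/
def blockMon : (Fin n → GL (Fin 2) F) →* Matrix (Fin n ⊕ Fin n) (Fin n ⊕ Fin n) F where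
  toFun a := fromBlocks (diagonal fun i => (a i : Matrix (Fin 2) (Fin 2) F) 0 0) (diagonal fun i => (a i : Matrix (Fin 2) (Fin 2) F) 0 1)
    (diagonal fun i => (a i : Matrix (Fin 2) (Fin 2) F) 1 0) (diagonal fun i => (a i : Matrix (Fin 2) (Fin 2) F) 1 1)
  map_one' := by simp [fromBlocks_one]
  map_mul' a b := by
    simp only [fromBlocks_multiply, diagonal_mul_diagonal, diagonal_add]
    simp [Matrix.mul_apply, Fin.sum_univ_two]

/-- The permutations of the blocks. -/
def permMon : Perm (Fin n) →* Matrix (Fin n ⊕ Fin n) (Fin n ⊕ Fin n) F where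
  toFun σ := fromBlocks (σ⁻¹.permMatrix F) 0 0 (σ⁻¹.permMatrix F)
  map_one' := by simp [fromBlocks_one]
  map_mul' a b := by simp [fromBlocks_multiply, permMatrix_mul]

theorem perm_conj (σ : Perm (Fin n)) (a : Fin n → GL (Fin 2) F) :
    permMon σ * blockMon a = blockMon (fun i => a (σ⁻¹ i)) * permMon σ := by
  ext (i | i) (j | j) <;>
    simp [permMon, blockMon, fromBlocks_multiply, Equiv.Perm.permMatrix, PEquiv.toMatrix_apply, Matrix.mul_apply,
      Matrix.diagonal_apply, Finset.sum_ite_eq, Finset.sum_ite_eq', Equiv.eq_symm_apply, eq_comm] <;>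
    split_ifs <;> simp_all

theorem eq_one_of_block_eq_perm (a : Fin n → GL (Fin 2) F) (σ : Perm (Fin n)) (h' : blockMon a = permMon σ) : σ = 1 := by
  refine inv_injective (Equiv.ext fun i => ?_)
  by_contra hne
  rw [inv_one, Equiv.Perm.one_apply] at hne
  have h1 := congrFun (congrFun h' (Sum.inl i)) (Sum.inl (σ⁻¹ i))
  simp [blockMon, permMon, Equiv.Perm.permMatrix, PEquiv.toMatrix_apply] at h1
  rw [Matrix.diagonal_apply_ne _ (fun e => hne (by simpa using e.symm))] at h1
  exact zero_ne_one h1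

theorem blockMon_injective : Function.Injective (blockMon : (Fin n → GL (Fin 2) F) → _) := by
  intro a b h
  refine funext fun i => Units.ext ?_
  have e00 := congrFun (congrFun h (Sum.inl i)) (Sum.inl i)
  have e01 := congrFun (congrFun h (Sum.inl i)) (Sum.inr i)
  have e10 := congrFun (congrFun h (Sum.inr i)) (Sum.inl i)
  have e11 := congrFun (congrFun h (Sum.inr i)) (Sum.inr i)
  simp [blockMon] at e00 e01 e10 e11
  ext r s
  fin_cases r <;> fin_cases s <;> simp [e00, e01, e10, e11]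

theorem val_odd_pow {q : ℕ} (hq : q % 4 = 3) (k : ℕ) : padicValNat 2 (q ^ (2 * k + 1) - 1) = 1 := by
  haveI := Fact.mk Nat.prime_two
  have h : q ^ (2 * k + 1) % 4 = 3 := by
    induction k with
    | zero => simpa using hq
    | succ k ih =>
      rw [show 2 * (k + 1) + 1 = (2 * k + 1) + 2 by ring, pow_add, Nat.mul_mod, ih, Nat.pow_mod, hq]
  obtain ⟨y, hy⟩ : ∃ y, q ^ (2 * k + 1) - 1 = 2 * (2 * y + 1) := ⟨q ^ (2 * k + 1) / 4, by omega⟩
  rw [hy, padicValNat.mul (by norm_num) (by omega), padicValNat_self,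
    padicValNat.eq_zero_of_not_dvd (by omega : ¬ 2 ∣ 2 * y + 1)]

theorem val_GL (hq : Fintype.card F % 4 = 3) : ∀ m : ℕ,
    padicValNat 2 (Nat.card (GL (Fin (2 * m)) F)) = m * (padicValNat 2 (Fintype.card F + 1) + 2) + padicValNat 2 m.factorial ∧
      padicValNat 2 (Nat.card (GL (Fin (2 * m + 1)) F)) = m * (padicValNat 2 (Fintype.card F + 1) + 2) + padicValNat 2 m.factorial + 1 := by
  classical
  haveI := Fact.mk Nat.prime_two
  set q := Fintype.card F with hqd
  have hstep : ∀ k : ℕ, padicValNat 2 (Nat.card (GL (Fin (k + 1)) F)) =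
      padicValNat 2 (Nat.card (GL (Fin k) F)) + padicValNat 2 (q ^ (k + 1) - 1) := by
    intro k
    have h : Nat.card (GL (Fin (k + 1)) F) = (q ^ (k + 1) - 1) * (q ^ k * Nat.card (GL (Fin k) F)) := by
      rw [Matrix.card_GL_field, Matrix.card_GL_field, Fin.prod_univ_succ]
      congr 1
      · trans ∏ i : Fin k, q * (q ^ k - q ^ (i : ℕ))
        · refine Finset.prod_congr rfl fun i _ => ?_
          simp only [hqd, Fin.val_succ, pow_succ, Nat.mul_sub]
          ring_nf
        · rw [Finset.prod_mul_distrib, Finset.prod_const, Finset.card_univ, Fintype.card_fin]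
    have hne : q ^ (k + 1) - 1 ≠ 0 := by
      have := Nat.one_lt_pow (show k + 1 ≠ 0 by omega) (show 1 < q by omega); omega
    rw [h, padicValNat.mul hne (mul_ne_zero (pow_ne_zero _ (by omega)) Nat.card_pos.ne'),
      padicValNat.mul (pow_ne_zero _ (by omega)) Nat.card_pos.ne',
      padicValNat.eq_zero_of_not_dvd (fun h => by have := Nat.prime_two.dvd_of_dvd_pow h; omega : ¬ 2 ∣ q ^ k)]
    ring
  have hodd : ∀ m : ℕ, padicValNat 2 (Nat.card (GL (Fin (2 * m + 1)) F)) = padicValNat 2 (Nat.card (GL (Fin (2 * m)) F)) + 1 := fun m => by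
    rw [hstep, val_odd_pow hq]
  intro m
  induction m with
  | zero =>
    have h0 : padicValNat 2 (Nat.card (GL (Fin (2 * 0)) F)) = 0 := by rw [Matrix.card_GL_field]; simp
    exact ⟨by simp [h0], by rw [hodd, h0]; simp⟩
  | succ k ih =>
    have he : padicValNat 2 (Nat.card (GL (Fin (2 * (k + 1))) F)) = (k + 1) * (padicValNat 2 (q + 1) + 2) + padicValNat 2 (k + 1).factorial := by
      rw [show 2 * (k + 1) = (2 * k + 1) + 1 by ring, hstep, ih.2, show 2 * k + 1 + 1 = 2 * (k + 1) by ring,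
        Nat.factorial_succ, padicValNat.mul (by omega) k.factorial_ne_zero]
      have h := padicValNat.pow_two_sub_pow (x := q) (y := 1) (by omega) (by omega) (by omega) (n := 2 * (k + 1)) (by omega) (even_two_mul _)
      have h1 : padicValNat 2 (q - 1) = 1 := by simpa using val_odd_pow hq 0
      rw [one_pow, h1, padicValNat.mul (by norm_num) (by omega), padicValNat_self] at h
      rw [add_mul, one_mul]
      omega
    exact ⟨he, by rw [hodd, he]⟩

theorem exists_det_neg (hq : Fintype.card F % 4 = 3) (R : Sylow 2 (GL (Fin 2) F)) :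
    (∀ x : (R : Subgroup (GL (Fin 2) F)), x ^ 2 ∈ commutator (R : Subgroup (GL (Fin 2) F))) ∧
      ∃ d ∈ (R : Subgroup (GL (Fin 2) F)), d * d = 1 ∧ Matrix.GeneralLinearGroup.det d = -1 := by
  classical
  haveI := Fact.mk Nat.prime_two
  have hodd : Odd (Fintype.card F) := Nat.odd_iff.mpr (by omega)
  let d₀ : GL (Fin 2) F := Matrix.GeneralLinearGroup.mkOfDetNeZero !![-1, 0; 0, 1] (by simp)
  have hd₀ : d₀ * d₀ = 1 := Units.ext (by ext i j; fin_cases i <;> fin_cases j <;> simp [d₀, Matrix.GeneralLinearGroup.mkOfDetNeZero, Matrix.mul_apply, Fin.sum_univ_two])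
  have hp : IsPGroup 2 (Subgroup.zpowers d₀) := by
    obtain ⟨j, -, hj⟩ := (Nat.dvd_prime_pow Nat.prime_two).mp
      (show orderOf d₀ ∣ 2 ^ 1 by rw [pow_one]; exact orderOf_dvd_of_pow_eq_one (by rw [pow_two]; exact hd₀))
    exact IsPGroup.of_card (n := j) (by rw [Nat.card_zpowers, hj])
  obtain ⟨R₀, hR₀⟩ := hp.exists_le_sylow
  obtain ⟨g, hg⟩ := MulAction.exists_smul_eq (GL (Fin 2) F) R₀ R
  have hdet₀ : Matrix.GeneralLinearGroup.det d₀ = -1 := Units.ext (by simp [d₀, Matrix.GeneralLinearGroup.mkOfDetNeZero, Matrix.det_fin_two])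
  obtain ⟨d, hdR, hdd, hdet⟩ : ∃ d ∈ (R : Subgroup (GL (Fin 2) F)), d * d = 1 ∧ Matrix.GeneralLinearGroup.det d = -1 := by
    refine ⟨g * d₀ * g⁻¹, ?_, ?_, ?_⟩
    · rw [← hg]
      exact ⟨d₀, hR₀ (Subgroup.mem_zpowers _), rfl⟩
    · calc g * d₀ * g⁻¹ * (g * d₀ * g⁻¹) = g * (d₀ * d₀) * g⁻¹ := by group
        _ = 1 := by rw [hd₀]; group
    · rw [map_mul, map_mul, hdet₀, map_inv, mul_right_comm, mul_inv_cancel, one_mul]
  refine ⟨fun x => ?_, d, hdR, hdd, hdet⟩
  let Q : Subgroup (SpecialLinearGroup (Fin 2) F) := (R : Subgroup (GL (Fin 2) F)).comap SpecialLinearGroup.toGL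
  have hQp : IsPGroup 2 Q := R.isPGroup'.comap_of_injective SpecialLinearGroup.toGL
    (fun A B h => Subtype.ext (congrArg Units.val h))
  obtain ⟨Q', hQ'⟩ := hQp.exists_le_sylow
  obtain ⟨k, hk, ⟨e⟩⟩ := Cfsg.Agent.S0261.result hodd Q'
  -- Q is all of Q'
  have hQQ : (Q' : Subgroup (SpecialLinearGroup (Fin 2) F)) = Q := by
    refine le_antisymm ?_ hQ'
    have hN : (SpecialLinearGroup.toGL : SpecialLinearGroup (Fin 2) F →* GL (Fin 2) F).range.Normal := by
      have : (SpecialLinearGroup.toGL : SpecialLinearGroup (Fin 2) F →* GL (Fin 2) F).range = (Matrix.GeneralLinearGroup.det : GL (Fin 2) F →* Fˣ).ker := by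
        ext y
        exact ⟨fun ⟨A, hA⟩ => hA ▸ Units.ext A.2, fun hy => ⟨⟨y, congrArg Units.val hy⟩, Units.ext rfl⟩⟩
      rw [this]; infer_instance
    obtain ⟨R₁, hR₁⟩ := (Q'.isPGroup'.map SpecialLinearGroup.toGL).exists_le_sylow
    obtain ⟨g, hg⟩ := MulAction.exists_smul_eq (GL (Fin 2) F) R₁ R
    have hsame : Nat.card Q' ≤ Nat.card Q := by
      refine Nat.card_le_card_of_injective (fun a => (⟨⟨((g * SpecialLinearGroup.toGL (a : SpecialLinearGroup (Fin 2) F) * g⁻¹ : GL (Fin 2) F) : Matrix (Fin 2) (Fin 2) F), by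
        have h1 : Matrix.GeneralLinearGroup.det (g * SpecialLinearGroup.toGL (a : SpecialLinearGroup (Fin 2) F) * g⁻¹) = 1 := by
          rw [map_mul, map_mul, map_inv, mul_right_comm, mul_inv_cancel, one_mul]
          exact Units.ext (a : SpecialLinearGroup (Fin 2) F).2
        exact congrArg Units.val h1⟩, by
        show SpecialLinearGroup.toGL _ ∈ (R : Subgroup (GL (Fin 2) F))
        rw [← hg]
        exact ⟨SpecialLinearGroup.toGL (a : SpecialLinearGroup (Fin 2) F), hR₁ ⟨_, a.2, rfl⟩, Units.ext rfl⟩⟩ : Q)) ?_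
      intro a b h
      have h1 : (g * SpecialLinearGroup.toGL (a : SpecialLinearGroup (Fin 2) F) * g⁻¹ : GL (Fin 2) F) = g * SpecialLinearGroup.toGL (b : SpecialLinearGroup (Fin 2) F) * g⁻¹ :=
        Units.ext (congrArg (fun z : Q => ((z : SpecialLinearGroup (Fin 2) F) : Matrix (Fin 2) (Fin 2) F)) h)
      exact Subtype.ext (Subtype.ext (congrArg Units.val (mul_left_cancel (mul_right_cancel h1))))
    exact (Subgroup.eq_of_le_of_card_ge hQ' hsame).ge
  let ι : (Q' : Subgroup (SpecialLinearGroup (Fin 2) F)) →* (R : Subgroup (GL (Fin 2) F)) :=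
    MonoidHom.codRestrict (SpecialLinearGroup.toGL.comp (Q' : Subgroup (SpecialLinearGroup (Fin 2) F)).subtype) _ fun a =>
      (hQQ.le a.2 : (a : SpecialLinearGroup (Fin 2) F) ∈ Q)
  haveI : NeZero (2 ^ k) := ⟨by positivity⟩
  have hQsq : ∀ a, ι a ^ 2 ∈ commutator (R : Subgroup (GL (Fin 2) F)) := fun a => by
    have h := Cfsg.Agent.S4624.sq_transfer (ι.comp e.symm.toMonoidHom) (Cfsg.Agent.S4624.quat_sq (2 ^ k) (even_two.pow_of_ne_zero (by omega)) (e a))
    simpa using h
  -- determinant is a sign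
  have hsign : Matrix.GeneralLinearGroup.det (x : GL (Fin 2) F) = 1 ∨ Matrix.GeneralLinearGroup.det (x : GL (Fin 2) F) = -1 := by
    obtain ⟨j, hj⟩ := IsPGroup.iff_orderOf.mp R.isPGroup' x
    set u := Matrix.GeneralLinearGroup.det (x : GL (Fin 2) F)
    have h1 : orderOf u ∣ 2 ^ j := hj ▸ (orderOf_map_dvd _ (x : GL (Fin 2) F)).trans (dvd_of_eq (Subgroup.orderOf_coe x))
    have h2 : orderOf u ∣ Fintype.card F - 1 := Fintype.card_units F ▸ orderOf_dvd_card
    obtain ⟨i, -, hi⟩ := (Nat.dvd_prime_pow Nat.prime_two).mp h1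
    have hi1 : i ≤ 1 := by
      by_contra hlt
      have h4 := (pow_dvd_pow 2 (show 2 ≤ i by omega)).trans (hi ▸ h2)
      norm_num at h4
      omega
    have h3 : u ^ 2 = 1 := orderOf_dvd_iff_pow_eq_one.mp (hi ▸ (pow_dvd_pow 2 hi1).trans (dvd_of_eq (pow_one 2)))
    have h4 : ((u : F)) ^ 2 = 1 := by rw [← Units.val_pow_eq_pow_val, h3, Units.val_one]
    exact (sq_eq_one_iff.mp h4).imp (fun h => Units.ext h) (fun h => Units.ext (by simpa using h))
  let K : Subgroup (R : Subgroup (GL (Fin 2) F)) := ((powMonoidHom 2).comp Abelianization.of : _ →* Abelianization (R : Subgroup (GL (Fin 2) F))).ker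
  have hKiff : ∀ y, y ∈ K ↔ y ^ 2 ∈ commutator (R : Subgroup (GL (Fin 2) F)) := fun y => by
    show (Abelianization.of y) ^ 2 = 1 ↔ _
    rw [← map_pow, ← MonoidHom.mem_ker, Abelianization.ker_of]
  have hone : ∀ y : (R : Subgroup (GL (Fin 2) F)), Matrix.GeneralLinearGroup.det (y : GL (Fin 2) F) = 1 → y ∈ K := by
    intro y hy
    have hyQ : (⟨(y : GL (Fin 2) F), congrArg Units.val hy⟩ : SpecialLinearGroup (Fin 2) F) ∈ Q := by
      show SpecialLinearGroup.toGL _ ∈ (R : Subgroup (GL (Fin 2) F))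
      convert y.2 using 1
      exact Units.ext rfl
    have h := hQsq ⟨_, hQQ.ge hyQ⟩
    rw [hKiff]
    convert h using 2
    exact Subtype.ext (Units.ext rfl)
  rw [← hKiff]
  rcases hsign with h | h
  · exact hone x h
  · have hd : (⟨d, hdR⟩ : (R : Subgroup (GL (Fin 2) F))) ∈ K := by
      rw [hKiff, show (⟨d, hdR⟩ : (R : Subgroup (GL (Fin 2) F))) ^ 2 = 1 from Subtype.ext (by rw [pow_two]; exact hdd)]
      exact one_mem _
    have h1 := hone (x * ⟨d, hdR⟩) (by
      show Matrix.GeneralLinearGroup.det ((x : GL (Fin 2) F) * d) = 1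
      rw [map_mul, h, hdet, neg_mul_neg, one_mul])
    exact (K.mul_mem_cancel_right hd).mp h1

end Cfsg.Lib.Blocks.WreathAb
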