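import Mathlib
import Cfsg.Agent.Lib.Characters.Brauer
import Cfsg.Agent.Lib.Characters.Gallagher
import Cfsg.Agent.Lib.Characters.Normal
import Cfsg.Agent.Lib.Characters.Extension
import Cfsg.Agent.Lib.Characters.Integrality

/-!
# Wreath products with cyclic groups of prime order preserve monomiality
-/

set_option autoImplicit false
set_option linter.unusedSectionVars false

namespace Cfsg.Lib.Blocks.WreathMonomial

open Cfsg.Lib.Characters Finset
open scoped ComplexConjugate Classical commutatorElement

universe u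

/-- Every irreducible character is induced from a linear character. -/
def IsMon (M : Type u) [Group M] [Fintype M] : Prop :=
  ∀ χ : M → ℂ, IsIrrCharacter M χ → ∃ (H : Subgroup M) (lam : ↥H →* ℂˣ),
    χ = indFun H (fun h => (lam h : ℂ))

variable {ι : Type*} [Fintype ι] {M : Type u} [Group M] [Fintype M]

/-- The product of functions over the coordinates. -/
noncomputable def piFn (θ : ι → M → ℂ) : (ι → M) → ℂ := fun f => ∏ i, θ i (f i)

theorem isCharacter_piFn (θ : ι → M → ℂ) (h : ∀ i, IsCharacter M (θ i)) :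
    IsCharacter (ι → M) (piFn θ) := by
  have key : ∀ s : Finset ι, IsCharacter (ι → M) (fun f => ∏ i ∈ s, θ i (f i)) := by
    intro s
    induction s using Finset.induction_on with
    | empty => simpa using (isCharacter_one (G := ι → M))
    | insert a s ha ih =>
      have h1 : (fun f : ι → M => ∏ i ∈ insert a s, θ i (f i)) =
          (fun f => θ a (f a)) * fun f => ∏ i ∈ s, θ i (f i) := by
        funext f; simp [prod_insert ha]
      rw [h1]
      exact isCharacter_mul (isCharacter_comp (h a) (Pi.evalMonoidHom (fun _ : ι => M) a)) ih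
  exact key univ

theorem isIrrCharacter_piFn (θ : ι → IrrCharacter M) :
    IsIrrCharacter (ι → M) (piFn fun i => (θ i : M → ℂ)) := by
  refine isIrrCharacter_of_classInner_eq_one (isCharacter_piFn _ fun i => (θ i).2.isCharacter) ?_
  have h1 : ∀ i, (Nat.card M : ℂ)⁻¹ * ∑ x, (θ i : M → ℂ) x * conj ((θ i : M → ℂ) x) = 1 :=
    fun i => classInner_irr_self (θ i).2
  rw [classInner, Nat.card_fun, Nat.cast_pow, ← inv_pow]
  simp only [piFn, map_prod, ← prod_mul_distrib]
  rw [← Fintype.prod_sum (fun i x => (θ i : M → ℂ) x * conj ((θ i : M → ℂ) x)),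
    Nat.card_eq_fintype_card (α := ι), ← card_univ (α := ι), ← prod_const, ← prod_mul_distrib]
  exact prod_eq_one fun i _ => h1 i

theorem exists_eq_piFn {φ : (ι → M) → ℂ} (hφ : IsIrrCharacter (ι → M) φ) :
    ∃ θ : ι → IrrCharacter M, φ = piFn fun i => (θ i : M → ℂ) := by
  by_contra hcon
  push Not at hcon
  have h0 : ∀ θ : ι → IrrCharacter M, classInner (piFn fun i => (θ i : M → ℂ)) φ = 0 :=
    fun θ => classInner_irr_ne (isIrrCharacter_piFn θ) hφ (hcon θ).symm
  have hreg : ∀ f : ι → M, (∑ θ : ι → IrrCharacter M,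
      (∏ i, (θ i : M → ℂ) 1) * piFn (fun i => (θ i : M → ℂ)) f) =
      if f = 1 then (Nat.card (ι → M) : ℂ) else 0 := by
    intro f
    simp only [piFn, ← prod_mul_distrib]
    rw [← Fintype.prod_sum (fun i (ψ : IrrCharacter M) => (ψ : M → ℂ) 1 * (ψ : M → ℂ) (f i))]
    simp only [sum_degree_mul_irr]
    split_ifs with hf
    · subst hf
      simp [Nat.card_eq_fintype_card, card_univ]
    · obtain ⟨i, hi⟩ := Function.ne_iff.mp hf
      exact prod_eq_zero (mem_univ i) (by simp only [Pi.one_apply] at hi; simp [hi])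
  have hz : ∑ θ : ι → IrrCharacter M,
      (∏ i, (θ i : M → ℂ) 1) * classInner (piFn fun i => (θ i : M → ℂ)) φ = 0 := by simp [h0]
  simp only [classInner, mul_sum] at hz
  rw [sum_comm] at hz
  have hterm : ∀ f : ι → M, (∑ θ : ι → IrrCharacter M, (∏ i, (θ i : M → ℂ) 1) *
      ((Nat.card (ι → M) : ℂ)⁻¹ * (piFn (fun i => (θ i : M → ℂ)) f * conj (φ f)))) =
      if f = 1 then conj (φ f) else 0 := by
    intro f
    have h1 : (∑ θ : ι → IrrCharacter M, (∏ i, (θ i : M → ℂ) 1) *
        ((Nat.card (ι → M) : ℂ)⁻¹ * (piFn (fun i => (θ i : M → ℂ)) f * conj (φ f)))) =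
        (∑ θ : ι → IrrCharacter M, (∏ i, (θ i : M → ℂ) 1) * piFn (fun i => (θ i : M → ℂ)) f) *
        ((Nat.card (ι → M) : ℂ)⁻¹ * conj (φ f)) := by
      rw [sum_mul]; exact sum_congr rfl fun θ _ => by ring
    rw [h1, hreg]
    split_ifs
    · rw [mul_inv_cancel_left₀ (Nat.cast_ne_zero.mpr Nat.card_pos.ne')]
    · rw [zero_mul]
  rw [sum_congr rfl (fun f _ => hterm f), sum_ite_eq' univ (1 : ι → M), if_pos (mem_univ _),
    map_eq_zero] at hz
  exact hφ.one_ne_zero hz

/-- The product of linear characters on a product of subgroups. -/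
noncomputable def piLin (H : ι → Subgroup M) (lam : ∀ i, H i →* ℂˣ) :
    (Subgroup.pi (Set.univ : Set ι) H) →* ℂˣ where
  toFun f := ∏ i, lam i ⟨(f : ι → M) i, f.2 i (Set.mem_univ i)⟩
  map_one' := prod_eq_one fun i _ => map_one (lam i)
  map_mul' f g := by
    rw [← prod_mul_distrib]
    exact prod_congr rfl fun i _ => by rw [← map_mul]; rfl

theorem indFun_piLin (H : ι → Subgroup M) (lam : ∀ i, H i →* ℂˣ) :
    indFun (Subgroup.pi (Set.univ : Set ι) H) (fun f => (piLin H lam f : ℂ)) =
      piFn fun i => indFun (H i) (fun h => (lam i h : ℂ)) := by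
  funext f
  have hcard : Nat.card (Subgroup.pi (Set.univ : Set ι) H) = ∏ i, Nat.card (H i) := by
    rw [← Nat.card_pi]
    exact Nat.card_congr
      { toFun := fun g i => ⟨(g : ι → M) i, g.2 i (Set.mem_univ i)⟩
        invFun := fun g => ⟨fun i => (g i : M), fun i _ => (g i).2⟩
        left_inv := fun _ => rfl
        right_inv := fun _ => rfl }
  simp only [piFn, indFun, prod_mul_distrib, hcard, Nat.cast_prod, prod_inv_distrib]
  rw [Fintype.prod_sum]
  congr 1
  refine sum_congr rfl fun x _ => ?_
  by_cases hx : x⁻¹ * f * x ∈ Subgroup.pi (Set.univ : Set ι) H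
  · rw [extendByZero_mem _ hx]
    have h : ∀ i, (x i)⁻¹ * f i * x i ∈ H i := fun i => hx i (Set.mem_univ i)
    simp only [piLin, MonoidHom.coe_mk, OneHom.coe_mk, Units.coe_prod]
    exact prod_congr rfl fun i _ => (extendByZero_mem (fun h => (lam i h : ℂ)) (h i)).symm
  · rw [extendByZero_not_mem _ hx]
    rw [Subgroup.mem_pi] at hx
    push Not at hx
    obtain ⟨i, -, hi⟩ := hx
    refine Eq.symm (prod_eq_zero (mem_univ i) ?_)
    exact extendByZero_not_mem (H := H i) _ hi

theorem isMon_pi (hM : IsMon M) : IsMon (ι → M) := by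
  intro φ hφ
  obtain ⟨θ, rfl⟩ := exists_eq_piFn hφ
  choose H lam h using fun i => hM _ (θ i).2
  exact ⟨_, piLin H lam, by rw [indFun_piLin]; congr 1; funext i; exact h i⟩

theorem isMon_of_mulEquiv {N : Type u} [Group N] [Fintype N] (e : M ≃* N) (hN : IsMon N) :
    IsMon M := by
  intro χ hχ
  obtain ⟨H, lam, h⟩ := hN _ (isIrrCharacter_mulEquiv hχ e.symm)
  let f : (H.comap e.toMonoidHom) →* H :=
    { toFun := fun x => ⟨e x, x.2⟩
      map_one' := Subtype.ext (map_one e)
      map_mul' := fun a b => Subtype.ext (map_mul e _ _) }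
  refine ⟨H.comap e.toMonoidHom, lam.comp f, ?_⟩
  funext g
  have h' := congrFun h (e g)
  simp only [MulEquiv.symm_apply_apply] at h'
  rw [h']
  simp only [indFun]
  rw [Nat.card_congr (({ toFun := fun x => ⟨e x, x.2⟩
                         invFun := fun y => ⟨e.symm y, show e (e.symm y) ∈ H by simp⟩
                         left_inv := fun x => Subtype.ext (e.symm_apply_apply x)
                         right_inv := fun y => Subtype.ext (e.apply_symm_apply y) } :
      (H.comap e.toMonoidHom) ≃ H))]
  congr 1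
  refine (Fintype.sum_equiv e.toEquiv _ _ fun x => ?_).symm
  rw [MulEquiv.toEquiv_eq_coe, EquivLike.coe_coe, ← map_inv, ← map_mul, ← map_mul]
  by_cases hx : x⁻¹ * g * x ∈ H.comap e.toMonoidHom
  · rw [extendByZero_mem _ hx, extendByZero_mem _ (show e (x⁻¹ * g * x) ∈ H from hx)]
    rfl
  · rw [extendByZero_not_mem _ hx, extendByZero_not_mem _ (show e (x⁻¹ * g * x) ∉ H from hx)]

variable {Q : Type u} [Group Q] [Fintype Q]

/-- The base group of a wreath product. -/
def baseEquiv : (RegularWreathProduct.rightHom (D := M) (Q := Q)).ker ≃* (Q → M) where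
  toFun b := (b : M ≀ᵣ Q).left
  invFun f := ⟨⟨f, 1⟩, rfl⟩
  left_inv b := Subtype.ext (RegularWreathProduct.ext rfl (MonoidHom.mem_ker.mp b.2).symm)
  right_inv _ := rfl
  map_mul' a b := by
    have ha : (a : M ≀ᵣ Q).right = 1 := MonoidHom.mem_ker.mp a.2
    funext x
    simp [ha]

/-- The wreath product of an M-group with a group of prime order is an M-group. -/
theorem isMon_wreath (hM : IsMon M) (hQ : (Nat.card Q).Prime) [Fintype (M ≀ᵣ Q)] :
    IsMon (M ≀ᵣ Q) := by
  intro χ hχ
  set B := (RegularWreathProduct.rightHom (D := M) (Q := Q)).ker with hB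
  haveI : Fintype B := Fintype.ofFinite B
  have hBidx : B.index = Nat.card Q := by
    rw [hB, Subgroup.index_ker, MonoidHom.range_eq_top.mpr
      (fun q => ⟨RegularWreathProduct.inl q, rfl⟩), Subgroup.card_top]
  obtain ⟨m₀, hm₀⟩ := exists_decomposition (isCharacter_restrict hχ.isCharacter B)
  obtain ⟨θ, hθ0⟩ : ∃ θ : IrrCharacter B, m₀ θ ≠ 0 := by
    by_contra hall
    push Not at hall
    have h1 := congrFun hm₀ 1
    simp only [hall, Nat.cast_zero, zero_smul, sum_const_zero, Pi.zero_apply] at h1
    exact hχ.one_ne_zero (by simpa using h1)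
  have hne : classInner (fun n : B => χ n) (θ : B → ℂ) ≠ 0 := by
    rw [hm₀, classInner_sum_irr]; exact_mod_cast hθ0
  set I := inertia B (θ : B → ℂ) with hI
  have hBI : B ≤ I := le_inertia θ.2.isClassFunction
  have hIcase : I = B ∨ I = ⊤ := by
    rcases hQ.eq_one_or_self_of_dvd _ (hBidx ▸ Subgroup.index_dvd_of_le hBI) with h | h
    · exact Or.inr (Subgroup.index_eq_one.mp h)
    · refine Or.inl (le_antisymm (Subgroup.relIndex_eq_one.mp ?_) hBI)
      have h1 := Subgroup.relIndex_mul_index hBI
      rw [h, hBidx] at h1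
      exact mul_eq_right₀ hQ.ne_zero |>.mp h1
  have hBmon : IsMon B := isMon_of_mulEquiv baseEquiv (isMon_pi hM)
  rcases hIcase with hI' | hI'
  · -- induced case
    obtain ⟨E, lam, hE⟩ := hBmon _ θ.2
    have hirr : IsIrrCharacter (M ≀ᵣ Q) (indFun B (θ : B → ℂ)) :=
      (isIrrCharacter_indFun_iff θ.2).mpr hI'
    have hχeq : χ = indFun B (θ : B → ℂ) := by
      by_contra hd
      have := classInner_irr_ne hirr hχ fun h => hd h.symm
      rw [classInner_indFun B _ hχ.isClassFunction, ← conj_classInner, map_eq_zero] at this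
      exact hne this
    refine ⟨E.map B.subtype, lam.comp
      (E.equivMapOfInjective B.subtype Subtype.val_injective).symm.toMonoidHom, ?_⟩
    rw [hχeq, hE, indFun_indFun]
    rfl
  · -- invariant case
    have hinv : ∀ w, conjFn B (θ : B → ℂ) w = θ := fun w => (hI' ▸ Subgroup.mem_top w : w ∈ I)
    obtain ⟨t, ht⟩ := exists_eq_piFn (isIrrCharacter_mulEquiv θ.2 baseEquiv.symm)
    set θ₀ := (t 1 : M → ℂ) with hθ₀
    have heq : ∀ q, (t q : M → ℂ) = θ₀ := by
      intro r
      -- compare on elements supported at one coordinate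
      have hshift : ∀ f : Q → M, piFn (fun i => (t i : M → ℂ)) (fun x => f (r⁻¹ * x)) =
          piFn (fun i => (t i : M → ℂ)) f := by
        intro f
        rw [← ht]
        have h := congrFun (hinv (RegularWreathProduct.inl r)) (baseEquiv.symm f)
        rw [conjFn_apply] at h
        refine Eq.trans ?_ h
        refine congrArg (θ : B → ℂ) (Subtype.ext (RegularWreathProduct.ext ?_ ?_))
        · funext x
          show f (r⁻¹ * x) = ((RegularWreathProduct.inl r : M ≀ᵣ Q) * (⟨f, 1⟩ : M ≀ᵣ Q) *
            (RegularWreathProduct.inl r)⁻¹).left x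
          simp
        · show (1 : Q) = ((RegularWreathProduct.inl r : M ≀ᵣ Q) * (⟨f, 1⟩ : M ≀ᵣ Q) *
            (RegularWreathProduct.inl r)⁻¹).right
          simp
      set D := fun i => ∏ j ∈ univ.erase i, (t j : M → ℂ) 1 with hD
      have hsingle : ∀ (i : Q) (x : M), piFn (fun j => (t j : M → ℂ)) (Pi.mulSingle i x) =
          (t i : M → ℂ) x * D i := by
        intro i x
        rw [piFn, ← mul_prod_erase univ _ (mem_univ i), Pi.mulSingle_eq_same, hD]
        congr 1
        exact prod_congr rfl fun j hj => by rw [Pi.mulSingle_eq_of_ne (ne_of_mem_erase hj)]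
      have hkey : ∀ x, (t r : M → ℂ) x * D r = θ₀ x * D 1 := by
        intro x
        rw [← hsingle r x, hθ₀, ← hsingle 1 x, ← hshift (Pi.mulSingle 1 x)]
        congr 1
        funext y
        by_cases hy : y = r
        · subst hy; simp
        · rw [Pi.mulSingle_eq_of_ne hy, Pi.mulSingle_eq_of_ne]
          intro h; exact hy (inv_mul_eq_one.mp h).symm
      have hD0 : D r ≠ 0 := prod_ne_zero_iff.mpr fun j _ => (t j).2.one_ne_zero
      by_contra hd
      have h0 := classInner_irr_ne (t r).2 (t 1).2 hd
      have h1 : classInner (D r • (t r : M → ℂ)) θ₀ = classInner (D 1 • θ₀) θ₀ := by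
        congr 1; funext x; simp only [Pi.smul_apply, smul_eq_mul]; rw [mul_comm, hkey, mul_comm]
      rw [classInner_smul_left, classInner_smul_left, h0, classInner_irr_self (t 1).2, mul_zero,
        mul_one] at h1
      exact (prod_ne_zero_iff.mpr fun j _ => (t j).2.one_ne_zero : D 1 ≠ 0) h1.symm
    obtain ⟨H, lam, hH⟩ := hM θ₀ (t 1).2
    let L : Subgroup (M ≀ᵣ Q) :=
      { carrier := {w | ∀ x, w.left x ∈ H}
        one_mem' := fun x => H.one_mem
        mul_mem' := fun {a b} ha hb x => by simpa using H.mul_mem (ha x) (hb _)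
        inv_mem' := fun {a} ha x => by simpa using H.inv_mem (ha _) }
    let Λ : L →* ℂˣ :=
      { toFun := fun w => ∏ x, lam ⟨(w : M ≀ᵣ Q).left x, w.2 x⟩
        map_one' := prod_eq_one fun x _ => map_one lam
        map_mul' := fun a b => by
          have h1 : ∏ x, lam ⟨(b : M ≀ᵣ Q).left x, b.2 x⟩ =
              ∏ x, lam ⟨(b : M ≀ᵣ Q).left ((a : M ≀ᵣ Q).right⁻¹ * x), b.2 _⟩ :=
            (Fintype.prod_equiv (Equiv.mulLeft (a : M ≀ᵣ Q).right⁻¹) _ _ fun x => rfl).symm
          rw [h1, ← prod_mul_distrib]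
          refine prod_congr rfl fun x _ => ?_
          rw [← map_mul]
          rfl }
    haveI : Fintype L := Fintype.ofFinite L
    set ξ := indFun L (fun w => (Λ w : ℂ)) with hξ
    have hξres : ∀ b : B, ξ b = (θ : B → ℂ) b := by
      intro b
      have hb1 : (b : M ≀ᵣ Q).right = 1 := MonoidHom.mem_ker.mp b.2
      have hθb : (θ : B → ℂ) b = piFn (fun _ : Q => θ₀) (baseEquiv b) := by
        have h := congrFun ht (baseEquiv b)
        simp only [MulEquiv.symm_apply_apply] at h
        rw [h]
        simp only [piFn, heq]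
      rw [hθb, hH, ← indFun_piLin (fun _ => H) (fun _ => lam)]
      set P := Subgroup.pi (Set.univ : Set Q) (fun _ => H) with hP
      set F := extendByZero P (fun f => (piLin (fun _ => H) (fun _ => lam) f : ℂ)) with hF
      have hcard : Nat.card L = Nat.card P * Nat.card Q := by
        rw [← Nat.card_prod]
        exact Nat.card_congr
          { toFun := fun w => (⟨(w : M ≀ᵣ Q).left, fun x _ => w.2 x⟩, (w : M ≀ᵣ Q).right)
            invFun := fun p => ⟨⟨(p.1 : Q → M), p.2⟩, fun x => p.1.2 x (Set.mem_univ x)⟩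
            left_inv := fun _ => rfl
            right_inv := fun _ => rfl }
      have hterm : ∀ (c : Q → M) (q : Q),
          extendByZero L (fun w => (Λ w : ℂ)) ((⟨c, q⟩ : M ≀ᵣ Q)⁻¹ * b * ⟨c, q⟩) =
            F (c⁻¹ * baseEquiv b * c) := by
        intro c q
        have hleft : ∀ x, ((⟨c, q⟩ : M ≀ᵣ Q)⁻¹ * b * ⟨c, q⟩).left x =
            (c⁻¹ * baseEquiv b * c) (q * x) := by
          intro x
          simp [baseEquiv, hb1]
        by_cases hmem : c⁻¹ * baseEquiv b * c ∈ P
        · have hL : ((⟨c, q⟩ : M ≀ᵣ Q)⁻¹ * b * ⟨c, q⟩) ∈ L := fun x => by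
            rw [hleft]; exact hmem _ (Set.mem_univ _)
          rw [hF, extendByZero_mem _ hmem, extendByZero_mem _ hL]
          simp only [piLin, Λ, MonoidHom.coe_mk, OneHom.coe_mk, Units.coe_prod]
          exact Fintype.prod_equiv (Equiv.mulLeft q) _ _ fun x =>
            congrArg (fun z => (lam z : ℂ)) (Subtype.ext (hleft x))
        · have hL : ((⟨c, q⟩ : M ≀ᵣ Q)⁻¹ * b * ⟨c, q⟩) ∉ L := fun h => hmem fun y _ => by
            have := h (q⁻¹ * y)
            rwa [hleft, mul_inv_cancel_left] at this
          rw [hF, extendByZero_not_mem _ hmem, extendByZero_not_mem _ hL]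
      rw [hξ]
      simp only [indFun]
      rw [Fintype.sum_equiv (RegularWreathProduct.equivProd M Q) _
        (fun p => F (p.1⁻¹ * baseEquiv b * p.1)) (fun w => hterm w.left w.right),
        Fintype.sum_prod_type]
      simp only [sum_const, card_univ, nsmul_eq_mul, ← mul_sum, ← Nat.card_eq_fintype_card, hcard,
        Nat.cast_mul, mul_inv]
      rw [mul_assoc, inv_mul_cancel_left₀ (Nat.cast_ne_zero.mpr Nat.card_pos.ne')]
    have hθres : IsIrrCharacter B fun b : B => ξ b := by
      rw [funext hξres]; exact θ.2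
    have hξc : IsCharacter (M ≀ᵣ Q) ξ := isCharacter_indFun L (isIrrCharacter_linear Λ).isCharacter
    have hξirr : IsIrrCharacter (M ≀ᵣ Q) ξ := isIrrCharacter_of_comp B.subtype hξc hθres
    obtain ⟨e, he, -, he1⟩ := multiplicity_dvd_index θ.2 hinv hχ hne
    have hcyc : IsCyclic ((M ≀ᵣ Q) ⧸ B) := by
      haveI := Fact.mk hQ
      exact isCyclic_of_prime_card (p := Nat.card Q) (by rw [← Subgroup.index_eq_card, hBidx])
    obtain ⟨μ, -, hμ⟩ := exists_linear_of_extensions (M := B) hξirr hχ
      (fun b => by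
        have h := congrFun he b
        simp only [he1 hcyc, Nat.cast_one, one_smul] at h
        exact h.trans (hξres b).symm) hθres
    refine ⟨L, Λ * μ.comp L.subtype, ?_⟩
    funext g
    have h1 := congrFun (indFun_mul L (fun w => (Λ w : ℂ)) (χ := fun g => (μ g : ℂ))
      (isIrrCharacter_linear μ).isClassFunction) g
    rw [← hμ g, mul_comm]
    simpa [hξ] using h1

/-- A finite nontrivial solvable group has a normal subgroup of prime index. -/
theorem exists_normal_prime_index' {G : Type u} [Group G] [Finite G] [Nontrivial G]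
    (hs : Group.IsSolvable G) : ∃ N : Subgroup G, N.Normal ∧ N.index.Prime := by
  haveI := hs
  have hne : commutator G ≠ ⊤ := (Group.IsSolvable.commutator_lt_top_of_nontrivial G).ne
  obtain ⟨K, hK, hGK⟩ := (eq_top_or_exists_le_coatom (commutator G)).resolve_left hne
  haveI hKn : K.Normal := ⟨fun x hx g => by
    have h1 : ⁅g, x⁆ ∈ K := hGK (Subgroup.commutator_mem_commutator (Subgroup.mem_top _) (Subgroup.mem_top _))
    rw [commutatorElement_def] at h1
    simpa using K.mul_mem h1 hx⟩
  haveI hsimple : IsSimpleGroup (G ⧸ K) := by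
    haveI : Nontrivial (G ⧸ K) := QuotientGroup.nontrivial_iff.mpr hK.1
    refine ⟨fun H _ => ?_⟩
    have hle : K ≤ H.comap (QuotientGroup.mk' K) := fun k hk => by
      rw [Subgroup.mem_comap, QuotientGroup.mk'_apply, (QuotientGroup.eq_one_iff k).mpr hk]
      exact one_mem _
    rcases hle.lt_or_eq with h | h
    · right
      rw [← Subgroup.map_comap_eq_self_of_surjective (QuotientGroup.mk'_surjective K) H, hK.2 _ h,
        Subgroup.map_top_of_surjective _ (QuotientGroup.mk'_surjective K)]
    · left
      rw [← Subgroup.map_comap_eq_self_of_surjective (QuotientGroup.mk'_surjective K) H, ← h,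
        QuotientGroup.map_mk'_self]
  letI : CommGroup (G ⧸ K) :=
    { (inferInstance : Group (G ⧸ K)) with
      mul_comm := fun a b => by
        induction a using QuotientGroup.induction_on with
        | _ x =>
          induction b using QuotientGroup.induction_on with
          | _ y =>
            rw [← QuotientGroup.mk_mul, ← QuotientGroup.mk_mul, QuotientGroup.eq]
            have : ⁅y⁻¹, x⁻¹⁆ ∈ K :=
              hGK (Subgroup.commutator_mem_commutator (Subgroup.mem_top _) (Subgroup.mem_top _))
            rw [commutatorElement_def, inv_inv, inv_inv] at this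
            rw [mul_inv_rev]
            simpa [mul_assoc] using this }
  exact ⟨K, hKn, Subgroup.index_eq_card K ▸ IsSimpleGroup.prime_card⟩

/-- Embedding into an iterated wreath product which is an M-group. -/
theorem exists_isMon_embedding : ∀ (n : ℕ) (G : Type u) [Group G] [Finite G], Nat.card G = n →
    Group.IsSolvable G → ∃ (M : Type u) (_ : Group M) (_ : Fintype M),
      IsMon M ∧ ∃ f : G →* M, Function.Injective f := by
  intro n
  induction n using Nat.strong_induction_on with
  | _ n ih =>
  intro G _ _ hn hs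
  by_cases hG : Nontrivial G
  · obtain ⟨N, hN, hp⟩ := exists_normal_prime_index' hs
    haveI := hN
    haveI := hs
    obtain ⟨M, _, _, hM, j, hj⟩ := ih (Nat.card N) (by
      rw [← hn, ← Subgroup.card_mul_index N]
      exact lt_mul_right Nat.card_pos hp.one_lt) N rfl inferInstance
    haveI : Fintype (G ⧸ N) := Fintype.ofFinite _
    haveI : Fintype (M ≀ᵣ (G ⧸ N)) := Fintype.ofFinite _
    refine ⟨M ≀ᵣ (G ⧸ N), inferInstance, inferInstance,
      isMon_wreath hM (by rw [← Subgroup.index_eq_card]; exact hp), ?_⟩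
    let π := QuotientGroup.mk' N
    let t : G ⧸ N → G := fun x => x.out
    have ht : ∀ x, π (t x) = x := fun x => QuotientGroup.out_eq' x
    let c : G → G ⧸ N → N := fun g x =>
      ⟨(t x)⁻¹ * g * t ((π g)⁻¹ * x), by
        rw [← QuotientGroup.eq_one_iff]
        show π _ = 1
        simp only [map_mul, map_inv, ht]
        group⟩
    have hc : ∀ g h x, c (g * h) x = c g x * c h ((π g)⁻¹ * x) := by
      intro g h x
      refine Subtype.ext ?_
      simp only [c, Subgroup.coe_mul, map_mul, mul_inv_rev, mul_assoc]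
      group
    refine ⟨{ toFun := fun g => ⟨fun x => j (c g x), π g⟩, map_one' := ?_, map_mul' := ?_ }, ?_⟩
    · refine RegularWreathProduct.ext (funext fun x => ?_) (map_one π)
      have : c 1 x = 1 := Subtype.ext (by simp [c])
      simp [this]
    · intro g h
      refine RegularWreathProduct.ext (funext fun x => ?_) (map_mul π g h)
      simp [hc]
    · rw [injective_iff_map_eq_one]
      intro g hg
      have h1 : π g = 1 := congrArg RegularWreathProduct.right hg
      have h2 : j (c g 1) = 1 := congrFun (congrArg RegularWreathProduct.left hg) 1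
      have h3 := congrArg Subtype.val (hj (h2.trans (map_one j).symm))
      simp only [c, h1, inv_one, one_mul, OneMemClass.coe_one] at h3
      calc g = t 1 * ((t 1)⁻¹ * g * t 1) * (t 1)⁻¹ := by group
        _ = 1 := by rw [h3]; group
  · haveI : Subsingleton G := not_nontrivial_iff_subsingleton.mp hG
    refine ⟨PUnit.{u + 1}, inferInstance, inferInstance, fun χ hχ => ⟨⊤, 1, ?_⟩, 1,
      Function.injective_of_subsingleton _⟩
    obtain ⟨lam, hlam⟩ := exists_hom_of_degree_one hχ.isCharacter
      (degree_one_of_isMulCommutative hχ)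
    rw [← indFun_top hχ.isClassFunction]
    congr 1
    funext x
    rw [hlam, Subsingleton.elim (x : PUnit.{u+1}) 1]
    simp [show lam PUnit.unit = 1 from map_one lam]

end Cfsg.Lib.Blocks.WreathMonomial
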