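import Cfsg.Agent.Lib.Blocks.Galois
import Cfsg.Agent.Lib.Characters.Degree

/-!
# Counting non-zero values of a character outside a subgroup
-/

set_option autoImplicit false
open Cfsg Cfsg.Lib.Characters
open scoped ComplexConjugate

universe u

namespace Cfsg.Lib.Blocks

variable {G : Type u} [Group G]

/-- Outside a subgroup `H`, an irreducible character has at most `#G - #H [χ_H, χ_H]` non-zero
values. -/
theorem nonzero_outside_le [Finite G] (H : Subgroup G) {χ : G → ℂ} (hχ : IsIrrCharacter G χ) :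
    ∃ r : ℕ, Nat.card {g : G // g ∉ H ∧ χ g ≠ 0} ≤ r ∧
      ((r : ℝ) + ∑ᶠ h : H, ‖χ h‖ ^ 2 = Nat.card G) := by
  classical
  haveI := Fintype.ofFinite G
  obtain ⟨a, ha⟩ := classInner_nat (isCharacter_restrict hχ.isCharacter H)
    (isCharacter_restrict hχ.isCharacter H)
  have hH0 : (Nat.card H : ℂ) ≠ 0 := Nat.cast_ne_zero.2 Nat.card_pos.ne'
  rw [classInner, inv_mul_eq_iff_eq_mul₀ hH0] at ha
  have hnorm := classInner_irr_self hχ
  rw [classInner, inv_mul_eq_iff_eq_mul₀ (Nat.cast_ne_zero.2 Nat.card_pos.ne'), mul_one] at hnorm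
  have hsq : ∀ z : ℂ, z * conj z = ((‖z‖ ^ 2 : ℝ) : ℂ) := fun z => by
    rw [Complex.mul_conj']; push_cast; rfl
  have hsumH : ∑ g ∈ Finset.univ.filter (· ∈ H), χ g * conj (χ g) = ∑ h : H, χ h * conj (χ h) :=
    Finset.sum_subtype _ (fun g => by simp) fun g => χ g * conj (χ g)
  have hsplit : ∑ g : G, χ g * conj (χ g) = (∑ h : H, χ h * conj (χ h)) +
      ∑ g : {g : G // g ∉ H ∧ χ g ≠ 0}, χ g * conj (χ g) := by
    rw [← Finset.sum_filter_add_sum_filter_not Finset.univ (· ∈ H), hsumH,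
      ← Finset.sum_filter_ne_zero (s := Finset.univ.filter fun g => g ∉ H), Finset.filter_filter]
    congr 1
    exact Finset.sum_subtype _ (fun g => by simp) fun g => χ g * conj (χ g)
  set S := ∑ g : {g : G // g ∉ H ∧ χ g ≠ 0}, χ g * conj (χ g) with hS
  have hSr : S = ((∑ g : {g : G // g ∉ H ∧ χ g ≠ 0}, ‖χ g‖ ^ 2 : ℝ) : ℂ) := by
    rw [hS]; push_cast
    exact Finset.sum_congr rfl fun g _ => by rw [hsq]; push_cast; rfl
  rw [hsplit, ha] at hnorm
  have hle : Nat.card H * a ≤ Nat.card G := by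
    have h1 : ((Nat.card G : ℝ) : ℂ) = ((Nat.card H * a : ℕ) : ℝ) + S := by
      push_cast
      exact hnorm.symm
    have h2 : (Nat.card G : ℝ) = ((Nat.card H * a : ℕ) : ℝ) +
        ∑ g : {g : G // g ∉ H ∧ χ g ≠ 0}, ‖χ g‖ ^ 2 := by
      rw [hSr] at h1; exact_mod_cast h1
    have h3 : 0 ≤ ∑ g : {g : G // g ∉ H ∧ χ g ≠ 0}, ‖χ g‖ ^ 2 := by positivity
    have h4 : ((Nat.card H * a : ℕ) : ℝ) ≤ (Nat.card G : ℝ) := by linarith
    exact_mod_cast h4
  obtain ⟨r, hr⟩ : ∃ r, Nat.card G = Nat.card H * a + r := ⟨_, (Nat.add_sub_cancel' hle).symm⟩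
  have hSeq : S = (r : ℂ) := by
    rw [hr] at hnorm
    push_cast at hnorm
    linear_combination hnorm
  refine ⟨r, ?_, ?_⟩
  · rw [Nat.card_eq_fintype_card]
    exact card_le_of_sum_mul_conj Nat.card_pos (fun g : {g : G // g ∉ H ∧ χ g ≠ 0} => χ g)
      (fun g => char_mem_rootField hχ.isCharacter _ (orderOf_dvd_natCard _))
      (fun g => char_isIntegral hχ.isCharacter _) (fun g => g.2.2) r hSeq
  · have h1 : ((∑ h : H, ‖χ h‖ ^ 2 : ℝ) : ℂ) = ((Nat.card H * a : ℕ) : ℂ) := by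
      push_cast
      rw [← ha]
      exact Finset.sum_congr rfl fun h _ => by rw [hsq]; push_cast; rfl
    have h2 : (∑ h : H, ‖χ h‖ ^ 2 : ℝ) = ((Nat.card H * a : ℕ) : ℝ) := by exact_mod_cast h1
    rw [finsum_eq_sum_of_fintype, h2, hr]
    push_cast
    ring

/-- The centre `Z(χ)` of a character, as a subgroup. -/
noncomputable def normKer [Finite G] {χ : G → ℂ} (hχ : IsCharacter G χ) : Subgroup G where
  carrier := {g | ‖χ g‖ = (χ 1).re}
  one_mem' := by
    obtain ⟨d, hd⟩ := exists_degree hχ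
    simp [hd]
  mul_mem' {a b} ha hb := by
    obtain ⟨n, ρ, rfl⟩ := hχ
    simp only [Set.mem_setOf_eq, Representation.char_one, Complex.natCast_re] at *
    rw [norm_eq_iff_scalar] at *
    obtain ⟨x, hx⟩ := ha
    obtain ⟨y, hy⟩ := hb
    exact ⟨x * y, by rw [map_mul, hx, hy, smul_mul_smul_comm]; rfl⟩
  inv_mem' {a} ha := by
    simp only [Set.mem_setOf_eq] at *
    rw [char_inv_eq_conj hχ, Complex.norm_conj, ha]

theorem mem_normKer [Finite G] {χ : G → ℂ} (hχ : IsCharacter G χ) {g : G} :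
    g ∈ normKer hχ ↔ ‖χ g‖ = (χ 1).re := Iff.rfl

end Cfsg.Lib.Blocks
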